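import Cfsg.Agent.Lib.EqualOrder.Linear
import Cfsg.Prelude.Def_Perm
import Mathlib.FieldTheory.Finite.GaloisField

/-!
# Orders of the one-dimensional affine and semi-affine groups of order dividing 4960
-/

set_option autoImplicit false
set_option linter.unusedSectionVars false
set_option linter.style.haveILetI false

namespace CfsgLib.EqConj

variable {F : Type*} [Field F] [Finite F]

theorem card_semiaffine :
    Nat.card (Cfsg.semiaffineGroup F) = Nat.card Fˣ * Nat.card F * Nat.card (F ≃+* F) := by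
  let f : Fˣ × F × (F ≃+* F) → Cfsg.semiaffineGroup F := fun x =>
    ⟨(x.2.2.toEquiv.trans ((Equiv.mulLeft₀ (x.1 : F) x.1.ne_zero).trans (Equiv.addRight x.2.1))),
      x.1, x.2.1, x.2.2, fun y => rfl⟩
  have hf : Function.Bijective f := by
    refine ⟨fun x x' h => ?_, fun g => ?_⟩
    · have h' : ∀ y, (x.1 : F) * x.2.2 y + x.2.1 = (x'.1 : F) * x'.2.2 y + x'.2.1 := fun y =>
        congrArg (fun g : Cfsg.semiaffineGroup F => (g : Equiv.Perm F) y) h
      have hb : x.2.1 = x'.2.1 := by simpa using h' 0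
      have ha : (x.1 : F) = x'.1 := by have := h' 1; simpa [hb] using this
      refine Prod.ext (Units.ext ha) (Prod.ext hb (RingEquiv.ext fun y => ?_))
      have := h' y
      rw [hb, ha] at this
      exact mul_left_cancel₀ x'.1.ne_zero (add_right_cancel this)
    · obtain ⟨a, b, φ, h⟩ := g.2
      exact ⟨(a, b, φ), Subtype.ext (Equiv.ext fun y => (h y).symm)⟩
  rw [← Nat.card_congr (Equiv.ofBijective f hf), Nat.card_prod, Nat.card_prod, mul_assoc]

theorem card_affine : Nat.card (Cfsg.affineGroup F) = Nat.card Fˣ * Nat.card F := by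
  let f : Fˣ × F → Cfsg.affineGroup F := fun x =>
    ⟨((Equiv.mulLeft₀ (x.1 : F) x.1.ne_zero).trans (Equiv.addRight x.2)), x.1, x.2, fun y => rfl⟩
  have hf : Function.Bijective f := by
    refine ⟨fun x x' h => ?_, fun g => ?_⟩
    · have h' : ∀ y, (x.1 : F) * y + x.2 = (x'.1 : F) * y + x'.2 := fun y =>
        congrArg (fun g : Cfsg.affineGroup F => (g : Equiv.Perm F) y) h
      have hb : x.2 = x'.2 := by simpa using h' 0
      have ha : (x.1 : F) = x'.1 := by have := h' 1; simpa [hb] using this
      exact Prod.ext (Units.ext ha) hb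
    · obtain ⟨a, b, h⟩ := g.2
      exact ⟨(a, b), Subtype.ext (Equiv.ext fun y => (h y).symm)⟩
  rw [← Nat.card_congr (Equiv.ofBijective f hf), Nat.card_prod]

theorem card_semiaffine_galois {n : ℕ} (hn : n ≠ 0) :
    Nat.card (Cfsg.semiaffineGroup (GaloisField 2 n)) = (2 ^ n - 1) * 2 ^ n * n := by
  rw [card_semiaffine, Nat.card_units, GaloisField.card 2 n hn,
    EqualOrder.card_galoisAut 2 (F := GaloisField 2 n) (GaloisField.card 2 n hn)]

theorem card_affine_galois {n : ℕ} (hn : n ≠ 0) :
    Nat.card (Cfsg.affineGroup (GaloisField 2 n)) = (2 ^ n - 1) * 2 ^ n := by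
  rw [card_affine, Nat.card_units, GaloisField.card 2 n hn]

end CfsgLib.EqConj
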