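import Cfsg.Agent.Lib.Invol.EqualOrderConj.Basic
import Cfsg.Agent.Lib.Invol.EqualOrderConj.Affine
import Cfsg.Agent.Lib.FT.NoMinSimple
import Cfsg.Agent.S4025
import Mathlib.GroupTheory.Transfer

/-!
# The normaliser of an elementary Sylow 2-subgroup
-/

set_option autoImplicit false
set_option linter.unusedSectionVars false
set_option linter.style.haveILetI false

namespace CfsgLib.EqConj

open Subgroup

universe u

variable {G : Type u} [Group G] [Finite G]

/-- The odd core of the normaliser of `S`. -/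
def oddPart (S : Sylow 2 G) : Subgroup G :=
  (Cfsg.pPrimeCore 2 (normalizer ((S : Subgroup G) : Set G))).map
    (normalizer ((S : Subgroup G) : Set G)).subtype

variable (S : Sylow 2 G)

theorem oddPart_le : oddPart S ≤ normalizer ((S : Subgroup G) : Set G) := map_subtype_le _

theorem oddPart_odd : Odd (Nat.card (oddPart S)) := by
  rw [oddPart, card_map_of_injective (normalizer _).subtype_injective, ← Nat.not_even_iff_odd,
    even_iff_two_dvd]
  exact Coprime.pPrimeCore_not_dvd Nat.prime_two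

theorem oddPart_conj {n w : G} (hn : n ∈ normalizer ((S : Subgroup G) : Set G))
    (hw : w ∈ oddPart S) : n * w * n⁻¹ ∈ oddPart S := by
  obtain ⟨x, hx, rfl⟩ := hw
  haveI : (Cfsg.pPrimeCore 2 (normalizer ((S : Subgroup G) : Set G))).Characteristic :=
    Coprime.pPrimeCore_characteristic 2
  exact ⟨⟨n, hn⟩ * x * ⟨n, hn⟩⁻¹, Subgroup.Normal.conj_mem inferInstance x hx _, rfl⟩

theorem disjoint_S_oddPart {x : G} (hS : x ∈ (S : Subgroup G)) (hW : x ∈ oddPart S) : x = 1 := by
  obtain ⟨k, hk⟩ := S.2 ⟨x, hS⟩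
  have hk' : x ^ 2 ^ k = 1 := congrArg Subtype.val hk
  exact Invol.eq_one_of_odd_of_pow_two
    ((oddPart_odd S).of_dvd_nat (Subgroup.orderOf_dvd_natCard _ hW)) hk'

theorem oddPart_commute {w s : G} (hw : w ∈ oddPart S) (hs : s ∈ (S : Subgroup G)) :
    w * s = s * w := by
  have hwN := oddPart_le S hw
  have h1 : w * s * w⁻¹ * s⁻¹ ∈ (S : Subgroup G) :=
    mul_mem ((mem_normalizer_iff.1 hwN s).1 hs) (inv_mem hs)
  have h2 : w * s * w⁻¹ * s⁻¹ ∈ oddPart S := by
    rw [show w * s * w⁻¹ * s⁻¹ = w * (s * w⁻¹ * s⁻¹) by group]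
    exact mul_mem hw (oddPart_conj S (le_normalizer hs) (inv_mem hw))
  exact mul_inv_eq_iff_eq_mul.1 (mul_inv_eq_one.1 (disjoint_S_oddPart S h1 h2))

/-- `C(S)` is `S × O(N(S))`. -/
theorem cent_prod (hS : Cfsg.IsElementaryAbelian 2 (S : Subgroup G)) {x : G}
    (hx : x ∈ centralizer ((S : Subgroup G) : Set G)) :
    ∃ s ∈ (S : Subgroup G), ∃ w ∈ oddPart S, x = s * w := by
  haveI := Fact.mk Nat.prime_two
  set C := centralizer ((S : Subgroup G) : Set G) with hC
  have hSC : (S : Subgroup G) ≤ C := fun s hs => mem_centralizer_iff.2 fun t ht =>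
    congrArg Subtype.val (hS.1.is_comm.comm (⟨t, ht⟩ : (S : Subgroup G)) ⟨s, hs⟩)
  set S' := S.subtype hSC with hS'
  have hcen : ∀ s : C, s ∈ (S' : Subgroup C) → ∀ c : C, c * s = s * c := fun s hs c =>
    Subtype.ext ((mem_centralizer_iff.1 c.2 s hs).symm)
  have hN : normalizer ((S' : Subgroup C) : Set C) ≤ centralizer ((S' : Subgroup C) : Set C) :=
    fun c _ => mem_centralizer_iff.2 fun s hs => (hcen s hs c).symm
  set K := (MonoidHom.transferSylow S' hN).ker with hK
  have hc := MonoidHom.ker_transferSylow_isComplement' S' hN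
  have hKodd : Odd (Nat.card K) := by
    rw [← Nat.not_even_iff_odd, even_iff_two_dvd]
    exact MonoidHom.not_dvd_card_ker_transferSylow S' hN
  -- `K` is normal in the normaliser, being the set of odd elements
  have hmemK : ∀ c : C, Odd (orderOf c) → c ∈ K := by
    intro c hc'
    have h1 : orderOf (MonoidHom.transferSylow S' hN c) ∣ orderOf c := orderOf_map_dvd _ c
    obtain ⟨k, hk⟩ := S'.2 (MonoidHom.transferSylow S' hN c)
    exact MonoidHom.mem_ker.2 (Invol.eq_one_of_odd_of_pow_two (hc'.of_dvd_nat h1) hk)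
  have hle : K.map C.subtype ≤ oddPart S := by
    have hCN : C ≤ normalizer ((S : Subgroup G) : Set G) := fun c hc => mem_normalizer_iff.2 fun s => by
      constructor
      · intro hs
        rwa [← mem_centralizer_iff.1 hc s hs, mul_inv_cancel_right]
      · intro hs
        have h := mem_centralizer_iff.1 hc _ hs
        rw [inv_mul_cancel_right] at h
        have h' : c * s * c⁻¹ = s := (mul_left_cancel h).symm
        rwa [h'] at hs
    set M := (K.map C.subtype).subgroupOf (normalizer ((S : Subgroup G) : Set G)) with hM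
    have hMn : M.Normal := by
      refine ⟨fun m hm n => ?_⟩
      obtain ⟨k, hk, hkm⟩ := hm
      have hmem : (n : G) * k * (n : G)⁻¹ ∈ C := by
        refine mem_centralizer_iff.2 fun s hs => ?_
        have hs' : (n : G)⁻¹ * s * (n : G) ∈ (S : Subgroup G) := by
          have := (mem_normalizer_iff.1 (inv_mem n.2) s).1 hs
          rwa [inv_inv] at this
        have h := mem_centralizer_iff.1 k.2 _ hs'
        calc s * ((n : G) * k * (n : G)⁻¹) = (n : G) * ((n : G)⁻¹ * s * n * k) * (n : G)⁻¹ := by group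
          _ = (n : G) * (k * ((n : G)⁻¹ * s * n)) * (n : G)⁻¹ := by rw [h]
          _ = (n : G) * k * (n : G)⁻¹ * s := by group
      refine ⟨⟨_, hmem⟩, hmemK _ ?_, ?_⟩
      · rw [← Subgroup.orderOf_coe]
        show Odd (orderOf ((n : G) * k * (n : G)⁻¹))
        rw [← MulAut.conj_apply, MulEquiv.orderOf_eq, Subgroup.orderOf_coe]
        exact hKodd.of_dvd_nat (Subgroup.orderOf_dvd_natCard K hk)
      · show (n : G) * k * (n : G)⁻¹ = (n : G) * m * (n : G)⁻¹
        rw [show (k : G) = m from hkm]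
    have hMle : M ≤ Cfsg.pPrimeCore 2 (normalizer ((S : Subgroup G) : Set G)) := by
      refine Coprime.le_pPrimeCore_of_not_dvd Nat.prime_two ?_
      rw [hM, Nat.card_congr (subgroupOfEquivOfLe ((map_subtype_le K).trans hCN)).toEquiv,
        card_map_of_injective C.subtype_injective, ← even_iff_two_dvd, Nat.not_even_iff_odd]
      exact hKodd
    intro y hy
    exact ⟨⟨y, (map_subtype_le K).trans hCN hy⟩, hMle hy, rfl⟩
  obtain ⟨⟨k, s⟩, hks⟩ := hc.2 ⟨x, hx⟩
  have hks' : ((k : C) : G) * ((s : C) : G) = x := congrArg Subtype.val hks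
  refine ⟨_, s.2, _, hle ⟨k, k.2, rfl⟩, ?_⟩
  show x = ((s : C) : G) * ((k : C) : G)
  rw [← hks']
  exact congrArg Subtype.val (hcen _ s.2 k)

theorem mem_oddPart (hS : Cfsg.IsElementaryAbelian 2 (S : Subgroup G)) {x : G}
    (hx : ∀ s ∈ (S : Subgroup G), x * s = s * x) (hodd : Odd (orderOf x)) : x ∈ oddPart S := by
  obtain ⟨s, hs, w, hw, rfl⟩ := cent_prod S hS (mem_centralizer_iff.2 fun t ht => (hx t ht).symm)
  have hc : Commute s w := (oddPart_commute S hw hs).symm
  obtain ⟨k, hk⟩ := hodd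
  have h1 : s * (s * w) ^ orderOf (s * w) = s := by rw [pow_orderOf_eq_one, mul_one]
  rw [hc.mul_pow, hk, pow_succ, pow_mul, hS.2 s hs, one_pow, one_mul, ← mul_assoc, ← sq,
    hS.2 s hs, one_mul] at h1
  have hsW : s ∈ oddPart S := h1 ▸ pow_mem hw _
  rw [disjoint_S_oddPart S hs hsW, one_mul]
  exact hw

theorem normalizer_solvable (hS : Cfsg.IsElementaryAbelian 2 (S : Subgroup G)) :
    Group.IsSolvable (normalizer ((S : Subgroup G) : Set G)) := by
  haveI := Fact.mk Nat.prime_two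
  set N := normalizer ((S : Subgroup G) : Set G)
  set S₀ := (S : Subgroup G).subgroupOf N with hS₀
  haveI : S₀.Normal := (normal_subgroupOf_iff_le_normalizer le_normalizer).2 le_rfl
  haveI : Group.IsSolvable S₀ := Coprime.isSolvable_of_isMulCommutative
    ⟨⟨fun a b => Subtype.ext (Subtype.ext (by
      show ((a : N) : G) * ((b : N) : G) = ((b : N) : G) * ((a : N) : G)
      exact congrArg Subtype.val
        (hS.1.is_comm.comm (⟨_, a.2⟩ : (S : Subgroup G)) ⟨_, b.2⟩)))⟩⟩
  haveI : Group.IsSolvable (N ⧸ S₀) := FT.isSolvable_of_odd _ (by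
    rw [← Nat.not_even_iff_odd, even_iff_two_dvd, ← Subgroup.index_eq_card]
    exact fun h => S.not_dvd_index (h.trans (relIndex_dvd_index_of_le le_normalizer)))
  exact (Group.isSolvable_iff_subgroup_quotient S₀).2 ⟨inferInstance, inferInstance⟩

/-- The shape of the normaliser of `S`. -/
theorem normalizer_cases (hG : Hyp G) (hS : Cfsg.IsElementaryAbelian 2 (S : Subgroup G)) {r : ℕ}
    (hr : 3 ≤ r) (hcard : Nat.card (S : Subgroup G) = 2 ^ r) :
    (r = 3 ∧ Nonempty ((normalizer ((S : Subgroup G) : Set G) : Subgroup G) ⧸ Cfsg.pPrimeCore 2 _ ≃*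
        Cfsg.affineGroup (GaloisField 2 3)) ∧
      Nat.card (normalizer ((S : Subgroup G) : Set G)) = Nat.card (oddPart S) * 56) ∨
    (r = 3 ∧ Nonempty ((normalizer ((S : Subgroup G) : Set G) : Subgroup G) ⧸ Cfsg.pPrimeCore 2 _ ≃*
        Cfsg.semiaffineGroup (GaloisField 2 3)) ∧
      Nat.card (normalizer ((S : Subgroup G) : Set G)) = Nat.card (oddPart S) * 168) ∨
    (r = 5 ∧ Nonempty ((normalizer ((S : Subgroup G) : Set G) : Subgroup G) ⧸ Cfsg.pPrimeCore 2 _ ≃*
        Cfsg.semiaffineGroup (GaloisField 2 5)) ∧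
      Nat.card (normalizer ((S : Subgroup G) : Set G)) = Nat.card (oddPart S) * 4960) := by
  haveI := Fact.mk Nat.prime_two
  haveI := normalizer_solvable S hS
  set N := normalizer ((S : Subgroup G) : Set G) with hN
  have hcardN : Nat.card N = Nat.card (oddPart S) * Nat.card (N ⧸ Cfsg.pPrimeCore 2 N) := by
    rw [Subgroup.card_eq_card_quotient_mul_card_subgroup (Cfsg.pPrimeCore 2 N), mul_comm, oddPart,
      card_map_of_injective N.subtype_injective]
  rcases Cfsg.Agent.S4025.result (fun H K _ _ h => hG H K h) S r hr hS hcard N hN inferInstance with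
    ⟨h3, -, h⟩ | ⟨h5, -, ⟨e⟩⟩
  · rcases h rfl with ⟨⟨e⟩⟩ | ⟨⟨e⟩⟩
    · refine Or.inr (Or.inl ⟨h3, ⟨e⟩, ?_⟩)
      rw [hcardN, Nat.card_congr e.toEquiv, card_semiaffine_galois (by norm_num)]
      all_goals norm_num
    · refine Or.inl ⟨h3, ⟨e⟩, ?_⟩
      rw [hcardN, Nat.card_congr e.toEquiv, card_affine_galois (by norm_num)]
      all_goals norm_num
  · refine Or.inr (Or.inr ⟨h5, ⟨e⟩, ?_⟩)
    rw [hcardN, Nat.card_congr e.toEquiv, card_semiaffine_galois (by norm_num)]
    all_goals norm_num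

/-- All involutions of `S` are fused in the normaliser. -/
theorem invol_fused (hG : Hyp G) (hS : Cfsg.IsElementaryAbelian 2 (S : Subgroup G)) {s t : G}
    (hs : s ∈ (S : Subgroup G)) (hs1 : s ≠ 1) (ht : t ∈ (S : Subgroup G)) (ht1 : t ≠ 1) :
    ∃ n ∈ normalizer ((S : Subgroup G) : Set G), n * s * n⁻¹ = t := by
  have ho : ∀ x ∈ (S : Subgroup G), x ≠ 1 → orderOf x = 2 := fun x hx hx1 =>
    Invol.invol_iff.2 ⟨by rw [← sq]; exact hS.2 x hx, hx1⟩
  have hc : ∀ x ∈ (S : Subgroup G), ∀ a ∈ zpowers x, ∀ y ∈ (S : Subgroup G), y * a = a * y :=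
    fun x hx a ha y hy => congrArg Subtype.val
      (hS.1.is_comm.comm (⟨y, hy⟩ : (S : Subgroup G)) ⟨a, zpowers_le.2 hx ha⟩)
  obtain ⟨g, hg⟩ := hG (zpowers s) (zpowers t)
    (by rw [Nat.card_zpowers, Nat.card_zpowers, ho s hs hs1, ho t ht ht1])
  obtain ⟨n, hn, hnt⟩ := exists_normalizer_conj S (hc s hs) (hc t ht) hg
  refine ⟨n, hn, ?_⟩
  have hmem : n * s * n⁻¹ ∈ zpowers t := by
    rw [hnt]; exact ⟨s, mem_zpowers s, rfl⟩
  obtain ⟨k, hk⟩ := mem_zpowers_iff.1 hmem
  rw [← zpow_mod_orderOf, ho t ht ht1] at hk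
  rcases Int.emod_two_eq_zero_or_one k with e | e <;>
    rw [show ((2 : ℕ) : ℤ) = 2 from rfl, e] at hk
  · rw [zpow_zero, eq_comm, mul_inv_eq_one] at hk
    simp at hk
    exact absurd hk hs1
  · rw [← hk, zpow_one]

/-- `|N(S)| = (2^r - 1) |C(t)|`. -/
theorem card_normalizer_eq (hG : Hyp G) (hS : Cfsg.IsElementaryAbelian 2 (S : Subgroup G)) {t : G}
    (ht : t ∈ (S : Subgroup G)) (ht2 : orderOf t = 2) :
    Nat.card (normalizer ((S : Subgroup G) : Set G)) =
      Nat.card (centralizer ({t} : Set G)) * (Nat.card (S : Subgroup G) - 1) := by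
  classical
  set N := normalizer ((S : Subgroup G) : Set G) with hN
  have hCN := hG.cent_le_normalizer S hS ht ht2
  set C₀ := (centralizer ({t} : Set G)).subgroupOf N with hC₀
  let f : N ⧸ C₀ → {s : (S : Subgroup G) // s ≠ 1} :=
    Quotient.lift (fun n : N => ⟨⟨(n : G) * t * (n : G)⁻¹, (mem_normalizer_iff.1 n.2 t).1 ht⟩,
      fun h => Invol.invol_ne_one ht2 (by simpa [mul_inv_eq_one] using congrArg Subtype.val h)⟩)
      (fun n m h => by
        have h0 : n⁻¹ * m ∈ C₀ := QuotientGroup.leftRel_apply.1 h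
        have h' : (n : G)⁻¹ * m ∈ centralizer ({t} : Set G) := h0
        have h'' := mem_centralizer_singleton_iff.1 h'
        refine Subtype.ext (Subtype.ext ?_)
        show (n : G) * t * (n : G)⁻¹ = (m : G) * t * (m : G)⁻¹
        calc (n : G) * t * (n : G)⁻¹ = (n : G) * (t * ((n : G)⁻¹ * m)) * (m : G)⁻¹ := by group
          _ = (n : G) * ((n : G)⁻¹ * m * t) * (m : G)⁻¹ := by rw [h'']
          _ = (m : G) * t * (m : G)⁻¹ := by group)
  have hf : Function.Bijective f := by
    refine ⟨fun x y => ?_, fun s => ?_⟩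
    · refine Quotient.inductionOn₂ x y fun n m h => ?_
      apply Quotient.sound
      refine QuotientGroup.leftRel_apply.2 ?_
      show (n : G)⁻¹ * m ∈ centralizer ({t} : Set G)
      refine mem_centralizer_singleton_iff.2 ?_
      have h' : (n : G) * t * (n : G)⁻¹ = (m : G) * t * (m : G)⁻¹ :=
        congrArg (fun z : {s : (S : Subgroup G) // s ≠ 1} => ((z : (S : Subgroup G)) : G)) h
      calc (n : G)⁻¹ * m * t = (n : G)⁻¹ * ((m : G) * t * (m : G)⁻¹) * m := by group
        _ = (n : G)⁻¹ * ((n : G) * t * (n : G)⁻¹) * m := by rw [h']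
        _ = t * ((n : G)⁻¹ * m) := by group
    · obtain ⟨n, hn, hns⟩ := invol_fused S hG hS ht (Invol.invol_ne_one ht2) s.1.2
        (fun h => s.2 (Subtype.ext h))
      exact ⟨QuotientGroup.mk ⟨n, hn⟩, Subtype.ext (Subtype.ext hns)⟩
  have h1 : Nat.card (N ⧸ C₀) = Nat.card (S : Subgroup G) - 1 := by
    haveI := Fintype.ofFinite (S : Subgroup G)
    rw [Nat.card_congr (Equiv.ofBijective f hf), Nat.card_eq_fintype_card, Nat.card_eq_fintype_card,
      Fintype.card_subtype_compl, Fintype.card_subtype_eq]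
  rw [← h1, ← Nat.card_congr (subgroupOfEquivOfLe hCN).toEquiv, ← hC₀, mul_comm,
    ← Subgroup.card_eq_card_quotient_mul_card_subgroup]

end CfsgLib.EqConj
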