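import Cfsg.Agent.Lib.Classical.SL2Sylow
import Cfsg.Agent.Lib.Classical.ProjLine
import Cfsg.Agent.Lib.Coprime.UniqueOrderP
import Cfsg.Agent.Lib.Invol.Basic

/-!
# Facts on `PSL(2, q)`

Inverted elements in even characteristic and small elementary 2-subgroups in odd characteristic.
-/

set_option autoImplicit false
set_option linter.unusedSectionVars false
set_option linter.style.haveILetI false

namespace CfsgLib.EqConj

open Matrix Subgroup

variable {F : Type} [Field F] [Fintype F]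

local notation "SL2" => Matrix.SpecialLinearGroup (Fin 2) F
local notation "PSL2" => Matrix.ProjectiveSpecialLinearGroup (Fin 2) F

theorem charP_two_of_card {r : ℕ} (hr : r ≠ 0) (hF : Fintype.card F = 2 ^ r) : CharP F 2 := by
  obtain ⟨q, hq⟩ := CharP.exists F
  haveI := hq
  obtain ⟨n, hqp, hn⟩ := FiniteField.card F q
  haveI := Fact.mk hqp
  have h2 : 2 ∣ q ^ (n : ℕ) := by rw [← hn, hF]; exact dvd_pow_self 2 hr
  have : q = 2 := ((Nat.prime_dvd_prime_iff_eq Nat.prime_two hqp).1 (Nat.prime_two.dvd_of_dvd_pow h2)).symm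
  exact this ▸ hq

/-- In `SL(2, 2^r)` every element is inverted by an element of square one and non-trivial. -/
theorem exists_inverter [CharP F 2] (M : SL2) :
    ∃ g : SL2, g * g = 1 ∧ g * M * g⁻¹ = M⁻¹ := by
  classical
  have h2 : (2 : F) = 0 := CharTwo.two_eq_zero
  suffices h : ∃ g : Matrix (Fin 2) (Fin 2) F, g.det = 1 ∧ g * g = 1 ∧
      g * M.1 = (M⁻¹).1 * g by
    obtain ⟨g, hd, hg, hgM⟩ := h
    refine ⟨⟨g, hd⟩, Subtype.ext hg, mul_inv_eq_iff_eq_mul.2 (Subtype.ext hgM)⟩
  rw [Matrix.SpecialLinearGroup.coe_inv, Matrix.adjugate_fin_two]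
  by_cases hb : M.1 0 1 = 0
  · by_cases hc : M.1 1 0 = 0
    · refine ⟨!![0, 1; 1, 0], by simp [Matrix.det_fin_two, CharTwo.neg_eq], ?_, ?_⟩
      · ext i j; fin_cases i <;> fin_cases j <;> simp [Matrix.mul_apply, Fin.sum_univ_two]
      · ext i j; fin_cases i <;> fin_cases j <;>
          simp [Matrix.mul_apply, Fin.sum_univ_two, hb, hc]
    · refine ⟨!![1, (M.1 0 0 + M.1 1 1) / M.1 1 0; 0, 1], by simp [Matrix.det_fin_two], ?_, ?_⟩
      · ext i j; fin_cases i <;> fin_cases j <;>
          simp [Matrix.mul_apply, Fin.sum_univ_two, CharTwo.add_self_eq_zero]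
      · ext i j; fin_cases i <;> fin_cases j <;>
          simp [Matrix.mul_apply, Fin.sum_univ_two, CharTwo.neg_eq, hb] <;> field_simp <;> grind
  · refine ⟨!![1, 0; (M.1 0 0 + M.1 1 1) / M.1 0 1, 1], by simp [Matrix.det_fin_two], ?_, ?_⟩
    · ext i j; fin_cases i <;> fin_cases j <;>
        simp [Matrix.mul_apply, Fin.sum_univ_two, CharTwo.add_self_eq_zero]
    · ext i j; fin_cases i <;> fin_cases j <;>
        simp [Matrix.mul_apply, Fin.sum_univ_two, CharTwo.neg_eq] <;> field_simp <;> grind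

/-- In `PSL(2, 2^r)` an element of every prime order dividing `2^r + 1` is inverted by an
involution. -/
theorem exists_inverted_psl {r : ℕ} (hr : r ≠ 0) (hF : Fintype.card F = 2 ^ r) {l : ℕ}
    (hl : l.Prime) (hdvd : l ∣ 2 ^ r + 1) :
    ∃ x t : PSL2, orderOf x = l ∧ orderOf t = 2 ∧ t * x * t⁻¹ = x⁻¹ := by
  classical
  haveI := charP_two_of_card hr hF
  haveI := Fact.mk hl
  have heven : 2 ∣ Fintype.card F := by rw [hF]; exact dvd_pow_self 2 hr
  have hpos := Fintype.one_lt_card (α := F)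
  have hgcd : Nat.gcd 2 (Fintype.card F - 1) = 1 :=
    (Nat.Prime.coprime_iff_not_dvd Nat.prime_two).2 (by omega)
  have hcard := Classical.card_psl2 (F := F)
  rw [hgcd, one_mul] at hcard
  have hl' : l ∣ Nat.card PSL2 := by
    rw [hcard]
    exact dvd_mul_of_dvd_right (dvd_mul_of_dvd_right (by rw [hF]; exact hdvd) _) _
  obtain ⟨x, hx⟩ := exists_prime_orderOf_dvd_card' l hl'
  obtain ⟨M, rfl⟩ := QuotientGroup.mk_surjective x
  obtain ⟨g, hg, hgM⟩ := exists_inverter M
  set φ := QuotientGroup.mk' (Subgroup.center SL2) with hφ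
  have hinv : φ g * φ M * (φ g)⁻¹ = (φ M)⁻¹ := by
    rw [← map_inv, ← map_mul, ← map_mul, hgM, map_inv]
  have hl2 : l ≠ 2 := by
    rintro rfl
    have : 2 ∣ 2 ^ r := dvd_pow_self 2 hr
    omega
  refine ⟨φ M, φ g, hx, Invol.invol_iff.2 ⟨by rw [← map_mul, hg, map_one], fun h => ?_⟩, hinv⟩
  rw [h, one_mul, inv_one, mul_one] at hinv
  have hsq : (φ M) ^ 2 = 1 := by rw [sq]; nth_rewrite 1 [hinv]; exact inv_mul_cancel _
  have h3 := orderOf_dvd_of_pow_eq_one hsq
  rw [show orderOf (φ M) = l from hx] at h3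
  exact hl2 ((Nat.prime_dvd_prime_iff_eq hl Nat.prime_two).1 h3)

/-- `PSL(2, q)`, `q` odd, has no elementary abelian subgroup of order at least eight. -/
theorem card_le_four_of_elementary (hodd : Odd (Fintype.card F)) (E : Subgroup PSL2) {k : ℕ}
    (hE : Nat.card E = 2 ^ k) (hsq : ∀ x ∈ E, x * x = 1) : k ≤ 2 := by
  classical
  by_contra hk
  push Not at hk
  haveI := Fact.mk Nat.prime_two
  have hqodd : ¬ 2 ∣ Fintype.card F := fun h => Nat.not_even_iff_odd.2 hodd (even_iff_two_dvd.2 h)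
  have hpos := Fintype.one_lt_card (α := F)
  have h2 := Classical.two_ne_zero_of_odd_card hodd
  have hZ : Nat.card (Subgroup.center SL2) = 2 := by
    rw [Classical.card_center_sl (by omega)]
    exact Nat.gcd_eq_left (by omega)
  set φ := QuotientGroup.mk' (Subgroup.center SL2) with hφ
  obtain ⟨E', hE'le, hE'⟩ : ∃ E' : Subgroup PSL2, E' ≤ E ∧ Nat.card E' = 2 ^ 3 := by
    obtain ⟨E', hc⟩ := Sylow.exists_subgroup_card_pow_prime 2 (n := 3) (G := E)
      (by rw [hE]; exact pow_dvd_pow 2 hk)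
    exact ⟨E'.map E.subtype, map_subtype_le _, by rw [card_map_of_injective E.subtype_injective, hc]⟩
  set T := E'.comap φ with hT
  have hTc : Nat.card T = 2 ^ 4 := by
    have h1 : T.index = E'.index := index_comap_of_surjective E' (QuotientGroup.mk'_surjective _)
    have h2' := T.card_mul_index
    have h3 := E'.card_mul_index
    have h4 := Subgroup.card_eq_card_quotient_mul_card_subgroup (Subgroup.center SL2)
    rw [hZ, ← h3, hE', ← h1] at h4
    rw [h4] at h2'
    have hi : 0 < T.index := Nat.pos_of_ne_zero FiniteIndex.index_ne_zero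
    refine Nat.eq_of_mul_eq_mul_right hi ?_
    rw [h2']; ring
  have hT4 : ∀ x ∈ T, x ^ 4 = 1 := by
    intro x hx
    have h1 : x * x ∈ Subgroup.center SL2 := by
      rw [← QuotientGroup.eq_one_iff]
      exact (map_mul φ x x).trans (hsq _ (hE'le hx))
    have h := Subgroup.orderOf_dvd_natCard _ h1
    rw [hZ] at h
    rw [show x ^ 4 = (x * x) ^ 2 by rw [← sq, ← pow_mul]]
    exact orderOf_dvd_iff_pow_eq_one.1 h
  have hTp : IsPGroup 2 T := IsPGroup.of_card hTc
  rcases Coprime.cyclic_or_quaternion_of_unique hTp ((Classical.uniqueOrderP_sl2 h2).subgroup T) with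
    hcyc | ⟨-, n, ⟨e⟩⟩
  · obtain ⟨g, hg⟩ := hcyc.exists_ofOrder_eq_natCard
    rw [hTc] at hg
    have h := orderOf_dvd_of_pow_eq_one (show g ^ 4 = 1 from Subtype.ext (by simpa using hT4 g g.2))
    rw [hg] at h
    norm_num at h
  · have hc := Nat.card_congr e.toEquiv
    rw [hTc, Nat.card_eq_fintype_card (α := QuaternionGroup _), QuaternionGroup.card] at hc
    have h := orderOf_dvd_of_pow_eq_one
      (show (e.symm (QuaternionGroup.a 1)) ^ 4 = 1 from Subtype.ext (by
        simpa using hT4 _ (e.symm (QuaternionGroup.a 1)).2))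
    rw [MulEquiv.orderOf_eq, QuaternionGroup.orderOf_a_one] at h
    have : 2 ^ n = 4 := by omega
    rw [this] at h
    norm_num at h

end CfsgLib.EqConj
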