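import Cfsg.Agent.Lib.Perm.OddProductPSL
import Cfsg.Agent.Lib.Invol.Basic
import Cfsg.Agent.S0809

/-!
# Four groups are self-centralising in `PSL(2, q)`, `q` odd
-/

set_option autoImplicit false
set_option linter.unusedSectionVars false
set_option linter.style.haveILetI false

namespace CfsgLib.EqConj

open Matrix CfsgLib.OddProdPSL

variable {F : Type*} [Field F] [Fintype F]

local notation "SL2" => SpecialLinearGroup (Fin 2) F

theorem val_mul' (A B : SL2) : (A * B).1 = A.1 * B.1 := rfl

/-- Equal images in `PSL` differ by a sign. -/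
theorem proj_eq_cases {A B : SL2} (h : proj A = proj B) :
    A.1 = B.1 ∨ A.1 = -B.1 := by
  have h1 : proj (B⁻¹ * A) = 1 := by rw [map_mul, map_inv, h, inv_mul_cancel]
  obtain ⟨e1, e2, e3⟩ := (proj_eq_one_iff _).1 h1
  set E := B⁻¹ * A with hE
  have hd := det_eq E
  rw [e1, e2, ← e3] at hd
  have hsq : E.1 0 0 * E.1 0 0 = 1 := by linear_combination hd
  have hA : A.1 = B.1 * E.1 := by
    rw [← val_mul', hE, mul_inv_cancel_left]
  have hE' : E.1 = E.1 0 0 • (1 : Matrix (Fin 2) (Fin 2) F) := by
    ext i j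
    fin_cases i <;> fin_cases j <;> simp [e1, e2, ← e3]
  rw [hE', Matrix.mul_smul, mul_one] at hA
  rcases mul_self_eq_one_iff.1 hsq with e | e <;> rw [e] at hA
  · exact Or.inl (by rw [hA, one_smul])
  · exact Or.inr (by rw [hA, neg_one_smul])

/-- A matrix commuting with a trace zero element is a combination of it and `1`. -/
theorem parallel_of_commute {N M : SL2} (h2 : (2 : F) ≠ 0) (hN : tr N = 0)
    (h : M.1 * N.1 = N.1 * M.1) :
    ∃ l a : F, M.1 0 0 = a + l * N.1 0 0 ∧ M.1 1 1 = a - l * N.1 0 0 ∧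
      M.1 0 1 = l * N.1 0 1 ∧ M.1 1 0 = l * N.1 1 0 := by
  have hd := det_eq N
  unfold tr at hN
  have h00 := congrFun (congrFun h 0) 0
  have h01 := congrFun (congrFun h 0) 1
  have h10 := congrFun (congrFun h 1) 0
  simp only [mul_apply, Fin.sum_univ_two] at h00 h01 h10
  set n := N.1 0 0
  set m := N.1 0 1
  set k := N.1 1 0
  set α := (M.1 0 0 - M.1 1 1) / 2 with hα
  have h2α : M.1 0 0 - M.1 1 1 = 2 * α := by rw [hα]; field_simp
  have e11 : N.1 1 1 = -n := by linear_combination hN
  rw [e11] at hd h01 h10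
  have q1 : n * M.1 0 1 = m * α := mul_left_cancel₀ h2 (by linear_combination (-1 : F) * h01 + m * h2α)
  have q2 : n * M.1 1 0 = k * α := mul_left_cancel₀ h2 (by linear_combination h10 + k * h2α)
  have q3 : m * M.1 1 0 = k * M.1 0 1 := by linear_combination (-1 : F) * h00
  clear_value α
  refine ⟨-(n * α + m * M.1 1 0), M.1 0 0 - α, ?_, ?_, ?_, ?_⟩
  · linear_combination (-α) * hd + m * q2
  · linear_combination (-1 : F) * h2α + α * hd - m * q2
  · linear_combination (-(M.1 0 1)) * hd - n * q1 + m * q3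
  · linear_combination (-(M.1 1 0)) * hd - n * q2

/-- An element commuting with two commuting involutions of `PSL(2, q)` is an involution or trivial. -/
theorem psl_cent_four (hodd : Odd (Fintype.card F))
    {t u y : ProjectiveSpecialLinearGroup (Fin 2) F} (ht : orderOf t = 2) (hu : orderOf u = 2)
    (hne : t ≠ u) (htu : t * u = u * t) (hyt : y * t = t * y) (hyu : y * u = u * y) :
    y * y = 1 := by
  classical
  have h2 : (2 : F) ≠ 0 :=
    CfsgLib.Perm.Dickson.two_ne_zero_of_odd (F := F) (by rwa [Nat.card_eq_fintype_card])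
  obtain ⟨N, rfl⟩ := proj_surjective t
  obtain ⟨N', rfl⟩ := proj_surjective u
  obtain ⟨Y, rfl⟩ := proj_surjective y
  have hN := tr_eq_zero N ht
  have hN' := tr_eq_zero N' hu
  have hcomm : ∀ X : SL2, proj Y * proj X = proj X * proj Y → (Y * Y).1 * X.1 = X.1 * (Y * Y).1 := by
    intro X hX
    rw [val_mul']
    rcases proj_eq_cases (A := Y * X) (B := X * Y) (by rw [map_mul, map_mul, hX]) with e | e <;>
      rw [val_mul', val_mul'] at e
    · rw [mul_assoc, e, ← mul_assoc, e, mul_assoc]
    · rw [mul_assoc, e, mul_neg, ← mul_assoc, e, neg_mul, neg_neg, mul_assoc]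
  obtain ⟨l, a, m00, m11, m01, m10⟩ := parallel_of_commute h2 hN (hcomm N hyt)
  obtain ⟨l', a', m00', m11', m01', m10'⟩ := parallel_of_commute h2 hN' (hcomm N' hyu)
  have hanti : N.1 * N'.1 = -(N'.1 * N.1) := by
    rcases proj_eq_cases (A := N * N') (B := N' * N) (by rw [map_mul, map_mul, htu]) with e | e <;>
      rw [val_mul', val_mul'] at e
    · exfalso
      obtain ⟨c, b, e00, e11, e01, e10⟩ := parallel_of_commute h2 hN e.symm
      have hd := det_eq N
      have hd' := det_eq N'
      unfold tr at hN hN'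
      have hb : b = 0 := mul_left_cancel₀ h2 (by linear_combination hN' - e00 - e11)
      rw [e00, e11, e01, e10, hb] at hd'
      have hc : c * c = 1 := by
        linear_combination hd' - c * c * hd + (c * c * N.1 0 0) * hN
      refine hne ?_
      have hNN : ∀ i j, N'.1 i j = c * N.1 i j := by
        intro i j
        fin_cases i <;> fin_cases j
        · simpa [hb] using e00
        · simpa using e01
        · simpa using e10
        · show N'.1 1 1 = c * N.1 1 1
          rw [e11, hb]
          linear_combination (-c) * hN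
      rw [← inv_mul_eq_one, ← map_inv, ← map_mul, proj_eq_one_iff]
      rw [val_mul', show (N⁻¹ : SL2).1 = adjugate N.1 from rfl, adjugate_fin_two]
      simp only [mul_apply, Fin.sum_univ_two, hNN]
      simp
      refine ⟨?_, ?_, ?_⟩ <;> ring
    · exact e
  have q := congrFun (congrFun hanti 0) 0
  simp only [mul_apply, Fin.sum_univ_two, Matrix.neg_apply] at q
  have hd := det_eq N
  unfold tr at hN hN'
  have hQ : 2 * N.1 0 0 * N'.1 0 0 + N.1 0 1 * N'.1 1 0 + N'.1 0 1 * N.1 1 0 = 0 := by
    linear_combination q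
  have hll : l * l = 0 := by
    have hA : 2 * (l * N.1 0 0) = 2 * (l' * N'.1 0 0) := by
      linear_combination (m11 - m00) + (m00' - m11')
    have hA' : l * N.1 0 0 = l' * N'.1 0 0 := mul_left_cancel₀ h2 hA
    have hB : l * N.1 0 1 = l' * N'.1 0 1 := m01.symm.trans m01'
    have hC : l * N.1 1 0 = l' * N'.1 1 0 := m10.symm.trans m10'
    refine mul_left_cancel₀ h2 ?_
    linear_combination (-2 * l * l) * hd + (2 * l * l * N.1 0 0) * hN - l * l' * hQ
      - 2 * l * N.1 0 0 * hA' - l * N.1 1 0 * hB - l * N.1 0 1 * hC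
  have hl : l = 0 := mul_self_eq_zero.1 hll
  rw [← map_mul, proj_eq_one_iff]
  exact ⟨by rw [m01, hl, zero_mul], by rw [m10, hl, zero_mul], by rw [m00, m11, hl]; ring⟩

end CfsgLib.EqConj
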