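import Cfsg.Agent.Lib.Invol.EqualOrderConj.Four
import Cfsg.Agent.Lib.Invol.BrauerSuzuki
import Cfsg.Agent.Lib.GW.DoubleCover
import Cfsg.Agent.Lib.Char.TransLinear.SL23
import Cfsg.Agent.Lib.Perm.Dickson.Minimal
import Cfsg.Agent.S0494

/-!
# Sylow 2-subgroup quaternion of order 8
-/

set_option autoImplicit false
set_option linter.unusedSectionVars false
set_option linter.style.haveILetI false

namespace CfsgLib.EqConj

open Subgroup

universe u

theorem q8_sq : ∀ q r : QuaternionGroup 2, r * r = 1 → r ≠ 1 → q * q = 1 ∨ q * q = r := by decide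

theorem q8_unique : ∀ q r : QuaternionGroup 2, q * q = 1 → q ≠ 1 → r * r = 1 → r ≠ 1 → q = r := by
  decide

theorem q8_nonab : ∃ a b : QuaternionGroup 2, a * b ≠ b * a := by decide

/-- `A₅ ≅ PSL(2, 5)`. -/
theorem alt_five_psl [Fact (Nat.Prime 5)] :
    Nonempty (alternatingGroup (Fin 5) ≃* Matrix.ProjectiveSpecialLinearGroup (Fin 2) (ZMod 5)) := by
  classical
  haveI : IsSimpleGroup (Matrix.ProjectiveSpecialLinearGroup (Fin 2) (ZMod 5)) :=
    (CfsgLib.Perm.Dickson.psl_simple_noncomm (F := ZMod 5) (by rw [Nat.card_zmod]; norm_num)).1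
  have h := Classical.card_psl2 (F := ZMod 5)
  rw [ZMod.card, show Nat.gcd 2 (5 - 1) = 2 by decide] at h
  obtain ⟨e⟩ := Cfsg.Agent.S0494.result
    (G := Matrix.ProjectiveSpecialLinearGroup (Fin 2) (ZMod 5)) (by omega)
  exact ⟨e.symm⟩

theorem quaternion_case {G : Type u} [Group G] [Finite G] (hG : Hyp G) (hO : Cfsg.oddCore G = ⊥)
    (S : Sylow 2 G) (e : (S : Subgroup G) ≃* QuaternionGroup 2) :
    Nonempty (G ≃* Matrix.SpecialLinearGroup (Fin 2) (ZMod 3)) ∨
      Nonempty (G ≃* Matrix.SpecialLinearGroup (Fin 2) (ZMod 5)) := by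
  classical
  haveI := Fact.mk Nat.prime_two
  have hodd_bot : ∀ M : Subgroup G, M.Normal → Odd (Nat.card M) → M = ⊥ := by
    intro M hM hodd
    haveI := hM
    have h := Coprime.le_pPrimeCore_of_not_dvd Nat.prime_two (N := M)
      (fun h2 => Nat.not_even_iff_odd.2 hodd (even_iff_two_dvd.2 h2))
    rwa [show Cfsg.pPrimeCore 2 G = ⊥ from hO, le_bot_iff] at h
  have hZ : Nat.card (center G) = 2 := Invol.card_center_eq_two S le_rfl even_two e hodd_bot
  obtain ⟨z, hz, hz2⟩ := Invol.exists_invol_mem (H := center G) (by rw [hZ]; exact even_two)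
  have hS8 : Nat.card (S : Subgroup G) = 8 := by
    rw [Nat.card_congr e.toEquiv, Nat.card_eq_fintype_card, QuaternionGroup.card]
  have hzS : z ∈ (S : Subgroup G) := by
    obtain ⟨g, hg⟩ := Invol.exists_conj_le_sylow
      (IsPGroup.of_card (n := 1) (by rw [Nat.card_zpowers, hz2, pow_one]) : IsPGroup 2 (zpowers z)) S
    have := hg z (mem_zpowers z)
    rwa [mem_center_iff.1 hz g, mul_inv_cancel_right] at this
  have hz' : e ⟨z, hzS⟩ * e ⟨z, hzS⟩ = 1 ∧ e ⟨z, hzS⟩ ≠ 1 := by
    refine ⟨?_, fun h => Invol.invol_ne_one hz2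
      (congrArg Subtype.val (e.injective (h.trans (map_one e).symm)))⟩
    rw [← map_mul, show (⟨z, hzS⟩ : (S : Subgroup G)) * ⟨z, hzS⟩ = 1 from
      Subtype.ext (Invol.invol_mul_self hz2), map_one]
  -- `z` is the only involution
  have huniq : ∀ x : G, orderOf x = 2 → x = z := by
    intro x hx
    obtain ⟨g, hg⟩ := Invol.exists_conj_le_sylow
      (IsPGroup.of_card (n := 1) (by rw [Nat.card_zpowers, hx, pow_one]) : IsPGroup 2 (zpowers x)) S
    have hxS := hg x (mem_zpowers x)
    have hxo := Invol.invol_conj hx g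
    have hq := q8_unique (e ⟨_, hxS⟩) (e ⟨z, hzS⟩)
      (by rw [← map_mul, show (⟨_, hxS⟩ : (S : Subgroup G)) * ⟨_, hxS⟩ = 1 from
        Subtype.ext (Invol.invol_mul_self hxo), map_one])
      (fun h => Invol.invol_ne_one hxo
        (congrArg Subtype.val (e.injective (h.trans (map_one e).symm)))) hz'.1 hz'.2
    have h1 : g * x * g⁻¹ = z := congrArg Subtype.val (e.injective hq)
    calc x = g⁻¹ * (g * x * g⁻¹) * g := by group
      _ = g⁻¹ * (z * g) := by rw [h1, mul_assoc]
      _ = z := by rw [← mem_center_iff.1 hz g, inv_mul_cancel_left]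
  have hZS : center G ≤ (S : Subgroup G) := by
    have h : zpowers z = center G :=
      eq_of_le_of_card_ge (zpowers_le.2 hz) (by rw [Nat.card_zpowers, hz2, hZ])
    rw [← h]; exact zpowers_le.2 hzS
  set mk := QuotientGroup.mk' (center G)
  have hmk : Function.Surjective mk := QuotientGroup.mk'_surjective _
  have hker : mk.ker = center G := QuotientGroup.ker_mk' _
  set T := S.mapSurjective hmk with hT
  have hTc : (T : Subgroup (G ⧸ center G)) = (S : Subgroup G).map mk := Sylow.coe_mapSurjective hmk S
  have hGc := Subgroup.card_eq_card_quotient_mul_card_subgroup (center G)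
  rw [hZ] at hGc
  have hT4 : Nat.card (T : Subgroup (G ⧸ center G)) = 4 := by
    rw [hTc]
    refine Nat.eq_of_mul_eq_mul_right (m := (S : Subgroup G).index)
      (Nat.pos_of_ne_zero FiniteIndex.index_ne_zero) ?_
    have h1 := ((S : Subgroup G).map mk).card_mul_index
    rw [index_map_eq _ hmk (hker.trans_le hZS)] at h1
    have h2 := (S : Subgroup G).card_mul_index
    rw [hS8] at h2
    omega
  have hTsq : ∀ x ∈ (T : Subgroup (G ⧸ center G)), x * x = 1 := by
    intro x hx
    rw [hTc] at hx
    obtain ⟨y, hy, rfl⟩ := hx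
    rw [← map_mul, ← MonoidHom.mem_ker, hker]
    rcases q8_sq (e ⟨y, hy⟩) (e ⟨z, hzS⟩) hz'.1 hz'.2 with h | h
    · rw [← map_mul, MulEquiv.map_eq_one_iff] at h
      rw [show y * y = 1 from congrArg Subtype.val h]
      exact one_mem _
    · rw [← map_mul] at h
      rw [show y * y = z from congrArg Subtype.val (e.injective h)]
      exact hz
  have hTS : Cfsg.IsElementaryAbelian 2 (T : Subgroup (G ⧸ center G)) := by
    refine ⟨⟨⟨fun a b => Subtype.ext ?_⟩⟩, fun a ha => by rw [sq]; exact hTsq a ha⟩
    show (a : G ⧸ center G) * b = b * a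
    have h := hTsq _ (mul_mem a.2 b.2)
    rw [mul_eq_one_iff_eq_inv, mul_inv_rev, inv_eq_of_mul_eq_one_right (hTsq _ a.2),
      inv_eq_of_mul_eq_one_right (hTsq _ b.2)] at h
    exact h
  have hGq := hG.quotient (center G)
  have hOq : Cfsg.oddCore (G ⧸ center G) = ⊥ := GW.oddCore_quotient_central hO (center G) hZ
  by_cases hn : (T : Subgroup (G ⧸ center G)).Normal
  · left
    obtain ⟨eA⟩ := four_normal hGq hOq T hTS hT4 hn
    have h24 : Nat.card G = 24 := by
      have h := two_mul_nat_card_alternatingGroup (α := Fin 4)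
      rw [← Nat.card_congr eA.toEquiv, Nat.card_perm, Nat.card_fin,
        show Nat.factorial 4 = 24 by decide] at h
      omega
    haveI : (S : Subgroup G).Normal := by
      have h : ((S : Subgroup G).map mk).comap mk = (S : Subgroup G) :=
        comap_map_eq_self (hker.trans_le hZS)
      rw [← h, ← hTc]
      exact hn.comap mk
    haveI := Fact.mk Nat.prime_three
    obtain ⟨t, ht⟩ := exists_prime_orderOf_dvd_card' (G := G) 3 (by rw [h24]; norm_num)
    refine Char.mulEquiv_SL23_of_order_24 h24 (fun x y hx hy => (huniq x hx).trans (huniq y hy).symm)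
      (S : Subgroup G) hS8 ?_ ht ?_
    · obtain ⟨a, b, hab⟩ := q8_nonab
      refine ⟨e.symm a, (e.symm a).2, e.symm b, (e.symm b).2, fun h => hab ?_⟩
      refine e.symm.injective ?_
      rw [map_mul, map_mul]
      exact Subtype.ext h
    · by_contra hc
      push Not at hc
      have hle : (S : Subgroup G) ⊔ zpowers t ≤ centralizer ({t} : Set G) := sup_le
        (fun a ha => mem_centralizer_singleton_iff.2 (hc a ha).symm)
        (zpowers_le.2 (mem_centralizer_singleton_iff.2 rfl))
      have htop : centralizer ({t} : Set G) = ⊤ := by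
        refine eq_top_of_card_eq _ (Nat.dvd_antisymm (card_subgroup_dvd_card _) ?_)
        rw [h24, show (24 : ℕ) = 8 * 3 by norm_num]
        refine Nat.Coprime.mul_dvd_of_dvd_of_dvd (by norm_num)
          (hS8 ▸ card_dvd_of_le (le_sup_left.trans hle)) ?_
        rw [← ht, ← Nat.card_zpowers]
        exact card_dvd_of_le (le_sup_right.trans hle)
      have hn' : (zpowers t).Normal := ⟨fun x hx g => by
        obtain ⟨k, rfl⟩ := mem_zpowers_iff.1 hx
        have hg : g * t = t * g := mem_centralizer_singleton_iff.1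
          (htop ▸ mem_top g : g ∈ centralizer ({t} : Set G))
        rw [((show Commute g t from hg).zpow_right k).eq, mul_inv_cancel_right]
        exact zpow_mem (mem_zpowers t) k⟩
      have h := hodd_bot _ hn' (by rw [Nat.card_zpowers, ht]; decide)
      rw [← Subgroup.card_eq_one, Nat.card_zpowers, ht] at h
      norm_num at h
  · right
    obtain ⟨eA⟩ := four_not_normal hGq hOq T hTS hT4 hn
    haveI : Fact (Nat.Prime 5) := ⟨by norm_num⟩
    obtain ⟨eP⟩ := alt_five_psl
    set π := (eA.trans eP).toMonoidHom.comp mk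
    have hπ : Function.Surjective π := (eA.trans eP).surjective.comp hmk
    have hπk : π.ker = center G := by
      rw [← hker]
      ext x
      simp [π, MonoidHom.mem_ker]
    haveI : Group.IsPerfect G := by
      rw [Group.isPerfect_def]
      have hQ : ⁅(⊤ : Subgroup (G ⧸ center G)), (⊤ : Subgroup (G ⧸ center G))⁆ = ⊤ := by
        haveI : Nontrivial (G ⧸ center G) := eA.toEquiv.nontrivial
        haveI : IsSimpleGroup (G ⧸ center G) := IsSimpleGroup.isSimpleGroup_of_surjective
          eA.symm.toMonoidHom eA.symm.surjective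
        rcases (Subgroup.commutator_normal (⊤ : Subgroup (G ⧸ center G)) (⊤ : Subgroup (G ⧸ center G))).eq_bot_or_eq_top with h | h
        · exfalso
          have hcomm := commutator_eq_bot_iff_le_centralizer.1 h
          have : ∀ a b : alternatingGroup (Fin 5), a * b = b * a := fun a b => eA.symm.injective (by
            rw [map_mul, map_mul]
            exact (mem_centralizer_iff.1 (hcomm (mem_top (eA.symm b))) _ (mem_top (eA.symm a))))
          exact absurd this (by decide +kernel)
        · exact h
      have hmap : (commutator G).map mk = ⊤ := by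
        rw [_root_.commutator_def, map_commutator, map_top_of_surjective mk hmk, hQ]
      have hzD : z ∈ commutator G := by
        have hd : Nat.card ((commutator G).map mk) ∣ Nat.card (commutator G) := card_map_dvd _ _
        rw [hmap, card_top, Nat.card_congr eA.toEquiv] at hd
        have h := two_mul_nat_card_alternatingGroup (α := Fin 5)
        rw [Nat.card_perm, Nat.card_fin, show Nat.factorial 5 = 2 * 60 by decide] at h
        obtain ⟨d, hd', hd2⟩ := Invol.exists_invol_mem (H := commutator G)
          (even_iff_two_dvd.2 ((show 2 ∣ Nat.card (alternatingGroup (Fin 5)) by omega).trans hd))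
        rwa [← huniq d hd2]
      refine eq_top_iff.2 fun x _ => ?_
      have hx : mk x ∈ (commutator G).map mk := hmap ▸ mem_top _
      obtain ⟨y, hy, hyx⟩ := hx
      have hyx' : y⁻¹ * x ∈ center G := by
        rw [← hker, MonoidHom.mem_ker, map_mul, map_inv, hyx, inv_mul_cancel]
      have hZD : center G ≤ commutator G := by
        have h : zpowers z = center G :=
          eq_of_le_of_card_ge (zpowers_le.2 hz) (by rw [Nat.card_zpowers, hz2, hZ])
        rw [← h]; exact zpowers_le.2 hzD
      have := mul_mem hy (hZD hyx')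
      rwa [mul_inv_cancel_left] at this
    exact GW.equiv_sl2_of_cover (F := ZMod 5) (by rw [ZMod.card]; decide) (by rw [ZMod.card]; norm_num)
      π hπ hπk.le (by rw [hπk, hZ])

end CfsgLib.EqConj
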