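import Cfsg.Agent.Lib.Invol.EqualOrderConj.Fusion
import Mathlib.GroupTheory.Transfer

/-!
# Fixed points of an element of `V` centralising a single involution of `S`
-/

set_option autoImplicit false
set_option linter.unusedSectionVars false
set_option linter.style.haveILetI false

namespace CfsgLib.EqConj

open Subgroup

universe u

/-- A group with exactly one factor two in its order has a normal subgroup of index two. -/
theorem exists_index_two {M : Type u} [Group M] [Finite M] (h2 : 2 ∣ Nat.card M)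
    (h4 : ¬ 4 ∣ Nat.card M) : ∃ O : Subgroup M, O.Normal ∧ O.index = 2 ∧ Odd (Nat.card O) := by
  haveI := Fact.mk Nat.prime_two
  obtain ⟨S⟩ : Nonempty (Sylow 2 M) := inferInstance
  have hS : Nat.card (S : Subgroup M) = 2 := by
    rw [S.card_eq_multiplicity]
    have h1 : 1 ≤ (Nat.card M).factorization 2 :=
      (Nat.Prime.dvd_iff_one_le_factorization Nat.prime_two (Nat.card_pos).ne').1 h2
    have h3 : ¬ 2 ≤ (Nat.card M).factorization 2 := fun h =>
      h4 (((Nat.Prime.pow_dvd_iff_le_factorization Nat.prime_two (Nat.card_pos).ne').2 h : 2 ^ 2 ∣ _))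
    rw [show (Nat.card M).factorization 2 = 1 by omega, pow_one]
  haveI : IsCyclic (S : Subgroup M) := isCyclic_of_prime_card hS
  have hmin : (Nat.card M).minFac = 2 := (Nat.minFac_eq_two_iff _).2 h2
  have hN := IsCyclic.normalizer_le_centralizer (G := M) (p := 2) hmin (P := S) inferInstance
  have hc := MonoidHom.ker_transferSylow_isComplement' S hN
  refine ⟨(MonoidHom.transferSylow S hN).ker, MonoidHom.normal_ker _, ?_, ?_⟩
  · rw [hc.symm.index_eq_card, hS]
  · rw [← Nat.not_even_iff_odd, even_iff_two_dvd]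
    intro h
    refine h4 ?_
    rw [← hc.card_mul_card, hS]
    exact mul_dvd_mul_right h 2

variable {G : Type u} [Group G] [Finite G] {Ω : Type u} [MulAction G Ω] [Finite Ω]

namespace Setup

variable {r p : ℕ} (T : Setup G Ω r p)
include T

theorem Q_mem_S_of_pow_four {x : G} (hx : x ∈ T.Q) (h4 : x * x ∈ T.S) : x ∈ T.S := by
  refine T.S_iff.2 ⟨hx, ?_⟩
  haveI : (T.S.subgroupOf T.Q).Normal := ⟨fun n hn g => by
    show ((g : G) * (n : G) * (g : G)⁻¹) ∈ T.S
    exact T.S_conj (T.Q_fix _ g.2) hn⟩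
  have hodd : Odd (T.S.relIndex T.Q) := by
    rw [← Nat.not_even_iff_odd, even_iff_two_dvd]
    intro h2
    apply T.Q_twopart
    have h3 := relIndex_mul_relIndex ⊥ T.S T.Q bot_le T.S_le
    rw [relIndex_bot_left, relIndex_bot_left, T.S_card] at h3
    rw [pow_succ, ← h3]
    exact mul_dvd_mul_left _ h2
  obtain ⟨k, hk⟩ := hodd
  have h1 : x ^ T.S.relIndex T.Q ∈ T.S := (T.S.subgroupOf T.Q).pow_index_mem (⟨x, hx⟩ : T.Q)
  rw [hk, pow_succ, pow_mul, sq, (mul_mem_cancel_left (pow_mem h4 k))] at h1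
  exact T.S_sq x h1

theorem two_mem_S {k : ℕ} : ∀ x : G, x • T.a = T.a → x ^ 2 ^ k = 1 → x ∈ T.S := by
  induction k with
  | zero => intro x _ h; rw [pow_zero, pow_one] at h; rw [h]; exact one_mem _
  | succ k ih =>
    intro x hxa h
    have hxx : x * x ∈ T.S := ih (x * x) (by rw [mul_smul, hxa, hxa])
      (by rw [← sq, ← pow_mul, ← pow_succ', h])
    have hne : x • T.b ≠ T.a := fun h => T.hab (smul_left_cancel x (hxa.trans h.symm))
    obtain ⟨q, hq, e⟩ := T.Q_trans _ hne
    set d := q⁻¹ * x with hd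
    have hda : d • T.a = T.a := by rw [hd, mul_smul, hxa, T.Q_fix _ (inv_mem hq)]
    have hdb : d • T.b = T.b := by rw [hd, mul_smul, ← e, inv_smul_smul]
    have hdd : d * d ∈ T.Q := by
      have h2 : d * d = (d * q * d⁻¹)⁻¹ * (q⁻¹ * (x * x)) := by rw [hd]; group
      rw [h2]
      exact mul_mem (inv_mem (T.Q_normal d hda q hq)) (mul_mem (inv_mem hq) (T.S_le hxx))
    have hd1 : d = 1 := T.D_sq hda hdb (T.Q_free _ hdd (by rw [mul_smul, hdb, hdb]))
    have hxq : x = q := by rw [hd, inv_mul_eq_one] at hd1; exact hd1.symm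
    exact T.Q_mem_S_of_pow_four (hxq ▸ hq) hxx

/-- If `v` of prime order `l` in `V ⊓ L` moves `S`, then `l` does not divide its number of fixed
points. -/
theorem not_dvd_fix_of_moves {v : G} (hv : v ∈ T.V ⊓ T.L) {l : ℕ} (hl : l.Prime)
    (hvl : orderOf v = l) (hmoves : ∃ s ∈ T.S, v * s ≠ s * v) :
    ¬ l ∣ Nat.card {x : Ω // v • x = x} := by
  classical
  haveI := Fact.mk Nat.prime_two
  intro hdvd
  have hlV : l ∣ Nat.card T.V := hvl ▸ Subgroup.orderOf_dvd_natCard T.V hv.1
  have hve : v ^ l ^ 1 = 1 := by rw [pow_one, ← hvl, pow_orderOf_eq_one]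
  have hvab := T.V_fix v hv.1
  set M := T.L ⊓ centralizer ({v} : Set G) with hM
  obtain ⟨c, hwc, hca, hcb⟩ := T.exists_w_fixed
  have hwv : T.w * v = v * T.w := T.V_w v hv.1
  have hvc : v • c = c := T.invol_fix_unique T.orderOf_w (y := v • c)
    (by rw [smul_smul, hwv, mul_smul, hwc]) hwc
  have hwM : T.w ∈ M := ⟨T.w_mem_L, mem_centralizer_singleton_iff.2 hwv⟩
  -- the orbit of `c`
  have horb : MulAction.orbit M c = {x : Ω | v • x = x} := by
    ext x
    constructor
    · rintro ⟨⟨g, hg⟩, rfl⟩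
      show v • g • c = g • c
      rw [smul_smul, ← mem_centralizer_singleton_iff.1 hg.2, mul_smul, hvc]
    · intro hx
      by_cases hxc : x = c
      · rw [hxc]; exact MulAction.mem_orbit_self c
      · obtain ⟨t, ht, htv, h1, -⟩ := T.exists_swap_commute hl hlV hve (Ne.symm hxc) hvc hx
        exact ⟨⟨t, T.invol_mem_L ht, mem_centralizer_singleton_iff.2 htv⟩, h1⟩
  set Mc := MulAction.stabilizer M c with hMc
  have hidx : Mc.index = Nat.card {x : Ω // v • x = x} := by
    rw [MulAction.index_stabilizer, horb, ← Nat.card_coe_set_eq]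
    rfl
  -- a map of `c` to `a`
  obtain ⟨h, hh, hha⟩ : ∃ h ∈ M, h • c = T.a := by
    have h1 : T.a ∈ MulAction.orbit M c := by rw [horb]; exact hvab.1
    obtain ⟨⟨h, hh⟩, e⟩ := h1
    exact ⟨h, hh, e⟩
  have hSc : ∀ g : G, g ∈ M → g • c = c → ∀ k, g ^ 2 ^ k = 1 → g ≠ 1 → g = T.w := by
    intro g hg hgc k hk hg1
    have hgS : h * g * h⁻¹ ∈ T.S := T.two_mem_S _
      (by rw [← hha, mul_smul, inv_smul_smul, mul_smul, hgc])
      (show (h * g * h⁻¹) ^ 2 ^ k = 1 by rw [conj_pow, hk, mul_one, mul_inv_cancel])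
    have hwS : h * T.w * h⁻¹ ∈ T.S := T.invol_mem_S (Invol.invol_conj T.orderOf_w h)
      (by rw [← hha, mul_smul, inv_smul_smul, mul_smul, hwc])
    have hcomm : ∀ x ∈ M, v * (h * x * h⁻¹) = h * x * h⁻¹ * v := fun x hx =>
      (mem_centralizer_singleton_iff.1 (mul_mem (mul_mem hh.2 hx.2) (inv_mem hh.2))).symm
    have e := T.dich v hv.1 hmoves _ hgS _ hwS (by simpa [mul_inv_eq_one] using hg1)
      (by simpa [mul_inv_eq_one] using T.w_ne_one) (hcomm g hg) (hcomm _ hwM)
    exact mul_left_cancel (mul_right_cancel e)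
  have hMc' : ∀ g : M, g ∈ Mc ↔ (g : G) * T.w = T.w * g := by
    intro g
    constructor
    · intro hg
      have hg' : (g : G) • c = c := hg
      have hgi : (g : G)⁻¹ • c = c := by rw [inv_smul_eq_iff, hg']
      have e := hSc ((g : G) * T.w * (g : G)⁻¹) (mul_mem (mul_mem g.2 hwM) (inv_mem g.2))
        (by rw [mul_smul, mul_smul, hgi, hwc, hg']) 1
        (by rw [pow_one, conj_pow, sq, T.w_sq, mul_one, mul_inv_cancel])
        (by simpa [mul_inv_eq_one] using T.w_ne_one)
      exact mul_inv_eq_iff_eq_mul.1 e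
    · intro hg
      show (g : G) • c = c
      exact T.invol_fix_unique T.orderOf_w (by rw [smul_smul, ← hg, mul_smul, hwc]) hwc
  -- the Sylow 2-subgroups of `M` have order two
  have h4 : ¬ 4 ∣ Nat.card M := by
    intro h4
    obtain ⟨R, hR⟩ := Sylow.exists_subgroup_card_pow_prime 2 (n := 2) (G := M) h4
    have hp : IsPGroup 2 R := IsPGroup.of_card hR
    have hodd : ¬ 2 ∣ Nat.card Ω := fun h => Nat.not_even_iff_odd.2 T.odd_card (even_iff_two_dvd.2 h)
    obtain ⟨z, hz⟩ := hp.nonempty_fixed_point_of_prime_not_dvd_card Ω hodd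
    -- all involutions in the image of `R` fix `z`, hence are equal
    obtain ⟨x, hx1⟩ : ∃ x : R, x ≠ 1 := by
      by_contra hx
      push Not at hx
      have : Nat.card R = 1 := Nat.card_eq_one_iff_unique.2
        ⟨⟨fun a b => (hx a).trans (hx b).symm⟩, inferInstance⟩
      omega
    obtain ⟨k, hk⟩ := hp x
    -- move `z` to `c`
    have hzfix : v • z = z := by
      have hxG : ((x : M) : G) ^ 2 ^ k = 1 := congrArg (fun y : R => ((y : M) : G)) hk
      obtain ⟨g, hga⟩ := T.exists_map_a z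
      have hS : g * ((x : M) : G) * g⁻¹ ∈ T.S := T.two_mem_S _
        (by rw [← hga, mul_smul, inv_smul_smul, mul_smul, show ((x : M) : G) • z = z from hz x])
        (show (g * ((x : M) : G) * g⁻¹) ^ 2 ^ k = 1 by rw [conj_pow, hxG, mul_one, mul_inv_cancel])
      have hx1' : ((x : M) : G) ≠ 1 := fun e => hx1 (Subtype.ext (Subtype.ext e))
      have ho : orderOf ((x : M) : G) = 2 := by
        have := T.S_invol hS (by simpa [mul_inv_eq_one] using hx1')
        have e := Invol.invol_conj this g⁻¹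
        simpa [mul_assoc] using e
      refine T.invol_fix_unique ho ?_ (hz x)
      rw [smul_smul, mem_centralizer_singleton_iff.1 (x : M).2.2, mul_smul]
      exact congrArg (v • ·) (hz x)
    have hzo : z ∈ MulAction.orbit M c := by rw [horb]; exact hzfix
    obtain ⟨g, hg⟩ := hzo
    have key : ∀ y : R, y ≠ 1 → (g⁻¹ * (y : M) * g : M) = ⟨T.w, hwM⟩ := by
      intro y hy
      obtain ⟨k, hk⟩ := hp y
      apply Subtype.ext
      refine hSc _ ((g⁻¹ * (y : M) * g : M)).2 ?_ k ?_ ?_
      · show (g⁻¹ * (y : M) * g : M) • c = c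
        rw [mul_smul, mul_smul, show g • c = z from hg, show (y : M) • z = z from hz y,
          ← show g • c = z from hg, inv_smul_smul]
      · have hyG : ((y : M)) ^ 2 ^ k = 1 := congrArg (fun y : R => (y : M)) hk
        have : (g⁻¹ * (y : M) * g) ^ 2 ^ k = (1 : M) := by
          have e := conj_pow (a := g⁻¹) (b := (y : M)) (i := 2 ^ k)
          rw [inv_inv] at e
          rw [e, hyG]; simp
        exact congrArg Subtype.val this
      · intro e
        have e' : (g⁻¹ * (y : M) * g : M) = 1 := Subtype.ext e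
        exact hy (Subtype.ext (by simpa [mul_assoc, inv_mul_eq_iff_eq_mul] using e'))
    have hle : Nat.card R ≤ 2 := by
      rw [← Nat.card_eq_fintype_card (α := Bool) |>.trans Fintype.card_bool]
      refine Nat.card_le_card_of_injective (fun y : R => decide (y = 1)) ?_
      intro y y' e
      by_cases hy : y = 1
      · simp [hy] at e; rw [hy, e]
      · have hy' : y' ≠ 1 := by intro h'; simp [hy, h'] at e
        exact Subtype.ext (mul_left_cancel (mul_right_cancel ((key y hy).trans (key y' hy').symm)))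
    omega
  have h2 : 2 ∣ Nat.card M := by
    have := Subgroup.orderOf_dvd_natCard M hwM
    rwa [T.orderOf_w] at this
  obtain ⟨O, hOn, hO2, hOodd⟩ := exists_index_two h2 h4
  set wM : M := ⟨T.w, hwM⟩ with hwMdef
  have hwO : wM ∉ O := fun h => by
    have h1 := Subgroup.orderOf_dvd_natCard O h
    rw [← Subgroup.orderOf_coe, T.orderOf_w] at h1
    exact Nat.not_even_iff_odd.2 hOodd (even_iff_two_dvd.2 h1)
  have hwMc : wM ∈ Mc := (hMc' wM).2 rfl
  have hrel : O.relIndex Mc = 2 := by
    haveI := hOn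
    have h1 : O.relIndex Mc ∣ 2 := hO2 ▸ relIndex_dvd_index_of_normal O Mc
    rcases (Nat.dvd_prime Nat.prime_two).1 h1 with e | e
    · exact absurd ((relIndex_eq_one.1 e) hwMc) hwO
    · exact e
  have hfixeq : (O ⊓ Mc).relIndex O = Mc.index := by
    have e1 := relIndex_mul_relIndex ⊥ (O ⊓ Mc) O bot_le inf_le_left
    have e2 := relIndex_mul_relIndex ⊥ (O ⊓ Mc) Mc bot_le inf_le_right
    rw [inf_relIndex_right, hrel] at e2
    rw [relIndex_bot_left, relIndex_bot_left] at e1 e2
    have e3 := O.card_mul_index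
    have e4 := Mc.card_mul_index
    rw [hO2, ← e4, ← e1, ← e2] at e3
    have hpos : 0 < Nat.card ↥(O ⊓ Mc) * 2 := Nat.mul_pos Nat.card_pos two_pos
    refine Nat.eq_of_mul_eq_mul_left hpos ?_
    linarith
  set X := O.map M.subtype with hX
  have hXodd : Odd (Nat.card X) := by rwa [hX, card_map_of_injective M.subtype_injective]
  have hXn : ∀ x ∈ X, T.w * x * T.w⁻¹ ∈ X := by
    rintro _ ⟨x, hx, rfl⟩
    exact ⟨wM * x * wM⁻¹, hOn.conj_mem x hx wM, rfl⟩
  have hcent : X ⊓ centralizer ({T.w} : Set G) = (O ⊓ Mc).map M.subtype := by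
    ext g
    constructor
    · rintro ⟨⟨x, hx, rfl⟩, hg⟩
      exact ⟨x, ⟨hx, (hMc' x).2 (mem_centralizer_singleton_iff.1 hg)⟩, rfl⟩
    · rintro ⟨x, ⟨hx, hx'⟩, rfl⟩
      exact ⟨⟨x, hx, rfl⟩, mem_centralizer_singleton_iff.2 ((hMc' x).1 hx')⟩
  obtain ⟨x, -, hxo, hxi⟩ := exists_inverted_of_dvd T.orderOf_w hXodd hXn hl (by
    rw [hcent, hX, relIndex_map_map_of_injective _ _ M.subtype_injective, hfixeq, hidx]
    exact hdvd)
  exact T.inv l hl hlV x hxo T.w T.orderOf_w hxi

end Setup

end CfsgLib.EqConj
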