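import Cfsg.Agent.Lib.Invol.EqualOrderConj.Tools
import Cfsg.Agent.Lib.Invol.StronglyEmbedded
import Cfsg.Agent.Lib.Invol.InvertedOdd
import Cfsg.Agent.Lib.Invol.TI
import Cfsg.Agent.Lib.Coprime.Core
import Cfsg.Agent.S4020

/-!
# Groups in which subgroups of equal order are conjugate: first consequences
-/

set_option autoImplicit false
set_option linter.unusedSectionVars false
set_option linter.style.haveILetI false

namespace CfsgLib.EqConj

open Subgroup

universe u

/-- Any two subgroups of the same order are conjugate. -/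
def Hyp (G : Type u) [Group G] : Prop :=
  ∀ H K : Subgroup G, Nat.card H = Nat.card K → ∃ g : G, K = H.map (MulAut.conj g).toMonoidHom

variable {G : Type u} [Group G] [Finite G]

theorem Hyp.quotient (hG : Hyp G) (N : Subgroup G) [N.Normal] : Hyp (G ⧸ N) := by
  intro H K h
  have hs := QuotientGroup.mk'_surjective N
  have key : ∀ H : Subgroup (G ⧸ N),
      Nat.card (H.comap (QuotientGroup.mk' N)) = Nat.card N * Nat.card H := by
    intro H
    have h1 := (H.comap (QuotientGroup.mk' N)).card_mul_index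
    rw [Subgroup.index_comap_of_surjective _ hs, Subgroup.card_eq_card_quotient_mul_card_subgroup N,
      ← H.card_mul_index] at h1
    refine Nat.eq_of_mul_eq_mul_right (m := H.index) (Nat.pos_of_ne_zero FiniteIndex.index_ne_zero) ?_
    rw [h1]; ring
  obtain ⟨g, hg⟩ := hG (H.comap (QuotientGroup.mk' N)) (K.comap (QuotientGroup.mk' N))
    (by rw [key, key, h])
  refine ⟨QuotientGroup.mk' N g, ?_⟩
  rw [← map_comap_eq_self_of_surjective hs K, hg, map_map]
  conv_rhs => rw [← map_comap_eq_self_of_surjective hs H, map_map]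
  congr 1

theorem Hyp.eq_of_normal (hG : Hyp G) {M : Subgroup G} [M.Normal] {H : Subgroup G}
    (h : Nat.card H = Nat.card M) : H = M := by
  obtain ⟨g, hg⟩ := hG M H h.symm
  rw [hg]
  exact Invol.conj_map_eq_of_mem_normalizer (by rw [normalizer_eq_top_iff.2 inferInstance]; trivial)

theorem Hyp.sylow_cases (hG : Hyp G) {p : ℕ} [Fact p.Prime] (P : Sylow p G) :
    IsCyclic P ∨ Cfsg.IsElementaryAbelian p (P : Subgroup G) ∨
      Nonempty ((P : Subgroup G) ≃* QuaternionGroup 2) :=
  Cfsg.Agent.S4020.result (fun _ _ H K _ _ h => hG H K h) P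

/-- A prime order element is not both centralised and inverted by involutions. -/
theorem Hyp.no_both (hG : Hyp G) {l : ℕ} (hl : l.Prime) (hl2 : l ≠ 2) {x y t s : G}
    (hx : orderOf x = l) (hy : orderOf y = l) (ht : orderOf t = 2) (hs : orderOf s = 2)
    (hxt : t * x = x * t) (hys : s * y * s⁻¹ = y⁻¹) : False := by
  have hsy : orderOf (s * y) = 2 := by
    refine Invol.invol_iff.2 ⟨?_, fun h => ?_⟩
    · rw [show s * y * (s * y) = (s * y * s⁻¹) * (s * s) * y by group, Invol.invol_mul_self hs, hys]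
      simp
    · rw [mul_eq_one_iff_inv_eq, Invol.invol_inv hs] at h
      rw [h, hy] at hs
      exact hl2 hs
  have hcard : Nat.card (zpowers (t * x)) = Nat.card (closure ({s, s * y} : Set G)) := by
    rw [Invol.card_closure_pair hs hsy, ← mul_assoc, Invol.invol_mul_self hs, one_mul, hy,
      Nat.card_zpowers, (show Commute t x from hxt).orderOf_mul_eq_mul_orderOf_of_coprime
        (by rw [ht, hx]; exact (Nat.coprime_primes Nat.prime_two hl).2 (Ne.symm hl2)), ht, hx]
  obtain ⟨g, hg⟩ := hG _ _ hcard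
  have hc : ∀ a ∈ closure ({s, s * y} : Set G), ∀ b ∈ closure ({s, s * y} : Set G), a * b = b * a := by
    rw [hg]
    rintro _ ⟨a, ha, rfl⟩ _ ⟨b, hb, rfl⟩
    obtain ⟨i, rfl⟩ := mem_zpowers_iff.1 ha
    obtain ⟨j, rfl⟩ := mem_zpowers_iff.1 hb
    rw [← map_mul, ← map_mul, ((Commute.refl (t * x)).zpow_zpow i j).eq]
  have h1 := hc s (subset_closure (by simp)) (s * y) (subset_closure (by simp))
  rw [mul_assoc] at h1
  have h2 : s * y = y * s := mul_left_cancel h1
  rw [h2, mul_inv_cancel_right] at hys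
  have h3 := orderOf_dvd_of_pow_eq_one (show y ^ 2 = 1 by
    rw [sq]; nth_rewrite 1 [hys]; exact inv_mul_cancel y)
  rw [hy] at h3
  exact hl2 ((Nat.prime_dvd_prime_iff_eq hl Nat.prime_two).1 h3)

/-- An odd prime order element centralised by an involution is inverted by none. -/
theorem Hyp.not_inverted (hG : Hyp G) {t : G} (ht : orderOf t = 2) {l : ℕ} (hl : l.Prime)
    (hl2 : l ≠ 2) (hdvd : l ∣ Nat.card (centralizer ({t} : Set G))) {y s : G} (hy : orderOf y = l)
    (hs : orderOf s = 2) : s * y * s⁻¹ ≠ y⁻¹ := by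
  haveI := Fact.mk hl
  obtain ⟨⟨x, hx⟩, hxo⟩ := exists_prime_orderOf_dvd_card' l hdvd
  rw [← Subgroup.orderOf_coe] at hxo
  exact fun h => hG.no_both hl hl2 hxo hy ht hs (mem_centralizer_singleton_iff.1 hx).symm h

/-- The Sylow 2-subgroup through an involution is normalised by its centraliser. -/
theorem Hyp.cent_le_normalizer (hG : Hyp G) (S : Sylow 2 G)
    (hS : Cfsg.IsElementaryAbelian 2 (S : Subgroup G)) {t : G} (ht : t ∈ (S : Subgroup G))
    (ht2 : orderOf t = 2) :
    centralizer ({t} : Set G) ≤ normalizer ((S : Subgroup G) : Set G) := by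
  haveI := Fact.mk Nat.prime_two
  set C := centralizer ({t} : Set G) with hC
  have hSC : (S : Subgroup G) ≤ C := fun s hs => mem_centralizer_singleton_iff.2
    (congrArg Subtype.val (hS.1.is_comm.comm (⟨s, hs⟩ : (S : Subgroup G)) ⟨t, ht⟩))
  have hcore : ∀ s : C, (s : G) ∈ (S : Subgroup G) → s ∈ Cfsg.pCore 2 C := by
    intro s hs
    by_cases hs1 : s = 1
    · rw [hs1]; exact one_mem _
    by_contra hne
    have hso : orderOf s = 2 := Invol.invol_iff.2
      ⟨Subtype.ext (by rw [Subgroup.coe_mul, ← sq]; exact hS.2 _ hs), hs1⟩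
    obtain ⟨x, hx1, hxodd, hinv⟩ := Invol.exists_odd_inverted_of_notMem_pCore hso hne
    obtain ⟨l, hl, hld, y, -, hy, hyinv⟩ := exists_prime_inverted
      (t := (s : G)) (z := (x : G)) (fun h => hx1 (Subtype.ext h)) (congrArg Subtype.val hinv)
    have hl2 : l ≠ 2 := by
      rintro rfl
      rw [Subgroup.orderOf_coe] at hld
      exact Nat.not_even_iff_odd.2 hxodd (even_iff_two_dvd.2 hld)
    refine hG.not_inverted ht2 hl hl2 ?_ hy (by rwa [Subgroup.orderOf_coe]) hyinv
    exact hld.trans (Subgroup.orderOf_dvd_natCard C x.2)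
  set K := (Cfsg.pCore 2 C).map C.subtype with hK
  have hSK : (S : Subgroup G) ≤ K := fun s hs => ⟨⟨s, hSC hs⟩, hcore _ hs, rfl⟩
  have hKS : K = (S : Subgroup G) := S.3 ((Coprime.pCore_isPGroup (G := C) 2).map _) hSK
  intro c hc
  rw [mem_normalizer_iff]
  have key : ∀ c ∈ C, ∀ s ∈ (S : Subgroup G), c * s * c⁻¹ ∈ (S : Subgroup G) := by
    intro c hc s hs
    rw [← hKS] at hs ⊢
    obtain ⟨k, hk, rfl⟩ := hs
    haveI : (Cfsg.pCore 2 C).Normal := inferInstance
    exact ⟨⟨c, hc⟩ * k * ⟨c, hc⟩⁻¹, Subgroup.Normal.conj_mem inferInstance k hk _, rfl⟩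
  refine fun s => ⟨fun hs => key c hc s hs, fun hs => ?_⟩
  have := key c⁻¹ (inv_mem hc) _ hs
  rwa [show c⁻¹ * (c * s * c⁻¹) * c⁻¹⁻¹ = s by group] at this

/-- Subgroups centralised by `S` are fused by the normaliser of `S`. -/
theorem exists_normalizer_conj (S : Sylow 2 G) {A B : Subgroup G}
    (hA : ∀ a ∈ A, ∀ s ∈ (S : Subgroup G), s * a = a * s)
    (hB : ∀ a ∈ B, ∀ s ∈ (S : Subgroup G), s * a = a * s) {g : G}
    (hg : B = A.map (MulAut.conj g).toMonoidHom) :
    ∃ n ∈ normalizer ((S : Subgroup G) : Set G), B = A.map (MulAut.conj n).toMonoidHom := by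
  haveI := Fact.mk Nat.prime_two
  set C := centralizer (B : Set G) with hC
  have hSC : (S : Subgroup G) ≤ C := fun s hs => mem_centralizer_iff.2 fun b hb => (hB b hb s hs).symm
  have hgC : ((g • S : Sylow 2 G) : Subgroup G) ≤ C := by
    intro y hy
    rw [Sylow.coe_subgroup_smul] at hy
    obtain ⟨s, hs, rfl⟩ := hy
    refine mem_centralizer_iff.2 fun b hb => ?_
    rw [SetLike.mem_coe, hg] at hb
    obtain ⟨a, ha, rfl⟩ := hb
    show MulAut.conj g a * MulAut.conj g s = MulAut.conj g s * MulAut.conj g a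
    rw [← map_mul, ← map_mul, hA a ha s hs]
  obtain ⟨c, hc⟩ := MulAction.exists_smul_eq C ((g • S).subtype hgC) (S.subtype hSC)
  rw [Sylow.smul_subtype] at hc
  have hcg : ((c : G) * g) • S = S := by
    rw [mul_smul]; exact Sylow.subtype_injective hc
  refine ⟨(c : G) * g, Sylow.smul_eq_iff_mem_normalizer.1 hcg, ?_⟩
  have hfix : B.map (MulAut.conj (c : G)).toMonoidHom = B := by
    refine Subgroup.eq_of_le_of_card_ge ?_ (card_map_of_injective (MulAut.conj (c : G)).injective).ge
    rintro _ ⟨b, hb, rfl⟩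
    show (c : G) * b * (c : G)⁻¹ ∈ B
    rw [← mem_centralizer_iff.1 c.2 b hb, mul_inv_cancel_right]
    exact hb
  rw [← hfix, hg, map_map]
  congr 1
  ext x
  simp [mul_assoc]

end CfsgLib.EqConj
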