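import Cfsg.Agent.Lib.Invol.EqualOrderConj.Large
import Cfsg.Agent.Lib.Invol.EqualOrderConj.Quat
import Cfsg.Agent.Lib.Invol.ThreePoint

/-!
# Groups with trivial odd core in which subgroups of equal order are conjugate
-/

set_option autoImplicit false
set_option linter.unusedSectionVars false
set_option linter.style.haveILetI false

namespace CfsgLib.EqConj

open Subgroup

universe u

variable {G : Type u} [Group G] [Finite G]

theorem cyclic_case (hO : Cfsg.oddCore G = ⊥) (S : Sylow 2 G) (hS : IsCyclic (S : Subgroup G)) :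
    IsCyclic G ∧ IsPGroup 2 G := by
  haveI := Fact.mk Nat.prime_two
  obtain ⟨P, J, hJ, hJP⟩ := Invol.hasNormalPComplement_two_of_isCyclic S hS
  haveI := hJ
  have hJodd : ¬ 2 ∣ Nat.card J := by rw [← hJP.index_eq_card]; exact P.not_dvd_index
  have hJ0 : J = ⊥ := by
    have h := Coprime.le_pPrimeCore_of_not_dvd Nat.prime_two hJodd
    rwa [show Cfsg.pPrimeCore 2 G = ⊥ from hO, le_bot_iff] at h
  have htop : (P : Subgroup G) = ⊤ := by
    have h := hJP.sup_eq_top
    rwa [hJ0, bot_sup_eq] at h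
  let e : G ≃* (P : Subgroup G) :=
    topEquiv.symm.trans (MulEquiv.subgroupCongr htop.symm)
  haveI : IsCyclic (P : Subgroup G) :=
    isCyclic_of_surjective (Sylow.equiv S P).toMonoidHom (Sylow.equiv S P).surjective
  exact ⟨isCyclic_of_surjective e.symm.toMonoidHom e.symm.surjective, P.2.of_equiv e.symm⟩

theorem classify (hG : Hyp G) (hO : Cfsg.oddCore G = ⊥) :
    (IsCyclic G ∧ IsPGroup 2 G) ∨
    Nonempty (G ≃* Cfsg.affineGroup (GaloisField 2 3)) ∨
    Nonempty (G ≃* Cfsg.semiaffineGroup (GaloisField 2 3)) ∨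
    Nonempty (G ≃* Cfsg.semiaffineGroup (GaloisField 2 5)) ∨
    Nonempty (G ≃* Matrix.ProjectiveSpecialLinearGroup (Fin 2) (GaloisField 2 3)) ∨
    Nonempty (G ≃* MulAut (Matrix.ProjectiveSpecialLinearGroup (Fin 2) (GaloisField 2 5))) ∨
    Nonempty (G ≃* alternatingGroup (Fin 4)) ∨
    Nonempty (G ≃* alternatingGroup (Fin 5)) ∨
    Nonempty (G ≃* Matrix.SpecialLinearGroup (Fin 2) (ZMod 3)) ∨
    Nonempty (G ≃* Matrix.SpecialLinearGroup (Fin 2) (ZMod 5)) := by
  classical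
  haveI := Fact.mk Nat.prime_two
  obtain ⟨S⟩ : Nonempty (Sylow 2 G) := inferInstance
  rcases hG.sylow_cases S with h | h | ⟨⟨e⟩⟩
  · exact Or.inl (cyclic_case hO S h)
  swap
  · rcases quaternion_case hG hO S e with h | h
    · exact Or.inr <| Or.inr <| Or.inr <| Or.inr <| Or.inr <| Or.inr <| Or.inr <| Or.inr <| Or.inl h
    · exact Or.inr <| Or.inr <| Or.inr <| Or.inr <| Or.inr <| Or.inr <| Or.inr <| Or.inr <| Or.inr h
  obtain ⟨r, hr⟩ := S.2.exists_card_eq
  rcases (show r = 0 ∨ r = 1 ∨ r = 2 ∨ 3 ≤ r by omega) with rfl | rfl | rfl | h3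
  · refine Or.inl (cyclic_case hO S ?_)
    haveI : Subsingleton (S : Subgroup G) :=
      Finite.card_le_one_iff_subsingleton.1 (by rw [hr, pow_zero])
    exact isCyclic_of_subsingleton
  · refine Or.inl (cyclic_case hO S ?_)
    exact isCyclic_of_prime_card (p := 2) (by rw [hr, pow_one])
  · by_cases hn : (S : Subgroup G).Normal
    · exact Or.inr <| Or.inr <| Or.inr <| Or.inr <| Or.inr <| Or.inr <| Or.inl
        (four_normal hG hO S h hr hn)
    · exact Or.inr <| Or.inr <| Or.inr <| Or.inr <| Or.inr <| Or.inr <| Or.inr <| Or.inl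
        (four_not_normal hG hO S h hr hn)
  have hcases := normalizer_cases S hG h h3 hr
  by_cases hn : (S : Subgroup G).Normal
  · have htop : normalizer ((S : Subgroup G) : Set G) = ⊤ := normalizer_eq_top_iff.2 hn
    set N := normalizer ((S : Subgroup G) : Set G)
    have hW : Cfsg.pPrimeCore 2 N = ⊥ := by
      haveI : (oddPart S).Normal := ⟨fun w hw g => oddPart_conj S (htop.ge (mem_top g)) hw⟩
      have h := Coprime.le_pPrimeCore_of_not_dvd Nat.prime_two (N := oddPart S)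
        (fun h2 => Nat.not_even_iff_odd.2 (oddPart_odd S) (even_iff_two_dvd.2 h2))
      rw [show Cfsg.pPrimeCore 2 G = ⊥ from hO, le_bot_iff] at h
      exact (map_eq_bot_iff_of_injective _ N.subtype_injective).1 h
    have eN : G ≃* N ⧸ Cfsg.pPrimeCore 2 N :=
      (topEquiv.symm.trans (MulEquiv.subgroupCongr htop.symm)).trans
        ((QuotientGroup.quotientMulEquivOfEq hW).trans QuotientGroup.quotientBot).symm
    rcases hcases with ⟨-, ⟨e⟩, -⟩ | ⟨-, ⟨e⟩, -⟩ | ⟨-, ⟨e⟩, -⟩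
    · exact Or.inr <| Or.inl ⟨eN.trans e⟩
    · exact Or.inr <| Or.inr <| Or.inl ⟨eN.trans e⟩
    · exact Or.inr <| Or.inr <| Or.inr <| Or.inl ⟨eN.trans e⟩
  · have hC : ∃ C : Ctx G, True := by
      rcases hcases with ⟨hr3, -, hN⟩ | ⟨hr3, -, hN⟩ | ⟨hr5, -, hN⟩
      · exact ⟨⟨hG, hO, S, h, hn, r, 7, 1, Or.inl hr3, hr, by rw [hr3]; norm_num, Or.inl rfl,
          fun h5 => by omega, by rw [hN, hr3]; norm_num⟩, trivial⟩
      · exact ⟨⟨hG, hO, S, h, hn, r, 7, 3, Or.inl hr3, hr, by rw [hr3]; norm_num, Or.inr hr3.symm,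
          fun h5 => by omega, by rw [hN, hr3]; norm_num⟩, trivial⟩
      · exact ⟨⟨hG, hO, S, h, hn, r, 31, 5, Or.inr hr5, hr, by rw [hr5]; norm_num, Or.inr hr5.symm,
          fun h5 => h5.symm, by rw [hN, hr5]; norm_num⟩, trivial⟩
    obtain ⟨C, -⟩ := hC
    rcases C.result with ⟨-, h⟩ | ⟨-, h⟩
    · exact Or.inr <| Or.inr <| Or.inr <| Or.inr <| Or.inl h
    · exact Or.inr <| Or.inr <| Or.inr <| Or.inr <| Or.inr <| Or.inl h

end CfsgLib.EqConj
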