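import Cfsg.Agent.Lib.Invol.Basic
import Cfsg.Agent.Lib.Invol.InvertedOdd
import Cfsg.Agent.Lib.Coprime.Action
import Mathlib.GroupTheory.Sylow
import Mathlib.GroupTheory.SpecificGroups.Cyclic

/-!
# General lemmas for groups whose subgroups of equal order are conjugate

Inverted elements in odd subgroups normalised by an involution, lifting of inverted elements along a
homomorphism with odd kernel and conjugation into a coprime complement.
-/

set_option autoImplicit false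
set_option linter.unusedSectionVars false
set_option linter.style.haveILetI false

namespace CfsgLib.EqConj

open Subgroup

universe u

variable {G : Type u} [Group G] [Finite G]

/-- A non-trivial element inverted by `t` has an inverted power of prime order. -/
theorem exists_prime_inverted {t z : G} (hz : z ≠ 1) (hinv : t * z * t⁻¹ = z⁻¹) :
    ∃ l : ℕ, l.Prime ∧ l ∣ orderOf z ∧
      ∃ x ∈ zpowers z, orderOf x = l ∧ t * x * t⁻¹ = x⁻¹ := by
  have h1 : orderOf z ≠ 1 := fun h => hz (orderOf_eq_one_iff.1 h)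
  obtain ⟨l, hl, hld⟩ := Nat.exists_prime_and_dvd h1
  refine ⟨l, hl, hld, z ^ (orderOf z / l), npow_mem_zpowers z _, ?_, ?_⟩
  · rw [orderOf_pow_of_dvd (Nat.div_pos (Nat.le_of_dvd (orderOf_pos z) hld) hl.pos).ne'
      (Nat.div_dvd_of_dvd hld), Nat.div_div_self hld (orderOf_pos z).ne']
  · rw [← conj_pow, hinv, inv_pow]

/-- The commutator of an involution with an element is inverted by it. -/
theorem conj_commutator_invol {t y : G} (ht : t * t = 1) :
    t * (y⁻¹ * (t * y * t⁻¹)) * t⁻¹ = (y⁻¹ * (t * y * t⁻¹))⁻¹ := by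
  have hti : t⁻¹ = t := inv_eq_of_mul_eq_one_right ht
  calc t * (y⁻¹ * (t * y * t⁻¹)) * t⁻¹ = (t * y⁻¹ * t⁻¹) * ((t * t) * y * (t⁻¹ * t⁻¹)) := by group
    _ = (t * y⁻¹ * t⁻¹) * y := by rw [ht, hti, ht]; simp
    _ = (y⁻¹ * (t * y * t⁻¹))⁻¹ := by group

/-- If `t` does not centralise all of the odd subgroup it normalises, with `l` dividing the index of
the fixed subgroup, then it inverts an element of order `l`. -/
theorem exists_inverted_of_dvd {t : G} (ht : orderOf t = 2) {X : Subgroup G}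
    (hodd : Odd (Nat.card X)) (hnorm : ∀ x ∈ X, t * x * t⁻¹ ∈ X) {l : ℕ} (hl : l.Prime)
    (hdvd : l ∣ (X ⊓ centralizer ({t} : Set G)).relIndex X) :
    ∃ x ∈ X, orderOf x = l ∧ t * x * t⁻¹ = x⁻¹ := by
  haveI := Fact.mk hl
  have htt : t * t = 1 := Invol.invol_mul_self ht
  have hti : t⁻¹ = t := inv_eq_of_mul_eq_one_right htt
  set A := zpowers t with hA
  have hAc : Nat.card A = 2 := by rw [hA, Nat.card_zpowers, ht]
  have hAn : A ≤ normalizer (X : Set G) := by
    rw [hA, zpowers_le, mem_normalizer_iff]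
    intro x
    refine ⟨hnorm x, fun hx => ?_⟩
    have h := hnorm _ hx
    rwa [show t * (t * x * t⁻¹) * t⁻¹ = (t * t) * x * (t⁻¹ * t⁻¹) by group, htt, hti, htt, one_mul,
      mul_one] at h
  have hcop : (Nat.card A).Coprime (Nat.card X) := by
    rw [hAc]; exact hodd.coprime_two_left
  have hsol : Group.IsSolvable A ∨ Group.IsSolvable X := Or.inl (by
    haveI : IsCyclic A := Subgroup.isCyclic_zpowers t
    exact Coprime.isSolvable_of_isMulCommutative IsCyclic.isMulCommutative)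
  obtain ⟨R, hR, hRn⟩ := Coprime.exists_invariant_sylow hAn hcop hsol l
  by_cases hall : ∀ y ∈ R, t * y * t⁻¹ = y
  · exfalso
    have hle : R ≤ X ⊓ centralizer ({t} : Set G) := fun y hy =>
      mem_inf.2 ⟨hR.1 hy, mem_centralizer_singleton_iff.2 (mul_inv_eq_iff_eq_mul.1 (hall y hy)).symm⟩
    have h1 : Nat.card R ∣ Nat.card ↥(X ⊓ centralizer ({t} : Set G)) := card_dvd_of_le hle
    have h2 : Nat.card ↥(X ⊓ centralizer ({t} : Set G)) *
        (X ⊓ centralizer ({t} : Set G)).relIndex X = Nat.card X := by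
      have h := relIndex_mul_relIndex ⊥ (X ⊓ centralizer ({t} : Set G)) X bot_le inf_le_left
      rwa [relIndex_bot_left, relIndex_bot_left] at h
    have h3 : l ^ ((Nat.card X).factorization l + 1) ∣ Nat.card X := by
      rw [pow_succ, ← h2]
      exact mul_dvd_mul (by rw [h2, ← hR.2]; exact h1) hdvd
    exact Nat.pow_succ_factorization_not_dvd (Nat.card_pos).ne' hl h3
  · push Not at hall
    obtain ⟨y, hy, hne⟩ := hall
    set z := y⁻¹ * (t * y * t⁻¹) with hz
    have hzR : z ∈ R :=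
      mul_mem (inv_mem hy) ((mem_normalizer_iff.1 (hRn (mem_zpowers t)) y).1 hy)
    have hz1 : z ≠ 1 := fun h => hne (inv_mul_eq_one.1 h).symm
    obtain ⟨l', hl', hld, x, hxz, hxo, hxi⟩ := exists_prime_inverted hz1 (conj_commutator_invol htt)
    obtain ⟨k, hk⟩ := hR.isPGroup ⟨z, hzR⟩
    have hk' : z ^ l ^ k = 1 := congrArg Subtype.val hk
    obtain rfl : l' = l := (Nat.prime_dvd_prime_iff_eq hl' hl).1
      (hl'.dvd_of_dvd_pow (hld.trans (orderOf_dvd_of_pow_eq_one hk')))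
    exact ⟨x, hR.1 (zpowers_le.2 hzR hxz), hxo, hxi⟩

/-- Inverted elements lift along a homomorphism with kernel of odd order, up to prime divisors of
the kernel. -/
theorem lift_inverted {M : Type u} [Group M] [Finite M] {M' : Type u} [Group M'] (f : M →* M')
    (hker : Odd (Nat.card f.ker)) {t' x' : M'} (ht' : orderOf t' = 2) {l : ℕ} (hl : l.Prime)
    (hl2 : l ≠ 2) (hx' : orderOf x' = l) (hinv : t' * x' * t'⁻¹ = x'⁻¹) (htr : t' ∈ f.range)
    (hxr : x' ∈ f.range) :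
    ∃ l' : ℕ, l'.Prime ∧ l' ∣ l * Nat.card f.ker ∧ ∃ t x : M, orderOf t = 2 ∧ orderOf x = l' ∧
      t * x * t⁻¹ = x⁻¹ := by
  obtain ⟨t0, rfl⟩ := htr
  obtain ⟨x0, rfl⟩ := hxr
  obtain ⟨hsq, hne⟩ := Invol.invol_iff.1 ht'
  have hk2 : t0 * t0 ∈ f.ker := by rw [MonoidHom.mem_ker, map_mul, hsq]
  have h2o : (t0 * t0) ^ Nat.card f.ker = 1 :=
    congrArg Subtype.val (pow_card_eq_one' (x := (⟨t0 * t0, hk2⟩ : f.ker)))
  obtain ⟨k, hk⟩ := hker
  set t := t0 ^ Nat.card f.ker with htdef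
  have htsq : t * t = 1 := by rw [htdef, ← (Commute.refl t0).mul_pow, h2o]
  have hft : f t = f t0 := by
    rw [htdef, hk, pow_succ, pow_mul, map_mul, map_pow, map_pow, sq, hsq, one_pow, one_mul]
  have hto : orderOf t = 2 := Invol.invol_iff.2 ⟨htsq, fun h => hne (by rw [← hft, h, map_one])⟩
  set z := x0⁻¹ * (t * x0 * t⁻¹) with hzdef
  have hfz : f z = (f x0)⁻¹ * (f x0)⁻¹ := by
    rw [hzdef, map_mul, map_mul, map_mul, map_inv, map_inv, hft, hinv]
  have hx1 : f x0 ≠ 1 := fun h => by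
    rw [h, orderOf_one] at hx'; exact hl.ne_one hx'.symm
  have hz1 : z ≠ 1 := by
    intro h
    rw [h, map_one] at hfz
    have h2 : f x0 * f x0 = 1 := by
      rw [← inv_inj, mul_inv_rev, inv_one]; exact hfz.symm
    have h3 := orderOf_dvd_of_pow_eq_one (show (f x0) ^ 2 = 1 by rw [sq, h2])
    rw [hx'] at h3
    exact hl2 ((Nat.prime_dvd_prime_iff_eq hl Nat.prime_two).1 h3)
  obtain ⟨l', hl', hld, x, -, hxo, hxi⟩ := exists_prime_inverted hz1 (conj_commutator_invol htsq)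
  refine ⟨l', hl', hld.trans (orderOf_dvd_of_pow_eq_one ?_), t, x, hto, hxo, hxi⟩
  have hzl : z ^ l ∈ f.ker := by
    have h1 : (f x0) ^ l = 1 := by rw [← hx']; exact pow_orderOf_eq_one _
    rw [MonoidHom.mem_ker, map_pow, hfz, ← mul_inv_rev, inv_pow, (Commute.refl (f x0)).mul_pow, h1,
      one_mul, inv_one]
  rw [pow_mul]
  exact congrArg Subtype.val (pow_card_eq_one' (x := (⟨z ^ l, hzl⟩ : f.ker)))

/-- An element of `l`-power order of `K V`, `l` not dividing `|K|`, is conjugate into `V` by `K`. -/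
theorem exists_conj_mem_complement {K V : Subgroup G} {l : ℕ} (hl : l.Prime)
    (hlK : ¬ l ∣ Nat.card K) (hKV : ∀ v ∈ V, ∀ k ∈ K, v * k * v⁻¹ ∈ K) {y : G} {e : ℕ}
    (hye : y ^ l ^ e = 1) (hy : ∃ k ∈ K, ∃ v ∈ V, y = k * v) :
    ∃ k ∈ K, k * y * k⁻¹ ∈ V := by
  classical
  haveI := Fact.mk hl
  obtain ⟨k₀, hk₀, v₀, hv₀, hy⟩ := hy
  set O : Set (G ⧸ V) := MulAction.orbit K ((1 : G) : G ⧸ V) with hO
  have hOy : ∀ z ∈ O, y • z ∈ O := by
    rintro _ ⟨⟨k, hk⟩, rfl⟩
    refine ⟨⟨k₀ * (v₀ * k * v₀⁻¹), mul_mem hk₀ (hKV v₀ hv₀ k hk)⟩, ?_⟩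
    show ((k₀ * (v₀ * k * v₀⁻¹) * 1 : G) : G ⧸ V) = ((y * (k * 1) : G) : G ⧸ V)
    rw [QuotientGroup.eq, hy]
    rw [show (k₀ * (v₀ * k * v₀⁻¹) * 1)⁻¹ * (k₀ * v₀ * (k * 1)) = v₀ by group]
    exact hv₀
  have hOz : ∀ g ∈ zpowers y, ∀ z ∈ O, g • z ∈ O := by
    intro g hg z hz
    have hpow : ∀ n : ℕ, ∀ z ∈ O, y ^ n • z ∈ O := by
      intro n
      induction n with
      | zero => intro z hz; rwa [pow_zero, one_smul]
      | succ n ih => intro z hz; rw [pow_succ, mul_smul]; exact ih _ (hOy z hz)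
    obtain ⟨n, rfl⟩ := (isOfFinOrder_of_finite y).mem_powers_iff_mem_zpowers.2 hg
    exact hpow n z hz
  let : MulAction (zpowers y) O :=
    { smul := fun g z => ⟨(g : G) • (z : G ⧸ V), hOz g g.2 z z.2⟩
      one_smul := fun z => Subtype.ext (one_smul G (z : G ⧸ V))
      mul_smul := fun g h z => Subtype.ext (mul_smul (g : G) h (z : G ⧸ V)) }
  have hp : IsPGroup l (zpowers y) := by
    obtain ⟨j, -, hj⟩ := (Nat.dvd_prime_pow hl).1 (orderOf_dvd_of_pow_eq_one hye)
    exact IsPGroup.of_card (n := j) (by rw [Nat.card_zpowers, hj])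
  have hcard : ¬ l ∣ Nat.card O := fun h => hlK (h.trans (by
    rw [Nat.card_congr (MulAction.orbitEquivQuotientStabilizer K ((1 : G) : G ⧸ V))]
    exact Subgroup.card_quotient_dvd_card _))
  obtain ⟨⟨z, hz⟩, hfix⟩ := hp.nonempty_fixed_point_of_prime_not_dvd_card O hcard
  have hyz : y • z = z := congrArg Subtype.val (hfix ⟨y, mem_zpowers y⟩)
  obtain ⟨⟨k, hk⟩, rfl⟩ := hz
  refine ⟨k⁻¹, inv_mem hk, ?_⟩
  have h : ((y * (k * 1) : G) : G ⧸ V) = ((k * 1 : G) : G ⧸ V) := hyz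
  rw [eq_comm, QuotientGroup.eq] at h
  simpa [mul_assoc] using h

/-- An elementary four-group cannot act without fixed points on a non-trivial odd group. -/
theorem eq_bot_of_four_fpf {N : Subgroup G} (hodd : Odd (Nat.card N)) {s s' : G}
    (hs : orderOf s = 2) (hs' : orderOf s' = 2) (hne : s ≠ s') (hc : s * s' = s' * s)
    (hn : ∀ t ∈ ({s, s', s * s'} : Set G), ∀ x ∈ N, t * x * t⁻¹ ∈ N)
    (hfpf : ∀ t ∈ ({s, s', s * s'} : Set G), ∀ x ∈ N, t * x = x * t → x = 1) : N = ⊥ := by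
  have hss : orderOf (s * s') = 2 := by
    refine Invol.invol_iff.2 ⟨?_, fun h => hne ?_⟩
    · rw [show s * s' * (s * s') = s * (s' * s) * s' by group, ← hc,
        show s * (s * s') * s' = (s * s) * (s' * s') by group, Invol.invol_mul_self hs,
        Invol.invol_mul_self hs', mul_one]
    · rw [eq_comm, ← Invol.invol_inv hs]; exact (eq_inv_of_mul_eq_one_right h)
  have hinv : ∀ t ∈ ({s, s', s * s'} : Set G), orderOf t = 2 → ∀ x ∈ N, t * x * t⁻¹ = x⁻¹ := by
    intro t ht hto x hx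
    let φ : N → N := fun y => ⟨(y : G)⁻¹ * (t * y * t⁻¹), mul_mem (inv_mem y.2) (hn t ht _ y.2)⟩
    have hinj : Function.Injective φ := by
      intro y z h
      have h' : (y : G)⁻¹ * (t * y * t⁻¹) = (z : G)⁻¹ * (t * z * t⁻¹) := congrArg Subtype.val h
      have h'' : t * ((z : G) * (y : G)⁻¹) * t⁻¹ = (z : G) * (y : G)⁻¹ :=
        calc t * ((z : G) * (y : G)⁻¹) * t⁻¹
            = (z : G) * ((z : G)⁻¹ * (t * z * t⁻¹)) * (t * y * t⁻¹)⁻¹ := by group
          _ = (z : G) * ((y : G)⁻¹ * (t * y * t⁻¹)) * (t * y * t⁻¹)⁻¹ := by rw [← h']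
          _ = (z : G) * (y : G)⁻¹ := by group
      have h1 := hfpf t ht ((z : G) * (y : G)⁻¹) (mul_mem z.2 (inv_mem y.2))
        (mul_inv_eq_iff_eq_mul.1 h'')
      exact Subtype.ext (mul_inv_eq_one.1 h1).symm
    obtain ⟨⟨y, hy⟩, hyx⟩ := (Finite.injective_iff_surjective.1 hinj) ⟨x, hx⟩
    rw [← show (y⁻¹ * (t * y * t⁻¹)) = x from congrArg Subtype.val hyx]
    exact conj_commutator_invol (Invol.invol_mul_self hto)
  rw [eq_bot_iff]
  intro x hx
  have h1 := hinv s (by simp) hs x hx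
  have h2 := hinv s' (by simp) hs' x hx
  have h3 := hinv (s * s') (by simp) hss x hx
  have h4 : s * s' * x * (s * s')⁻¹ = x := by
    rw [show s * s' * x * (s * s')⁻¹ = s * (s' * x * s'⁻¹) * s⁻¹ by group, h2,
      show s * x⁻¹ * s⁻¹ = (s * x * s⁻¹)⁻¹ by group, h1, inv_inv]
  rw [h4] at h3
  have hxx : x * x = 1 := by nth_rewrite 1 [h3]; exact inv_mul_cancel x
  exact Invol.eq_one_of_odd_of_mul_self
    (hodd.of_dvd_nat (Subgroup.orderOf_dvd_natCard N hx)) hxx

end CfsgLib.EqConj
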