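import Cfsg.Agent.Lib.Invol.EqualOrderConj.Tools
import Mathlib.GroupTheory.GroupAction.Basic
import Mathlib.GroupTheory.Index

/-!
# Doubly transitive groups with an abelian regular normal subgroup in the point stabiliser

The configuration left by a group with conjugate subgroups of equal order and non-normal elementary
Sylow 2-subgroup: basic properties.
-/

set_option autoImplicit false
set_option linter.unusedSectionVars false
set_option linter.style.haveILetI false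

namespace CfsgLib.EqConj

open Subgroup

universe u

variable {G : Type u} [Group G] {Ω : Type u} [MulAction G Ω]

/-- `G` is doubly transitive, `Q` is abelian, normal in the stabiliser of `a` and regular on the
other points, the stabiliser of `a` and `b` is `P V`, with `P` of order `p = 2 ^ r - 1` inverted by
the involution `u` interchanging `a` and `b` and `V` centralised by `u`. -/
structure Setup (G : Type u) [Group G] (Ω : Type u) [MulAction G Ω] (r p : ℕ) where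
  a : Ω
  b : Ω
  w : G
  S : Subgroup G
  Q : Subgroup G
  P : Subgroup G
  V : Subgroup G
  faithful : ∀ g : G, (∀ x : Ω, g • x = x) → g = 1
  two : ∀ x y x' y' : Ω, x ≠ y → x' ≠ y' → ∃ g : G, g • x = x' ∧ g • y = y'
  hab : a ≠ b
  w_sq : w * w = 1
  w_a : w • a = b
  Q_fix : ∀ q ∈ Q, q • a = a
  Q_normal : ∀ g : G, g • a = a → ∀ q ∈ Q, g * q * g⁻¹ ∈ Q
  Q_comm : ∀ x ∈ Q, ∀ y ∈ Q, x * y = y * x
  Q_trans : ∀ y : Ω, y ≠ a → ∃ q ∈ Q, q • b = y
  Q_free : ∀ q ∈ Q, q • b = b → q = 1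
  S_le : S ≤ Q
  S_card : Nat.card S = 2 ^ r
  S_sq : ∀ s ∈ S, s * s = 1
  three_le : 3 ≤ r
  Q_twopart : ¬ 2 ^ (r + 1) ∣ Nat.card Q
  p_prime : p.Prime
  p_eq : p + 1 = 2 ^ r
  P_card : Nat.card P = p
  P_fix : ∀ j ∈ P, j • a = a ∧ j • b = b
  P_inv : ∀ j ∈ P, w * j * w⁻¹ = j⁻¹
  V_fix : ∀ v ∈ V, v • a = a ∧ v • b = b
  V_w : ∀ v ∈ V, w * v = v * w
  V_norm : ∀ v ∈ V, ∀ j ∈ P, v * j * v⁻¹ ∈ P
  D_prod : ∀ d : G, d • a = a → d • b = b → ∃ j ∈ P, ∃ v ∈ V, d = j * v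
  QP : ∀ q ∈ Q, (∀ j ∈ P, q * j = j * q) → q = 1
  V_odd : Odd (Nat.card V)
  V_p : ¬ p ∣ Nat.card V
  V_cop : (Nat.card V).Coprime (Nat.card Q)
  inv : ∀ l : ℕ, l.Prime → l ∣ Nat.card V → ∀ x : G, orderOf x = l → ∀ t : G, orderOf t = 2 →
    t * x * t⁻¹ ≠ x⁻¹
  dich : ∀ v ∈ V, (∃ s ∈ S, v * s ≠ s * v) → ∀ s ∈ S, ∀ s' ∈ S, s ≠ 1 → s' ≠ 1 → v * s = s * v →
    v * s' = s' * v → s = s'

namespace Setup

variable {r p : ℕ} (T : Setup G Ω r p)
include T

theorem two_le_p : 2 ≤ p := T.p_prime.two_le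

theorem p_odd : Odd p := by
  have h := T.p_eq
  have : Even (2 ^ r) := Nat.even_pow.2 ⟨even_two, by have := T.three_le; omega⟩
  rw [← h, Nat.even_add_one, Nat.not_even_iff_odd] at this
  exact this

theorem w_b : T.w • T.b = T.a := by rw [← T.w_a, smul_smul, T.w_sq, one_smul]

theorem w_ne_one : T.w ≠ 1 := fun h => T.hab (by have := T.w_a; rwa [h, one_smul] at this)

theorem orderOf_w : orderOf T.w = 2 := Invol.invol_iff.2 ⟨T.w_sq, T.w_ne_one⟩

theorem w_inv : T.w⁻¹ = T.w := inv_eq_of_mul_eq_one_right T.w_sq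

theorem Q_eq {q q' : G} (hq : q ∈ T.Q) (hq' : q' ∈ T.Q) (h : q • T.b = q' • T.b) : q = q' := by
  have := T.Q_free _ (mul_mem (inv_mem hq') hq) (by rw [mul_smul, h, inv_smul_smul])
  exact (inv_mul_eq_one.1 this).symm

theorem Q_move {q : G} (hq : q ∈ T.Q) : q • T.b ≠ T.a := fun h => T.hab (by
  have h2 := congrArg (q⁻¹ • ·) h
  simp only [inv_smul_smul] at h2
  rw [h2, T.Q_fix _ (inv_mem hq)])

theorem card_Q_add_one [Finite Ω] : Nat.card T.Q + 1 = Nat.card Ω := by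
  classical
  have e : T.Q ≃ {x : Ω // x ≠ T.a} :=
    Equiv.ofBijective (fun q => ⟨(q : G) • T.b, T.Q_move q.2⟩)
      ⟨fun q q' h => Subtype.ext (T.Q_eq q.2 q'.2 (congrArg Subtype.val h)),
        fun y => by
          obtain ⟨q, hq, h⟩ := T.Q_trans y.1 y.2
          exact ⟨⟨q, hq⟩, Subtype.ext h⟩⟩
  rw [Nat.card_congr e, ← Finite.card_option, Nat.card_congr (Equiv.optionSubtypeNe T.a)]

variable [Finite G]

theorem even_card_Q : Even (Nat.card T.Q) := by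
  refine even_iff_two_dvd.2 ((dvd_pow_self 2 (show r ≠ 0 by have := T.three_le; omega)).trans ?_)
  rw [← T.S_card]
  exact card_dvd_of_le T.S_le

theorem odd_card [Finite Ω] : Odd (Nat.card Ω) := T.card_Q_add_one ▸ T.even_card_Q.add_one

theorem S_iff {x : G} : x ∈ T.S ↔ x ∈ T.Q ∧ x * x = 1 := by
  refine ⟨fun h => ⟨T.S_le h, T.S_sq x h⟩, fun ⟨hq, hx⟩ => ?_⟩
  letI : CommGroup T.Q :=
    { (inferInstance : Group T.Q) with mul_comm := fun a b => Subtype.ext (T.Q_comm _ a.2 _ b.2) }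
  haveI : (T.S.subgroupOf T.Q).Normal := inferInstance
  have h1 := (T.S.subgroupOf T.Q).pow_index_mem (⟨x, hq⟩ : T.Q)
  have hodd : Odd (T.S.relIndex T.Q) := by
    rw [← Nat.not_even_iff_odd, even_iff_two_dvd]
    intro h2
    apply T.Q_twopart
    have h3 := relIndex_mul_relIndex ⊥ T.S T.Q bot_le T.S_le
    rw [relIndex_bot_left, relIndex_bot_left, T.S_card] at h3
    rw [pow_succ, ← h3]
    exact mul_dvd_mul_left _ h2
  obtain ⟨k, hk⟩ := hodd
  have h2 : ((⟨x, hq⟩ : T.Q) ^ (T.S.subgroupOf T.Q).index : T.Q) = (⟨x, hq⟩ : T.Q) := by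
    apply Subtype.ext
    show x ^ T.S.relIndex T.Q = x
    rw [hk, pow_succ, pow_mul, sq, hx, one_pow, one_mul]
  rw [h2] at h1
  exact h1

theorem S_conj {g s : G} (hg : g • T.a = T.a) (hs : s ∈ T.S) : g * s * g⁻¹ ∈ T.S := by
  refine T.S_iff.2 ⟨T.Q_normal g hg s (T.S_le hs), ?_⟩
  rw [show g * s * g⁻¹ * (g * s * g⁻¹) = g * (s * s) * g⁻¹ by group, T.S_sq s hs]
  simp

theorem S_invol {s : G} (hs : s ∈ T.S) (h1 : s ≠ 1) : orderOf s = 2 :=
  Invol.invol_iff.2 ⟨T.S_sq s hs, h1⟩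

theorem exists_S_ne_one : ∃ s ∈ T.S, s ≠ 1 := by
  by_contra h
  push Not at h
  have h1 : Nat.card T.S = 1 := Subgroup.card_eq_one.2 (T.S.eq_bot_iff_forall.2 h)
  rw [T.S_card] at h1
  exact absurd (Nat.pow_eq_one.1 h1) (by have := T.three_le; omega)

omit [Finite G] in
theorem stab_prod {g : G} (hg : g • T.a = T.a) :
    ∃ q ∈ T.Q, ∃ j ∈ T.P, ∃ v ∈ T.V, g = q * (j * v) := by
  have hne : g • T.b ≠ T.a := fun h => T.hab (smul_left_cancel g (hg.trans h.symm))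
  obtain ⟨q, hq, h⟩ := T.Q_trans _ hne
  obtain ⟨j, hj, v, hv, e⟩ := T.D_prod (q⁻¹ * g)
    (by rw [mul_smul, hg, T.Q_fix _ (inv_mem hq)]) (by rw [mul_smul, ← h, inv_smul_smul])
  exact ⟨q, hq, j, hj, v, hv, by rw [← e, mul_inv_cancel_left]⟩

theorem mem_P_inf_V {x : G} (hP : x ∈ T.P) (hV : x ∈ T.V) : x = 1 := by
  have h1 := Subgroup.orderOf_dvd_natCard T.P hP
  rw [T.P_card] at h1
  rcases (Nat.dvd_prime T.p_prime).1 h1 with h | h
  · exact orderOf_eq_one_iff.1 h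
  · exact absurd (h ▸ Subgroup.orderOf_dvd_natCard T.V hV) T.V_p

theorem P_generates {j j' : G} (hj : j ∈ T.P) (hj1 : j ≠ 1) (hj' : j' ∈ T.P) : j' ∈ zpowers j := by
  haveI := Fact.mk T.p_prime
  have : zpowers j = T.P := by
    refine Subgroup.eq_of_le_of_card_ge (zpowers_le.2 hj) ?_
    rcases (Nat.dvd_prime T.p_prime).1 (T.P_card ▸ Subgroup.orderOf_dvd_natCard T.P hj) with h | h
    · exact absurd (orderOf_eq_one_iff.1 h) hj1
    · rw [Nat.card_zpowers, h, T.P_card]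
  rwa [this]

theorem P_commute_gen {j g : G} (hj : j ∈ T.P) (hj1 : j ≠ 1) (h : g * j = j * g) {j' : G}
    (hj' : j' ∈ T.P) : g * j' = j' * g := by
  obtain ⟨k, rfl⟩ := mem_zpowers_iff.1 (T.P_generates hj hj1 hj')
  exact ((show Commute g j from h).zpow_right k).eq

theorem P_fix_eq {j : G} (hj : j ∈ T.P) (hj1 : j ≠ 1) {y : Ω} (h : j • y = y) :
    y = T.a ∨ y = T.b := by
  by_cases hy : y = T.a
  · exact Or.inl hy
  obtain ⟨q, hq, rfl⟩ := T.Q_trans y hy
  have hjb := (T.P_fix j hj).2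
  have he : j * q * j⁻¹ = q := by
    refine T.Q_eq (T.Q_normal j (T.P_fix j hj).1 q hq) hq ?_
    have : j⁻¹ • T.b = T.b := by rw [inv_smul_eq_iff, hjb]
    rw [mul_smul, mul_smul, this, h]
  have hc : q * j = j * q := (mul_inv_eq_iff_eq_mul.1 he).symm
  refine Or.inr ?_
  rw [T.QP q hq fun j' hj' => T.P_commute_gen hj hj1 hc hj', one_smul]

theorem D_sq {d : G} (ha : d • T.a = T.a) (hb : d • T.b = T.b) (h : d * d = 1) : d = 1 := by
  obtain ⟨j, hj, v, hv, rfl⟩ := T.D_prod d ha hb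
  have h2 : j * (v * j * v⁻¹) * (v * v) = 1 := by rw [← h]; group
  have hvv : v * v ∈ T.P := by
    rw [← inv_inv (v * v), inv_mem_iff, ← eq_inv_of_mul_eq_one_left h2]
    exact mul_mem hj (T.V_norm v hv j hj)
  have hv2 : v * v = 1 := T.mem_P_inf_V hvv (mul_mem hv hv)
  have hv1 : v = 1 := Invol.eq_one_of_odd_of_mul_self
    (T.V_odd.of_dvd_nat (Subgroup.orderOf_dvd_natCard T.V hv)) hv2
  subst hv1
  simp only [mul_one] at h ⊢
  exact Invol.eq_one_of_odd_of_mul_self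
    (T.p_odd.of_dvd_nat (T.P_card ▸ Subgroup.orderOf_dvd_natCard T.P hj)) h

theorem invol_mem_S {t : G} (ht : orderOf t = 2) (hta : t • T.a = T.a) : t ∈ T.S := by
  have htt := Invol.invol_mul_self ht
  have hne : t • T.b ≠ T.a := fun h => T.hab (smul_left_cancel t (hta.trans h.symm))
  obtain ⟨q, hq, h⟩ := T.Q_trans _ hne
  set d := q⁻¹ * t with hd
  have hda : d • T.a = T.a := by rw [hd, mul_smul, hta, T.Q_fix _ (inv_mem hq)]
  have hdb : d • T.b = T.b := by rw [hd, mul_smul, ← h, inv_smul_smul]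
  have h2 : q * (d * q * d⁻¹) * (d * d) = 1 := by rw [← htt, hd]; group
  have hdd : d * d ∈ T.Q := by
    rw [← inv_inv (d * d), inv_mem_iff, ← eq_inv_of_mul_eq_one_left h2]
    exact mul_mem hq (T.Q_normal d hda q hq)
  have hd1 : d = 1 := T.D_sq hda hdb (T.Q_free _ hdd (by rw [mul_smul, hdb, hdb]))
  have htq : t = q := by rw [hd, inv_mul_eq_one] at hd1; exact hd1.symm
  exact T.S_iff.2 ⟨htq ▸ hq, htt⟩

theorem S_fix_eq {s : G} (hs : s ∈ T.S) (hs1 : s ≠ 1) {y : Ω} (h : s • y = y) : y = T.a := by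
  by_contra hy
  obtain ⟨q, hq, rfl⟩ := T.Q_trans y hy
  refine hs1 (T.Q_free s (T.S_le hs) (smul_left_cancel q ?_))
  rw [smul_smul, T.Q_comm q hq s (T.S_le hs), ← smul_smul, h]

omit [Finite G] in
theorem exists_map_a (y : Ω) : ∃ g : G, g • y = T.a := by
  by_cases h : y = T.a
  · exact ⟨1, by rw [one_smul, h]⟩
  · obtain ⟨g, hg, -⟩ := T.two y T.a T.a T.b h T.hab
    exact ⟨g, hg⟩

theorem invol_fix_unique {t : G} (ht : orderOf t = 2) {y z : Ω} (hy : t • y = y) (hz : t • z = z) :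
    y = z := by
  obtain ⟨g, hg⟩ := T.exists_map_a y
  have hto := Invol.invol_conj ht g
  have hS := T.invol_mem_S hto (by rw [← hg, mul_smul, inv_smul_smul, mul_smul, hy])
  have h := T.S_fix_eq hS (Invol.invol_ne_one hto) (y := g • z)
    (by rw [mul_smul, inv_smul_smul, mul_smul, hz])
  exact smul_left_cancel g (hg.trans h.symm)

theorem exists_fixed [Finite Ω] {t : G} (ht : orderOf t = 2) : ∃ y : Ω, t • y = y := by
  haveI := Fact.mk Nat.prime_two
  have hp : IsPGroup 2 (zpowers t) := IsPGroup.of_card (n := 1) (by rw [Nat.card_zpowers, ht, pow_one])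
  obtain ⟨y, hy⟩ := hp.nonempty_fixed_point_of_prime_not_dvd_card Ω
    (fun h => Nat.not_even_iff_odd.2 T.odd_card (even_iff_two_dvd.2 h))
  exact ⟨y, hy ⟨t, mem_zpowers t⟩⟩

omit [Finite G] in
/-- Any two points are interchanged by an involution. -/
theorem exists_swap {y z : Ω} (h : y ≠ z) : ∃ t : G, orderOf t = 2 ∧ t • y = z ∧ t • z = y := by
  obtain ⟨g, hga, hgb⟩ := T.two T.a T.b y z T.hab h
  refine ⟨g * T.w * g⁻¹, Invol.invol_conj T.orderOf_w g, ?_, ?_⟩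
  · rw [← hga, mul_smul, inv_smul_smul, mul_smul, T.w_a, hgb]
  · rw [← hgb, mul_smul, inv_smul_smul, mul_smul, T.w_b, hga]

/-- The fixed point of `w` differs from `a` and `b`. -/
theorem exists_w_fixed [Finite Ω] : ∃ c : Ω, T.w • c = c ∧ c ≠ T.a ∧ c ≠ T.b := by
  obtain ⟨c, hc⟩ := T.exists_fixed T.orderOf_w
  refine ⟨c, hc, ?_, ?_⟩
  · rintro rfl
    exact T.hab (hc.symm.trans T.w_a)
  · rintro rfl
    exact T.hab (T.w_b.symm.trans hc)

/-- The subgroup generated by the involutions. -/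
def L (_T : Setup G Ω r p) : Subgroup G := closure {t : G | orderOf t = 2}

omit [Finite G] in
theorem invol_mem_L {t : G} (ht : orderOf t = 2) : t ∈ T.L := subset_closure ht

omit [Finite G] in
theorem L_normal : T.L.Normal := by
  refine ⟨fun n hn g => ?_⟩
  have hmap : T.L.map (MulAut.conj g).toMonoidHom ≤ T.L := by
    rw [L, MonoidHom.map_closure, closure_le]
    rintro _ ⟨t, ht, rfl⟩
    exact subset_closure (Invol.invol_conj ht g)
  exact hmap ⟨n, hn, rfl⟩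

omit [Finite G] in
theorem w_mem_L : T.w ∈ T.L := T.invol_mem_L T.orderOf_w

omit [Finite G] in
theorem P_le_L : T.P ≤ T.L := by
  intro j hj
  have hne : T.w * j ≠ 1 := by
    intro h
    apply T.hab
    have h2 : (T.w * j) • T.a = T.a := by rw [h, one_smul]
    rw [mul_smul, (T.P_fix j hj).1, T.w_a] at h2
    exact h2.symm
  have hsq : T.w * j * (T.w * j) = 1 := by
    rw [show T.w * j * (T.w * j) = (T.w * j * T.w⁻¹) * (T.w * T.w) * j by group, T.w_sq,
      T.P_inv j hj]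
    simp
  rw [show j = T.w * (T.w * j) by rw [← mul_assoc, T.w_sq, one_mul]]
  exact mul_mem T.w_mem_L (T.invol_mem_L (Invol.invol_iff.2 ⟨hsq, hne⟩))

theorem Q_le_L : T.Q ≤ T.L := by
  intro q hq
  obtain ⟨j, hj, hj1⟩ : ∃ j ∈ T.P, j ≠ 1 := by
    by_contra h
    push Not at h
    have h1 : Nat.card T.P = 1 := Subgroup.card_eq_one.2 (T.P.eq_bot_iff_forall.2 h)
    rw [T.P_card] at h1
    exact T.p_prime.ne_one h1
  let φ : T.Q → T.Q := fun x => ⟨(x : G) * (j * (x : G)⁻¹ * j⁻¹),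
    mul_mem x.2 (T.Q_normal j (T.P_fix j hj).1 _ (inv_mem x.2))⟩
  have hinj : Function.Injective φ := by
    intro x y h
    have h' : (x : G) * (j * (x : G)⁻¹ * j⁻¹) = (y : G) * (j * (y : G)⁻¹ * j⁻¹) :=
      congrArg Subtype.val h
    have hc : (y : G)⁻¹ * x * j = j * ((y : G)⁻¹ * x) :=
      calc (y : G)⁻¹ * x * j = (y : G)⁻¹ * ((x : G) * (j * (x : G)⁻¹ * j⁻¹)) * (j * x) := by group
        _ = (y : G)⁻¹ * ((y : G) * (j * (y : G)⁻¹ * j⁻¹)) * (j * x) := by rw [h']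
        _ = j * ((y : G)⁻¹ * x) := by group
    exact Subtype.ext (inv_mul_eq_one.1
      (T.QP _ (mul_mem (inv_mem y.2) x.2) fun j' hj' => T.P_commute_gen hj hj1 hc hj')).symm
  obtain ⟨⟨x, hx⟩, h⟩ := (Finite.injective_iff_surjective.1 hinj) ⟨q, hq⟩
  rw [← show x * (j * x⁻¹ * j⁻¹) = q from congrArg Subtype.val h,
    show x * (j * x⁻¹ * j⁻¹) = x * j * x⁻¹ * j⁻¹ by group]
  exact mul_mem (T.L_normal.conj_mem j (T.P_le_L hj) x) (inv_mem (T.P_le_L hj))

theorem L_two {x y x' y' : Ω} (h : x ≠ y) (h' : x' ≠ y') :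
    ∃ g ∈ T.L, g • x = x' ∧ g • y = y' := by
  have key : ∀ x y : Ω, x ≠ y → ∃ g ∈ T.L, g • T.a = x ∧ g • T.b = y := by
    intro x y hxy
    obtain ⟨g, hgL, hg⟩ : ∃ g ∈ T.L, g • T.a = x := by
      by_cases hx : x = T.a
      · exact ⟨1, one_mem _, by rw [one_smul, hx]⟩
      · obtain ⟨q, hq, h⟩ := T.Q_trans x hx
        exact ⟨q * T.w, mul_mem (T.Q_le_L hq) T.w_mem_L, by rw [mul_smul, T.w_a, h]⟩
    have hne : g⁻¹ • y ≠ T.a := fun e => hxy (by rw [← hg, ← e, smul_inv_smul])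
    obtain ⟨q, hq, e⟩ := T.Q_trans _ hne
    exact ⟨g * q, mul_mem hgL (T.Q_le_L hq), by rw [mul_smul, T.Q_fix q hq, hg],
      by rw [mul_smul, e, smul_inv_smul]⟩
  obtain ⟨g, hg, hga, hgb⟩ := key x y h
  obtain ⟨g', hg', hga', hgb'⟩ := key x' y' h'
  exact ⟨g' * g⁻¹, mul_mem hg' (inv_mem hg), by rw [← hga, mul_smul, inv_smul_smul, hga'],
    by rw [← hgb, mul_smul, inv_smul_smul, hgb']⟩

end Setup

end CfsgLib.EqConj
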