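import Cfsg.Agent.Lib.Invol.EqualOrderConj.Decomp
import Cfsg.Agent.Lib.Invol.EqualOrderConj.Setup

/-!
# A group with non-normal elementary Sylow 2-subgroup is in the configuration `Setup`
-/

set_option autoImplicit false
set_option linter.unusedSectionVars false
set_option linter.style.haveILetI false

namespace CfsgLib.EqConj

open Subgroup

universe u

namespace Ctx

variable {G : Type u} [Group G] [Finite G] (C : Ctx G)

/-- `S F`. -/
def SF : Subgroup G where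
  carrier := {x | ∃ s ∈ (C.S : Subgroup G), ∃ f ∈ C.F, x = s * f}
  one_mem' := ⟨1, one_mem _, 1, one_mem _, (one_mul _).symm⟩
  mul_mem' := by
    rintro _ _ ⟨s, hs, f, hf, rfl⟩ ⟨s', hs', f', hf', rfl⟩
    refine ⟨s * s', mul_mem hs hs', f * f', mul_mem hf hf', ?_⟩
    rw [mul_assoc s f, ← mul_assoc f s' f', ← C.W_S_commute (C.F_le hf) hs', mul_assoc s s',
      mul_assoc s' f f']
  inv_mem' := by
    rintro _ ⟨s, hs, f, hf, rfl⟩
    exact ⟨s⁻¹, inv_mem hs, f⁻¹, inv_mem hf, by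
      rw [mul_inv_rev, C.W_S_commute (inv_mem (C.F_le hf)) (inv_mem hs)]⟩

theorem S_le_SF : (C.S : Subgroup G) ≤ C.SF := fun s hs =>
  ⟨s, hs, 1, one_mem _, (mul_one s).symm⟩

theorem SF_le_N : C.SF ≤ C.N := by
  rintro _ ⟨s, hs, f, hf, rfl⟩
  exact mul_mem (le_normalizer hs) (oddPart_le C.S (C.F_le hf))

theorem card_SF : Nat.card C.SF = 2 ^ C.r * Nat.card C.F := by
  rw [← C.Scard, ← Nat.card_prod]
  symm
  refine Nat.card_congr (Equiv.ofBijective
    (fun a : ↥(C.S : Subgroup G) × C.F => (⟨a.1 * a.2, _, a.1.2, _, a.2.2, rfl⟩ : C.SF)) ⟨?_, ?_⟩)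
  · intro a b h
    have h' : (a.1 : G) * a.2 = b.1 * b.2 := congrArg Subtype.val h
    have h1 : (b.1 : G)⁻¹ * a.1 = b.2 * (a.2 : G)⁻¹ := by
      rw [eq_mul_inv_iff_mul_eq, mul_assoc, h', inv_mul_cancel_left]
    have h2 := disjoint_S_oddPart C.S (mul_mem (inv_mem b.1.2) a.1.2)
      (h1 ▸ mul_mem (C.F_le b.2.2) (inv_mem (C.F_le a.2.2)))
    have h3 : (a.1 : G) = b.1 := (inv_mul_eq_one.1 h2).symm
    rw [h3] at h'
    exact Prod.ext (Subtype.ext h3) (Subtype.ext (mul_left_cancel h'))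
  · rintro ⟨_, s, hs, f, hf, rfl⟩
    exact ⟨(⟨s, hs⟩, ⟨f, hf⟩), rfl⟩

theorem card_cent_any {t : G} (ht : orderOf t = 2) :
    Nat.card (centralizer ({t} : Set G)) = Nat.card (oddPart C.S) * (2 ^ C.r * C.eps) := by
  obtain ⟨z, hz⟩ := C.exists_fixed ht
  obtain ⟨g, hg⟩ := C.exists_to_x₀ z
  have hto := Invol.invol_conj ht g
  rw [← C.card_cent (C.invol_mem_S (C.conj_mem_N hg hz) hto) hto]
  refine (card_map_of_injective (f := (MulAut.conj g).toMonoidHom)
    (MulAut.conj g).injective).symm.trans ?_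
  congr 2
  ext x
  constructor
  · rintro ⟨c, hc, rfl⟩
    rw [SetLike.mem_coe, mem_centralizer_singleton_iff] at hc
    refine mem_centralizer_singleton_iff.2 ?_
    show MulAut.conj g c * MulAut.conj g t = MulAut.conj g t * MulAut.conj g c
    rw [← map_mul, ← map_mul, hc]
  · intro hx
    refine ⟨g⁻¹ * x * g, ?_, by show g * (g⁻¹ * x * g) * g⁻¹ = x; group⟩
    have hx' := mem_centralizer_singleton_iff.1 hx
    rw [SetLike.mem_coe, mem_centralizer_singleton_iff]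
    calc g⁻¹ * x * g * t = g⁻¹ * (x * (g * t * g⁻¹)) * g := by group
      _ = g⁻¹ * (g * t * g⁻¹ * x) * g := by rw [hx']
      _ = t * (g⁻¹ * x * g) := by group

/-- An element of order `p` commutes with no involution. -/
theorem p_not_cent {j t : G} (hj : orderOf j = C.p) (ht : orderOf t = 2) : j * t ≠ t * j := by
  intro h
  have h1 := Subgroup.orderOf_dvd_natCard _
    (show j ∈ centralizer ({t} : Set G) from mem_centralizer_singleton_iff.2 h)
  rw [hj, C.card_cent_any ht, show Nat.card (oddPart C.S) * (2 ^ C.r * C.eps) =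
    Nat.card (oddPart C.S) * C.eps * 2 ^ C.r by ring] at h1
  rcases (Nat.Prime.dvd_mul C.p_prime).1 h1 with h2 | h2
  · exact C.p_not_dvd h2
  · have := (Nat.prime_dvd_prime_iff_eq C.p_prime Nat.prime_two).1 (C.p_prime.dvd_of_dvd_pow h2)
    rcases C.p_val with h3 | h3 <;> omega

theorem invol_of_S {s : G} (hs : s ∈ (C.S : Subgroup G)) (hs1 : s ≠ 1) : orderOf s = 2 :=
  Invol.invol_iff.2 ⟨C.sq_one hs, hs1⟩

theorem orderOf_P {P : Subgroup G} (hP : Nat.card P = C.p) {j : G} (hj : j ∈ P) (hj1 : j ≠ 1) :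
    orderOf j = C.p := by
  haveI := Fact.mk C.p_prime
  exact orderOf_eq_prime (C.pow_p_of_mem hP hj) hj1

theorem P_inj {P : Subgroup G} (hP : Nat.card P = C.p) {s : G} (hs : s ∈ (C.S : Subgroup G))
    (hs1 : s ≠ 1) {j j' : G} (hj : j ∈ P) (hj' : j' ∈ P) (h : j * s * j⁻¹ = j' * s * j'⁻¹) :
    j = j' := by
  by_contra hne
  refine C.p_not_cent (C.orderOf_P hP (mul_mem (inv_mem hj') hj)
    (fun e => hne (inv_mul_eq_one.1 e).symm)) (C.invol_of_S hs hs1) ?_
  calc j'⁻¹ * j * s = j'⁻¹ * (j * s * j⁻¹) * j := by group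
    _ = j'⁻¹ * (j' * s * j'⁻¹) * j := by rw [h]
    _ = s * (j'⁻¹ * j) := by group

/-- `P` is transitive on the involutions of `S`. -/
theorem P_surj {P : Subgroup G} (hP : Nat.card P = C.p) (hPN : ∀ j ∈ P, j ∈ C.N) {s : G}
    (hs : s ∈ (C.S : Subgroup G)) (hs1 : s ≠ 1) {s' : G} (hs' : s' ∈ (C.S : Subgroup G))
    (hs1' : s' ≠ 1) : ∃ j ∈ P, j * s * j⁻¹ = s' := by
  classical
  haveI := Fintype.ofFinite (C.S : Subgroup G)
  let f : P → {x : (C.S : Subgroup G) // x ≠ 1} := fun j =>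
    ⟨⟨(j : G) * s * (j : G)⁻¹, (mem_normalizer_iff.1 (hPN j j.2) s).1 hs⟩,
      fun h => hs1 (by simpa [mul_inv_eq_one] using congrArg Subtype.val h)⟩
  have hf : Function.Bijective f := by
    refine (Nat.bijective_iff_injective_and_card f).2 ⟨fun a b h => Subtype.ext
      (C.P_inj hP hs hs1 a.2 b.2 (congrArg (fun x : {x : (C.S : Subgroup G) // x ≠ 1} =>
        ((x : (C.S : Subgroup G)) : G)) h)), ?_⟩
    rw [hP, Nat.card_eq_fintype_card, Fintype.card_subtype_compl, Fintype.card_subtype_eq,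
      ← Nat.card_eq_fintype_card, C.Scard]
    have := C.p_eq
    omega
  obtain ⟨j, hj⟩ := hf.2 ⟨⟨s', hs'⟩, fun h => hs1' (congrArg Subtype.val h)⟩
  exact ⟨j, j.2, congrArg (fun x : {x : (C.S : Subgroup G) // x ≠ 1} =>
    ((x : (C.S : Subgroup G)) : G)) hj⟩

/-- The action of `N(S)` on `S`. -/
def actS : C.N →* MulAut (C.S : Subgroup G) where
  toFun n :=
    { toFun := fun s => ⟨(n : G) * s * (n : G)⁻¹, (mem_normalizer_iff.1 n.2 _).1 s.2⟩
      invFun := fun s => ⟨(n : G)⁻¹ * s * n, by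
        have := (mem_normalizer_iff.1 (inv_mem n.2) (s : G)).1 s.2
        rwa [inv_inv] at this⟩
      left_inv := fun m => Subtype.ext
        (show (n : G)⁻¹ * ((n : G) * m * (n : G)⁻¹) * n = m by group)
      right_inv := fun m => Subtype.ext
        (show (n : G) * ((n : G)⁻¹ * m * n) * (n : G)⁻¹ = m by group)
      map_mul' := fun m m' => Subtype.ext
        (show (n : G) * ((m : G) * m') * (n : G)⁻¹ =
          (n : G) * m * (n : G)⁻¹ * ((n : G) * m' * (n : G)⁻¹) by group) }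
  map_one' := MulEquiv.ext fun m => Subtype.ext
    (show ((1 : C.N) : G) * m * ((1 : C.N) : G)⁻¹ = m by simp)
  map_mul' n n' := MulEquiv.ext fun m => Subtype.ext
    (show ((n * n' : C.N) : G) * m * ((n * n' : C.N) : G)⁻¹ =
      (n : G) * ((n' : G) * m * (n' : G)⁻¹) * (n : G)⁻¹ by rw [Subgroup.coe_mul]; group)

theorem mem_ker_actS {n : C.N} :
    n ∈ C.actS.ker ↔ ∀ s ∈ (C.S : Subgroup G), (n : G) * s = s * n := by
  refine ⟨fun h s hs => mul_inv_eq_iff_eq_mul.1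
    (congrArg Subtype.val (DFunLike.congr_fun (MonoidHom.mem_ker.1 h) (⟨s, hs⟩ : (C.S : Subgroup G)))),
    fun h => MonoidHom.mem_ker.2 (MulEquiv.ext fun s => Subtype.ext ?_)⟩
  show (n : G) * s * (n : G)⁻¹ = s
  rw [h _ s.2, mul_inv_cancel_right]

theorem card_actS_ker : Nat.card C.actS.ker = 2 ^ C.r * Nat.card (oddPart C.S) := by
  rw [← C.Scard, ← Nat.card_prod]
  symm
  refine Nat.card_congr (Equiv.ofBijective (fun a : ↥(C.S : Subgroup G) × oddPart C.S =>
    (⟨⟨a.1 * a.2, mul_mem (le_normalizer a.1.2) (oddPart_le C.S a.2.2)⟩, C.mem_ker_actS.2 fun s hs =>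
      (((show Commute (a.1 : G) s from C.S_comm a.1.2 hs).mul_left
        (show Commute (a.2 : G) s from oddPart_commute C.S a.2.2 hs))).eq⟩ : C.actS.ker)) ⟨?_, ?_⟩)
  · intro a b h
    have h' : (a.1 : G) * a.2 = b.1 * b.2 :=
      congrArg (fun x : C.actS.ker => ((x : C.N) : G)) h
    have h1 : (b.1 : G)⁻¹ * a.1 = b.2 * (a.2 : G)⁻¹ := by
      rw [eq_mul_inv_iff_mul_eq, mul_assoc, h', inv_mul_cancel_left]
    have h2 := disjoint_S_oddPart C.S (mul_mem (inv_mem b.1.2) a.1.2)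
      (h1 ▸ mul_mem b.2.2 (inv_mem a.2.2))
    have h3 : (a.1 : G) = b.1 := (inv_mul_eq_one.1 h2).symm
    rw [h3] at h'
    exact Prod.ext (Subtype.ext h3) (Subtype.ext (mul_left_cancel h'))
  · rintro ⟨n, hn⟩
    obtain ⟨s, hs, w, hw, e⟩ := cent_prod C.S C.hS
      (mem_centralizer_iff.2 fun s hs => (C.mem_ker_actS.1 hn s hs).symm)
    exact ⟨(⟨s, hs⟩, ⟨w, hw⟩), Subtype.ext (Subtype.ext e.symm)⟩

/-- Conjugates of `P` under `N(S)` are conjugates under `C(S)`. -/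
theorem exists_cent_conj {P P' : Subgroup G} (hP : Nat.card P = C.p) (hP' : Nat.card P' = C.p)
    (hPN : P ≤ C.N) (hPN' : P' ≤ C.N) :
    ∃ c : G, (∀ s ∈ (C.S : Subgroup G), c * s = s * c) ∧
      P' = P.map (MulAut.conj c).toMonoidHom := by
  haveI := Fact.mk C.p_prime
  set ρ := C.actS
  set Pk := P.subgroupOf C.N
  set Pk' := P'.subgroupOf C.N
  set H := ρ.ker ⊔ Pk with hH
  -- images
  have himg : ∀ {Q : Subgroup G}, Nat.card Q = C.p → Q ≤ C.N →
      Nat.card ((Q.subgroupOf C.N).map ρ) = C.p := by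
    intro Q hQ hQN
    have hd : Nat.card ((Q.subgroupOf C.N).map ρ) ∣ C.p := by
      refine (card_map_dvd _ _).trans ?_
      rw [Nat.card_congr (subgroupOfEquivOfLe hQN).toEquiv, hQ]
    refine ((Nat.dvd_prime C.p_prime).1 hd).resolve_left fun h1 => ?_
    obtain ⟨j, hj, hj1⟩ : ∃ j ∈ Q, j ≠ 1 := by
      by_contra h
      push Not at h
      have h2 : Nat.card Q = 1 := Subgroup.card_eq_one.2 (Q.eq_bot_iff_forall.2 h)
      rw [hQ] at h2
      exact C.p_prime.ne_one h2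
    obtain ⟨t, ht, ht2⟩ := C.exists_invol
    have hmem : ρ ⟨j, hQN hj⟩ ∈ (Q.subgroupOf C.N).map ρ := ⟨⟨j, hQN hj⟩, hj, rfl⟩
    rw [Subgroup.card_eq_one.1 h1, mem_bot] at hmem
    exact C.p_not_cent (C.orderOf_P hQ hj hj1) ht2 (C.mem_ker_actS.1 (MonoidHom.mem_ker.2 hmem) t ht)
  have hrange : Nat.card ρ.range = C.p * C.eps := by
    refine Nat.eq_of_mul_eq_mul_left (show 0 < Nat.card ρ.ker from Nat.card_pos) ?_
    rw [← index_ker, ρ.ker.card_mul_index, C.card_actS_ker, C.Ncard]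
    ring
  have heq : Pk'.map ρ = Pk.map ρ := by
    by_contra hne
    set A := Pk.map ρ
    set B := Pk'.map ρ
    have hA : Nat.card A = C.p := himg hP hPN
    have hB : Nat.card B = C.p := himg hP' hPN'
    have hinf : A ⊓ B = ⊥ := by
      rcases (Nat.dvd_prime C.p_prime).1 (hA ▸ card_dvd_of_le (inf_le_left : A ⊓ B ≤ A)) with h | h
      · exact Subgroup.card_eq_one.1 h
      · exfalso
        have h1 : A ⊓ B = A := eq_of_le_of_card_ge inf_le_left (by rw [h, hA])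
        exact hne (eq_of_le_of_card_ge (inf_eq_left.1 h1) (by rw [hA, hB])).symm
    have hle : Nat.card (A × B) ≤ Nat.card ρ.range := by
      refine Nat.card_le_card_of_injective (fun x : A × B => (⟨(x.1 : MulAut (C.S : Subgroup G)) * (x.2 : MulAut (C.S : Subgroup G)),
        mul_mem (map_le_range _ _ x.1.2) (map_le_range _ _ x.2.2)⟩ : ρ.range)) ?_
      intro x y h
      exact mul_injective_of_disjoint (disjoint_iff.2 hinf) (congrArg Subtype.val h)
    rw [Nat.card_prod, hA, hB, hrange] at hle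
    have := Nat.le_of_mul_le_mul_left hle C.p_prime.pos
    have := C.eps_lt
    omega
  have hPk : Pk ≤ H := le_sup_right
  have hPk' : Pk' ≤ H := by
    intro n hn
    have : ρ n ∈ Pk.map ρ := heq ▸ ⟨n, hn, rfl⟩
    obtain ⟨i, hi, hin⟩ := this
    rw [show n = n * i⁻¹ * i by group]
    refine mul_mem (le_sup_left (a := ρ.ker) (MonoidHom.mem_ker.2 ?_)) (hPk hi)
    rw [map_mul, map_inv, hin, mul_inv_cancel]
  have hfac : (Nat.card H).factorization C.p = 1 := by
    have h1 : 1 ≤ (Nat.card H).factorization C.p := by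
      refine (Nat.Prime.dvd_iff_one_le_factorization C.p_prime (Nat.card_pos).ne').1 ?_
      refine dvd_trans (dvd_of_eq ?_) (card_dvd_of_le hPk)
      rw [Nat.card_congr (subgroupOfEquivOfLe hPN).toEquiv, hP]
    have h2 : ¬ 2 ≤ (Nat.card H).factorization C.p := fun h => C.p_sq_not_dvd
      (((Nat.Prime.pow_dvd_iff_le_factorization C.p_prime (Nat.card_pos).ne').2 h).trans
        (card_subgroup_dvd_card H))
    omega
  let T : Sylow C.p H := Sylow.ofCard (Pk.subgroupOf H) (by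
    rw [Nat.card_congr (subgroupOfEquivOfLe hPk).toEquiv,
      Nat.card_congr (subgroupOfEquivOfLe hPN).toEquiv, hP, hfac, pow_one])
  let T' : Sylow C.p H := Sylow.ofCard (Pk'.subgroupOf H) (by
    rw [Nat.card_congr (subgroupOfEquivOfLe hPk').toEquiv,
      Nat.card_congr (subgroupOfEquivOfLe hPN').toEquiv, hP', hfac, pow_one])
  obtain ⟨h, hh⟩ := MulAction.exists_smul_eq H T T'
  obtain ⟨k, hk, i, hi, hki⟩ := Subgroup.mem_sup_of_normal_left.1 h.2
  refine ⟨(k : G), C.mem_ker_actS.1 hk, ?_⟩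
  refine eq_of_le_of_card_ge ?_
    (by rw [card_map_of_injective (MulAut.conj (k : G)).injective, hP, hP'])
  intro x hx
  have hxT : (⟨⟨x, hPN' hx⟩, hPk' hx⟩ : H) ∈ (T' : Subgroup H) := hx
  rw [← hh, Sylow.coe_subgroup_smul] at hxT
  obtain ⟨z, hz, hzx⟩ := hxT
  refine ⟨(i : G) * ((z : C.N) : G) * (i : G)⁻¹, mul_mem (mul_mem hi hz) (inv_mem hi), ?_⟩
  have e : ((h : C.N) : G) * ((z : C.N) : G) * ((h : C.N) : G)⁻¹ = x :=
    congrArg (fun v : H => ((v : C.N) : G)) hzx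
  rw [← hki, Subgroup.coe_mul] at e
  rw [← e]
  show (k : G) * ((i : G) * ((z : C.N) : G) * (i : G)⁻¹) * (k : G)⁻¹ = _
  group

theorem SF_free {y : C.X} (hy : C.x₀ ≠ y) {q : G} (hq : q ∈ C.SF) (hqy : q • y = y) : q = 1 := by
  obtain ⟨s, hs, f, hf, rfl⟩ := hq
  have hsf : Commute s f := C.W_S_commute (C.F_le hf) hs
  obtain ⟨k, hk⟩ : Odd (Nat.card C.F) := (oddPart_odd C.S).of_dvd_nat (card_dvd_of_le C.F_le)
  have hfF : f ^ Nat.card C.F = 1 :=
    orderOf_dvd_iff_pow_eq_one.1 (Subgroup.orderOf_dvd_natCard _ hf)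
  have hs2 : (s * f) ^ Nat.card C.F = s := by
    rw [hsf.mul_pow, hfF, mul_one, hk, pow_succ, pow_mul, sq, C.sq_one hs, one_pow, one_mul]
  have hsy : s • y = y := by
    rw [← hs2]
    exact MulAction.mem_stabilizer_iff.1 (pow_mem (MulAction.mem_stabilizer_iff.2 hqy) _)
  have hs1 : s = 1 := by
    by_contra h
    exact hy (C.fixed_unique (C.invol_of_S hs h) (C.stab_x₀.2 (le_normalizer hs)) hsy)
  rw [hs1, one_mul] at hqy ⊢
  obtain ⟨P, hP, hfix, -⟩ := C.exists_pair hy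
  exact C.F_fpf hy hP hfix hf fun j hj => C.commute_of_fix hy hP hfix (C.F_le hf) hqy hj

theorem SF_trans {b : C.X} (hb : C.x₀ ≠ b) {z : C.X} (hz : z ≠ C.x₀) :
    ∃ q ∈ C.SF, q • b = z := by
  obtain ⟨P, hP, hfix, -⟩ := C.exists_pair hb
  obtain ⟨P', hP', hfix', -⟩ := C.exists_pair (Ne.symm hz)
  obtain ⟨c, hc, hcP⟩ := C.exists_cent_conj hP hP' (fun j hj => C.mem_N_of_fix hfix hj)
    (fun j hj => C.mem_N_of_fix hfix' hj)
  obtain ⟨s, hs, w, hw, rfl⟩ := cent_prod C.S C.hS (mem_centralizer_iff.2 fun s hs => (hc s hs).symm)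
  obtain ⟨f, hf, w₀, hw₀, hw₀P, rfl⟩ := C.exists_F_decomp hb hP hfix hw
  refine ⟨s * f, ⟨s, hs, f, hf, rfl⟩, ?_⟩
  have hqx : (s * f) • C.x₀ = C.x₀ := C.stab_x₀.2 (C.SF_le_N ⟨s, hs, f, hf, rfl⟩)
  rcases C.fix_eq (Ne.symm hz) hP' hfix' (z := (s * f) • b) (fun j hj => by
    rw [hcP] at hj
    obtain ⟨i, hi, rfl⟩ := hj
    have e : MulAut.conj (s * (f * w₀)) i = s * f * i * (s * f)⁻¹ := by
      rw [MulAut.conj_apply]
      calc s * (f * w₀) * i * (s * (f * w₀))⁻¹ = s * f * (w₀ * i * w₀⁻¹) * (s * f)⁻¹ := by group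
        _ = _ := by rw [hw₀P i hi, mul_inv_cancel_right]
    show MulAut.conj (s * (f * w₀)) i • (s * f) • b = (s * f) • b
    rw [e, smul_smul, inv_mul_cancel_right, mul_smul, (hfix i hi).2]) with h | h
  · exact absurd (smul_left_cancel (s * f) (hqx.trans h.symm)) hb
  · exact h

theorem kernel_trivial {g : G} (hg : ∀ x : C.X, g • x = x) {y : C.X} (hy : C.x₀ ≠ y) : g = 1 := by
  set K := (MulAction.toPermHom G C.X).ker with hK
  have hgK : g ∈ K := MonoidHom.mem_ker.2 (Equiv.ext hg)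
  have hle : K ≤ Cfsg.oddCore G := by
    refine Coprime.le_pPrimeCore_of_not_dvd Nat.prime_two fun h2 => ?_
    obtain ⟨t, ht, ht2⟩ := Invol.exists_invol_mem (even_iff_two_dvd.2 h2)
    exact hy (C.fixed_unique ht2
      (show t • C.x₀ = C.x₀ from Equiv.ext_iff.1 (MonoidHom.mem_ker.1 ht) C.x₀)
      (show t • y = y from Equiv.ext_iff.1 (MonoidHom.mem_ker.1 ht) y))
  rw [C.hO] at hle
  exact Subgroup.mem_bot.1 (hle hgK)

/-- An element of order `l ∣ |F|` fixing a pair and commuting with a swapper lies in `O(N(S))`. -/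
theorem mem_W_of_order {b : C.X} (hb : C.x₀ ≠ b) {t : G} (ht : orderOf t = 2) (htb : t • C.x₀ = b)
    {x : G} (hxa : x • C.x₀ = C.x₀) (hxt : x * t = t * x) {l : ℕ} (hl : l.Prime)
    (hl2 : l ≠ 2) (hlF : l ∣ Nat.card C.F) (hxo : orderOf x = l) : x ∈ C.W := by
  haveI := Fact.mk hl
  haveI := Fact.mk Nat.prime_two
  obtain ⟨c, hc⟩ := C.exists_fixed ht
  obtain ⟨h, hh⟩ := C.exists_to_x₀ c
  set s := h * t * h⁻¹ with hsdef
  set x' := h * x * h⁻¹ with hxdef
  have hso : orderOf s = 2 := Invol.invol_conj ht h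
  have hsS : s ∈ (C.S : Subgroup G) := C.invol_mem_S (C.conj_mem_N hh hc) hso
  -- a Sylow 2-subgroup centralised by `x'`
  obtain ⟨⟨m, hm⟩, hmo⟩ := exists_prime_orderOf_dvd_card' l hlF
  rw [← Subgroup.orderOf_coe] at hmo
  obtain ⟨g, hg⟩ := C.hG (zpowers m) (zpowers x') (by
    rw [Nat.card_zpowers, Nat.card_zpowers, hxdef, ← MulAut.conj_apply, MulEquiv.orderOf_eq, hxo]
    exact hmo)
  set C' := centralizer ({x'} : Set G) with hC'
  have hgS : ((g • C.S : Sylow 2 G) : Subgroup G) ≤ C' := by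
    intro y hy
    rw [Sylow.coe_subgroup_smul] at hy
    obtain ⟨u, hu, rfl⟩ := hy
    refine mem_centralizer_singleton_iff.2 ?_
    have hx' : x' ∈ zpowers x' := mem_zpowers x'
    rw [hg] at hx'
    obtain ⟨a, ha, hax⟩ := hx'
    rw [← hax]
    show MulAut.conj g u * MulAut.conj g a = MulAut.conj g a * MulAut.conj g u
    rw [← map_mul, ← map_mul, C.W_S_commute (zpowers_le.2 (C.F_le hm) ha) hu]
  have hsC : s ∈ C' := mem_centralizer_singleton_iff.2 (by
    rw [hsdef, hxdef, ← MulAut.conj_apply, ← MulAut.conj_apply, ← map_mul, ← map_mul, hxt])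
  have hp : IsPGroup 2 (zpowers (⟨s, hsC⟩ : C')) :=
    IsPGroup.of_card (n := 1) (by rw [Nat.card_zpowers, ← Subgroup.orderOf_coe, pow_one]; exact hso)
  obtain ⟨R, hR⟩ := hp.exists_le_sylow
  set R' := (R : Subgroup C').map C'.subtype
  have hRc : Nat.card R' = 2 ^ C.r := by
    rw [card_map_of_injective C'.subtype_injective, R.card_eq_multiplicity,
      ← ((g • C.S : Sylow 2 G).subtype hgS).card_eq_multiplicity, Sylow.coe_subtype,
      Nat.card_congr (subgroupOfEquivOfLe hgS).toEquiv, (g • C.S : Sylow 2 G).card_eq_multiplicity,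
      ← C.S.card_eq_multiplicity, C.Scard]
  obtain ⟨u, hu⟩ := C.hG (C.S : Subgroup G) R' (by rw [hRc, C.Scard])
  have hsR : s ∈ R' := ⟨⟨s, hsC⟩, hR (mem_zpowers _), rfl⟩
  have hRS : R' ≤ (C.S : Subgroup G) := by
    intro y hy
    by_cases hy1 : y = 1
    · rw [hy1]; exact one_mem _
    obtain ⟨a, ha, rfl⟩ := hu ▸ hy
    obtain ⟨b', hb', hbs⟩ := hu ▸ hsR
    refine C.invol_mem_S (C.hG.cent_le_normalizer C.S C.hS hsS hso
      (mem_centralizer_singleton_iff.2 ?_)) ?_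
    · rw [← hbs]
      show MulAut.conj u a * MulAut.conj u b' = MulAut.conj u b' * MulAut.conj u a
      rw [← map_mul, ← map_mul, C.S_comm ha hb']
    · refine (MulEquiv.orderOf_eq (MulAut.conj u) a).trans (C.invol_of_S ha fun e => hy1 ?_)
      rw [e, map_one]
  have hRS' : R' = (C.S : Subgroup G) := eq_of_le_of_card_ge hRS (by rw [hRc, C.Scard])
  have hxW : x' ∈ C.W := by
    refine mem_oddPart C.S C.hS (fun z hz => ?_) ?_
    · rw [← hRS'] at hz
      obtain ⟨z', -, rfl⟩ := hz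
      exact (mem_centralizer_singleton_iff.1 z'.2).symm
    · rw [hxdef, ← MulAut.conj_apply, MulEquiv.orderOf_eq, hxo]
      exact hl.odd_of_ne_two hl2
  -- move it back
  have hne : C.x₀ ≠ h • C.x₀ := by
    intro e
    have e' : c = C.x₀ := smul_left_cancel h (hh.trans e)
    rw [e', htb] at hc
    exact hb hc.symm
  have hx'y : x' • h • C.x₀ = h • C.x₀ := by
    rw [hxdef, mul_smul, inv_smul_smul, mul_smul, hxa]
  obtain ⟨i, hi, hix, hiy⟩ := C.exists_swapper hne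
  have hic := C.W_commute_swapper hne hxW hx'y hi hix
  have hn : i * h ∈ C.N := C.stab_x₀.1 (by rw [mul_smul, hiy])
  have := oddPart_conj C.S (inv_mem hn) hxW
  rwa [show (i * h)⁻¹ * x' * (i * h)⁻¹⁻¹ = h⁻¹ * (i⁻¹ * (x' * i)) * h by group, ← hic,
    inv_mul_cancel_left, hxdef, show h⁻¹ * (h * x * h⁻¹) * h = x by group] at this

/-- The configuration. -/
theorem exists_setup : ∃ T : Setup G C.X C.r C.p, T.Q = C.SF ∧ T.S = (C.S : Subgroup G) := by
  haveI := Fact.mk C.p_prime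
  obtain ⟨g, hg⟩ : ∃ g : G, g ∉ C.N := by
    by_contra h
    push Not at h
    exact C.hnn (normalizer_eq_top_iff.1 (eq_top_iff.2 fun g _ => h g))
  set b : C.X := g • C.x₀ with hb'
  have hb : C.x₀ ≠ b := fun e => hg (C.stab_x₀.1 e.symm)
  obtain ⟨P, hP, hfix, hn, hinv, hdec⟩ := C.exists_pair hb
  obtain ⟨t, ht, htb, -⟩ := C.exists_swapper hb
  have hPN : ∀ j ∈ P, j ∈ C.N := fun j hj => C.mem_N_of_fix hfix hj
  set V := (MulAction.stabilizer G C.x₀ ⊓ MulAction.stabilizer G b) ⊓ centralizer ({t} : Set G)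
    with hV
  have hVdvd : Nat.card V ∣ Nat.card (oddPart C.S) * (2 ^ C.r * C.eps) :=
    C.card_cent_any ht ▸ card_dvd_of_le inf_le_right
  have hVodd : Odd (Nat.card V) := (C.pair_odd hb).of_dvd_nat (card_dvd_of_le inf_le_left)
  have hVdvd' : ∀ l : ℕ, l.Prime → l ∣ Nat.card V → l ≠ 2 ∧
      l ∣ Nat.card (oddPart C.S) * C.eps := by
    intro l hl hlV
    have hl2 : l ≠ 2 := by
      rintro rfl
      exact Nat.not_even_iff_odd.2 hVodd (even_iff_two_dvd.2 hlV)
    refine ⟨hl2, ?_⟩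
    have h := hlV.trans hVdvd
    rw [show Nat.card (oddPart C.S) * (2 ^ C.r * C.eps) =
      Nat.card (oddPart C.S) * C.eps * 2 ^ C.r by ring] at h
    exact ((Nat.Prime.dvd_mul hl).1 h).resolve_right fun h2 =>
      hl2 ((Nat.prime_dvd_prime_iff_eq hl Nat.prime_two).1 (hl.dvd_of_dvd_pow h2))
  refine ⟨{
    a := C.x₀
    b := b
    w := t
    S := (C.S : Subgroup G)
    Q := C.SF
    P := P
    V := V
    faithful := fun x hx => C.kernel_trivial hx hb
    two := ?_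
    hab := hb
    w_sq := Invol.invol_mul_self ht
    w_a := htb
    Q_fix := fun q hq => C.stab_x₀.2 (C.SF_le_N hq)
    Q_normal := ?_
    Q_comm := ?_
    Q_trans := fun z hz => C.SF_trans hb hz
    Q_free := fun q hq h => C.SF_free hb hq h
    S_le := C.S_le_SF
    S_card := C.Scard
    S_sq := fun s hs => C.sq_one hs
    three_le := C.three_le
    Q_twopart := ?_
    p_prime := C.p_prime
    p_eq := C.p_eq
    P_card := hP
    P_fix := hfix
    P_inv := hinv t ht htb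
    V_fix := fun v hv => ⟨hv.1.1, hv.1.2⟩
    V_w := fun v hv => (mem_centralizer_singleton_iff.1 hv.2).symm
    V_norm := fun v hv => hn v hv.1.1 hv.1.2
    D_prod := ?_
    QP := ?_
    V_odd := hVodd
    V_p := fun h => C.p_not_dvd ((hVdvd' C.p C.p_prime h).2)
    V_cop := ?_
    inv := fun l hl hlV x hx s hs => C.no_inverted hl (hVdvd' l hl hlV).1 (hVdvd' l hl hlV).2 hx hs
    dich := ?_ }, rfl, rfl⟩
  · intro x y x' y' hxy hxy'
    obtain ⟨g₁, hg₁⟩ := C.exists_to_x₀ x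
    obtain ⟨g₂, hg₂⟩ := C.exists_to_x₀ x'
    obtain ⟨q₁, hq₁, hq₁y⟩ := C.SF_trans hb (z := g₁ • y)
      fun e => hxy (smul_left_cancel g₁ (hg₁.trans e.symm))
    obtain ⟨q₂, hq₂, hq₂y⟩ := C.SF_trans hb (z := g₂ • y')
      fun e => hxy' (smul_left_cancel g₂ (hg₂.trans e.symm))
    have hq₁x := C.stab_x₀.2 (C.SF_le_N (inv_mem hq₁))
    have hq₂x := C.stab_x₀.2 (C.SF_le_N hq₂)
    refine ⟨g₂⁻¹ * q₂ * q₁⁻¹ * g₁, ?_, ?_⟩
    · rw [mul_smul, hg₁, mul_smul, hq₁x, mul_smul, hq₂x, inv_smul_eq_iff, hg₂]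
    · rw [mul_smul, ← hq₁y, mul_smul, inv_smul_smul, mul_smul, hq₂y, inv_smul_smul]
  · intro x hx q hq
    have hxN := C.stab_x₀.1 hx
    obtain ⟨s, hs, f, hf, rfl⟩ := hq
    exact ⟨x * s * x⁻¹, (mem_normalizer_iff.1 hxN s).1 hs, x * f * x⁻¹, C.F_conj hxN hf, by group⟩
  · rintro _ ⟨s, hs, f, hf, rfl⟩ _ ⟨s', hs', f', hf', rfl⟩
    have e1 : Commute s s' := C.S_comm hs hs'
    have e2 : Commute s f' := C.W_S_commute (C.F_le hf') hs
    have e3 : Commute f s' := (C.W_S_commute (C.F_le hf) hs').symm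
    have e4 : Commute f f' := C.F_comm hf hf'
    exact ((e1.mul_right e2).mul_left (e3.mul_right e4)).eq
  · rw [C.card_SF, pow_succ]
    intro h
    exact Nat.not_even_iff_odd.2 ((oddPart_odd C.S).of_dvd_nat (card_dvd_of_le C.F_le))
      (even_iff_two_dvd.2 (Nat.dvd_of_mul_dvd_mul_left (by positivity) h))
  · intro d hda hdb
    obtain ⟨j, hj, c, hca, hcb, hct, rfl⟩ := hdec t ht htb d hda hdb
    exact ⟨c * j * c⁻¹, hn c hca hcb j hj, c, ⟨⟨hca, hcb⟩, mem_centralizer_singleton_iff.2 hct.symm⟩,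
      by group⟩
  · intro q hq hqP
    refine C.SF_free hb hq ?_
    rcases C.fix_eq hb hP hfix (z := q • b) (fun j hj => by
      rw [smul_smul, ← hqP j hj, mul_smul, (hfix j hj).2]) with h | h
    · exact absurd (smul_left_cancel q ((C.stab_x₀.2 (C.SF_le_N hq)).trans h.symm)) hb
    · exact h
  · rw [C.card_SF]
    refine Nat.coprime_of_dvd fun l hl hlV hlQ => ?_
    obtain ⟨hl2, -⟩ := hVdvd' l hl hlV
    have hlF : l ∣ Nat.card C.F := ((Nat.Prime.dvd_mul hl).1 hlQ).resolve_left fun h2 =>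
      hl2 ((Nat.prime_dvd_prime_iff_eq hl Nat.prime_two).1 (hl.dvd_of_dvd_pow h2))
    haveI := Fact.mk hl
    obtain ⟨⟨x, hx⟩, hxo⟩ := exists_prime_orderOf_dvd_card' l hlV
    rw [← Subgroup.orderOf_coe] at hxo
    have hxW := C.mem_W_of_order hb ht htb hx.1.1 (mem_centralizer_singleton_iff.1 hx.2)
      hl hl2 hlF hxo
    have hx1 := C.no_fix_F hb hl hlF hxW hx.1.2 (hxo ▸ pow_orderOf_eq_one _)
    exact hl.ne_one (hxo.symm.trans (orderOf_eq_one_iff.2 hx1))
  · rintro v hv ⟨s₀, hs₀, hne⟩ s hs s' hs' hs1 hs1' hvs hvs'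
    by_contra hss
    obtain ⟨j, hj, hjs⟩ := C.P_surj hP hPN hs hs1 hs' hs1'
    have hvj : v * j * v⁻¹ = j := C.P_inj hP hs hs1 (hn v hv.1.1 hv.1.2 j hj) hj (by
      rw [hjs]
      calc v * j * v⁻¹ * s * (v * j * v⁻¹)⁻¹ = v * (j * (v⁻¹ * (s * v)) * j⁻¹) * v⁻¹ := by group
        _ = v * (j * s * j⁻¹) * v⁻¹ := by rw [← hvs, inv_mul_cancel_left]
        _ = s' := by rw [hjs, hvs', mul_inv_cancel_right])
    have hj1 : j ≠ 1 := by
      rintro rfl
      rw [one_mul, inv_one, mul_one] at hjs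
      exact hss hjs
    have hPj : zpowers j = P := eq_of_le_of_card_ge (zpowers_le.2 hj)
      (by rw [Nat.card_zpowers, hP, C.orderOf_P hP hj hj1])
    have hs01 : s₀ ≠ 1 := fun e => hne (by rw [e, one_mul, mul_one])
    obtain ⟨i, hi, his⟩ := C.P_surj hP hPN hs hs1 hs₀ hs01
    rw [← hPj] at hi
    obtain ⟨k, rfl⟩ := mem_zpowers_iff.1 hi
    have hvk : Commute v (j ^ k) := (show Commute v j from mul_inv_eq_iff_eq_mul.1 hvj).zpow_right k
    refine hne ?_
    rw [← his]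
    exact ((hvk.mul_right (show Commute v s from hvs)).mul_right hvk.inv_right).eq

end Ctx

end CfsgLib.EqConj
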