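import Cfsg.Agent.Lib.Invol.EqualOrderConj.Fusion
import Mathlib.GroupTheory.Perm.Basic

/-!
# The configuration on the fixed points of an element centralising `S`
-/

set_option autoImplicit false
set_option linter.unusedSectionVars false
set_option linter.style.haveILetI false

namespace CfsgLib.EqConj

open Subgroup

universe u

variable {G : Type u} [Group G] {Ω : Type u} [MulAction G Ω]

theorem smul_fixed_of_mem_centralizer {v g : G} (hg : g ∈ centralizer ({v} : Set G)) {x : Ω}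
    (hx : v • x = x) : v • g • x = g • x := by
  rw [smul_smul, ← mem_centralizer_singleton_iff.1 hg, mul_smul, hx]

/-- The action of the centraliser of `v` on the fixed points of `v`. -/
def fixPerm (Ω : Type u) [MulAction G Ω] (v : G) :
    centralizer ({v} : Set G) →* Equiv.Perm {x : Ω // v • x = x} :=
  MonoidHom.mk'
    (fun g =>
      { toFun := fun x => ⟨(g : G) • (x : Ω), smul_fixed_of_mem_centralizer g.2 x.2⟩
        invFun := fun x => ⟨(g : G)⁻¹ • (x : Ω), smul_fixed_of_mem_centralizer (inv_mem g.2) x.2⟩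
        left_inv := fun x => Subtype.ext (inv_smul_smul _ _)
        right_inv := fun x => Subtype.ext (smul_inv_smul _ _) })
    (fun g h => Equiv.ext fun x => Subtype.ext (mul_smul (g : G) (h : G) (x : Ω)))

theorem fixPerm_apply (v : G) (g : centralizer ({v} : Set G)) (x : {x : Ω // v • x = x}) :
    ((fixPerm Ω v g x : {x : Ω // v • x = x}) : Ω) = (g : G) • (x : Ω) := rfl

theorem rangeRestrict_smul (v : G) (g : centralizer ({v} : Set G)) (x : {x : Ω // v • x = x}) :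
    (((fixPerm Ω v).rangeRestrict g • x : {x : Ω // v • x = x}) : Ω) = (g : G) • (x : Ω) := rfl

/-- The image of a subgroup in the permutation group on the fixed points of `v`. -/
def img (Ω : Type u) [MulAction G Ω] (v : G) (H : Subgroup G) : Subgroup (fixPerm Ω v).range :=
  (H.subgroupOf (centralizer ({v} : Set G))).map (fixPerm Ω v).rangeRestrict

theorem mem_img {v : G} {H : Subgroup G} {x : (fixPerm Ω v).range} :
    x ∈ img Ω v H ↔ ∃ g : centralizer ({v} : Set G), (g : G) ∈ H ∧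
      (fixPerm Ω v).rangeRestrict g = x := Iff.rfl

variable [Finite G]

theorem card_img_dvd (v : G) (H : Subgroup G) : Nat.card (img Ω v H) ∣ Nat.card H :=
  (card_map_dvd _ _).trans (by
    rw [← card_map_of_injective (centralizer ({v} : Set G)).subtype_injective, subgroupOf_map_subtype]
    exact card_dvd_of_le inf_le_left)

namespace Setup

variable [Finite Ω] {r p : ℕ} (T : Setup G Ω r p)
include T

theorem commute_P {v : G} (hv : v ∈ T.V) (hS : ∀ s ∈ T.S, v * s = s * v) {j : G} (hj : j ∈ T.P) :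
    v * j = j * v := by
  set j' := j⁻¹ * (v * j * v⁻¹) with hj'
  have hj'P : j' ∈ T.P := mul_mem (inv_mem hj) (T.V_norm v hv j hj)
  by_contra hne
  have hj'1 : j' ≠ 1 := fun h => hne (by
    rw [hj', inv_mul_eq_one] at h
    exact (mul_inv_eq_iff_eq_mul.1 h.symm))
  obtain ⟨s, hs, hs1⟩ := T.exists_S_ne_one
  have hjs : j * s * j⁻¹ ∈ T.S := T.S_conj (T.P_fix j hj).1 hs
  have e1 : v * s * v⁻¹ = s := mul_inv_eq_iff_eq_mul.2 (hS s hs)
  have e2 : v * (j * s * j⁻¹) * v⁻¹ = j * s * j⁻¹ := mul_inv_eq_iff_eq_mul.2 (hS _ hjs)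
  have e3 : j' * s * j'⁻¹ = s :=
    calc j' * s * j'⁻¹ = j⁻¹ * (v * (j * (v⁻¹ * s * v) * j⁻¹) * v⁻¹) * j := by rw [hj']; group
      _ = j⁻¹ * (v * (j * s * j⁻¹) * v⁻¹) * j := by
          rw [show v⁻¹ * s * v = s by rw [mul_assoc, ← hS s hs, inv_mul_cancel_left]]
      _ = s := by rw [e2]; group
  exact hs1 (T.QP s (T.S_le hs) fun j'' hj'' =>
    T.P_commute_gen hj'P hj'1 (mul_inv_eq_iff_eq_mul.1 e3).symm hj'')

/-- The configuration induced on the fixed points of `v`. -/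
theorem exists_restrict {v : G} (hv : v ∈ T.V ⊓ T.L) {l : ℕ} (hl : l.Prime) (hvl : orderOf v = l)
    (hS : ∀ s ∈ T.S, v * s = s * v) :
    Nat.card (fixPerm Ω v).range < Nat.card G ∧
      Nonempty (Setup (fixPerm Ω v).range {x : Ω // v • x = x} r p) ∧
      ∀ x t : (fixPerm Ω v).range, orderOf x = l → orderOf t = 2 → t * x * t⁻¹ ≠ x⁻¹ := by
  classical
  have hlV : l ∣ Nat.card T.V := hvl ▸ Subgroup.orderOf_dvd_natCard T.V hv.1
  have hve : v ^ l ^ 1 = 1 := by rw [pow_one, ← hvl, pow_orderOf_eq_one]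
  have hva := (T.V_fix v hv.1).1
  have hvb := (T.V_fix v hv.1).2
  obtain ⟨c, hwc, hca, hcb⟩ := T.exists_w_fixed
  have hwv : T.w * v = v * T.w := T.V_w v hv.1
  have hvc : v • c = c := T.invol_fix_unique T.orderOf_w (y := v • c)
    (by rw [smul_smul, hwv, mul_smul, hwc]) hwc
  set M := centralizer ({v} : Set G) with hM
  set f := (fixPerm Ω v).rangeRestrict with hf
  have hPv : ∀ j ∈ T.P, j ∈ M := fun j hj =>
    mem_centralizer_singleton_iff.2 (T.commute_P hv.1 hS hj).symm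
  have hSv : ∀ s ∈ T.S, s ∈ M := fun s hs => mem_centralizer_singleton_iff.2 (hS s hs).symm
  have hwM : T.w ∈ M := mem_centralizer_singleton_iff.2 hwv
  have hker : ∀ g : M, f g = 1 → ∀ x : Ω, v • x = x → (g : G) • x = x := by
    intro g hg x hx
    rw [← rangeRestrict_smul v g ⟨x, hx⟩, ← hf, hg, one_smul]
  have hkerprime : ∀ q : ℕ, q.Prime → q ∣ Nat.card f.ker → q ∣ Nat.card T.V := by
    intro q hq hqk
    haveI := Fact.mk hq
    obtain ⟨⟨g, hg⟩, hgo⟩ := exists_prime_orderOf_dvd_card' q hqk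
    rw [← Subgroup.orderOf_coe, ← Subgroup.orderOf_coe] at hgo
    have hga : (g : G) • T.a = T.a := hker g hg _ hva
    have hgb : (g : G) • T.b = T.b := hker g hg _ hvb
    obtain ⟨j, hj, v', hv', e⟩ := T.D_prod (g : G) hga hgb
    by_contra hqV
    have hgq : (g : G) ^ q = 1 := hgo ▸ pow_orderOf_eq_one _
    by_cases hv1 : v' = 1
    · rw [hv1, mul_one] at e
      have hgc : j • c = c := e ▸ hker g hg c hvc
      have hj1 : j ≠ 1 := fun h => by
        rw [e, h, orderOf_one] at hgo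
        exact hq.ne_one hgo.symm
      rcases T.P_fix_eq hj hj1 hgc with h | h
      · exact hca h
      · exact hcb h
    · have hpow : ∀ n : ℕ, ∃ j' ∈ T.P, (g : G) ^ n = j' * v' ^ n := by
        intro n
        induction n with
        | zero => exact ⟨1, one_mem _, by simp⟩
        | succ n ih =>
          obtain ⟨j', hj', e'⟩ := ih
          refine ⟨j' * (v' ^ n * j * (v' ^ n)⁻¹),
            mul_mem hj' (T.V_norm _ (pow_mem hv' n) j hj), ?_⟩
          rw [pow_succ, e', e, pow_succ]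
          group
      obtain ⟨j', hj', e'⟩ := hpow q
      rw [hgq] at e'
      have hvq : v' ^ q = 1 := T.mem_P_inf_V (by
        rw [← inv_inv (v' ^ q), inv_mem_iff, ← eq_inv_of_mul_eq_one_left e'.symm]; exact hj') (pow_mem hv' q)
      exact hqV ((orderOf_eq_prime hvq hv1) ▸ Subgroup.orderOf_dvd_natCard T.V hv')
  have hkerodd : Odd (Nat.card f.ker) := by
    rw [← Nat.not_even_iff_odd, even_iff_two_dvd]
    exact fun h => Nat.not_even_iff_odd.2 T.V_odd
      (even_iff_two_dvd.2 (hkerprime 2 Nat.prime_two h))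
  have hkerfix : ∀ g : M, f g = 1 → (g : G) ∈ T.Q → (g : G) = 1 := fun g hg hgQ =>
    T.Q_free _ hgQ (hker g hg _ hvb)
  have hlift : ∀ (q : ℕ), q.Prime → q ∣ Nat.card T.V → ∀ x t : (fixPerm Ω v).range,
      orderOf x = q → orderOf t = 2 → t * x * t⁻¹ ≠ x⁻¹ := by
    intro q hq hqV x t hx ht hinv
    have hq2 : q ≠ 2 := by
      rintro rfl
      exact Nat.not_even_iff_odd.2 T.V_odd (even_iff_two_dvd.2 hqV)
    have hsur : Function.Surjective f := (fixPerm Ω v).rangeRestrict_surjective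
    obtain ⟨q', hq', hdvd, t0, x0, ht0, hx0, hinv0⟩ :=
      lift_inverted f hkerodd ht hq hq2 hx hinv (hsur t) (hsur x)
    have hq'V : q' ∣ Nat.card T.V := by
      rcases (Nat.Prime.dvd_mul hq').1 hdvd with h | h
      · rw [(Nat.prime_dvd_prime_iff_eq hq' hq).1 h]; exact hqV
      · exact hkerprime q' hq' h
    exact T.inv q' hq' hq'V (x0 : G) (by rw [Subgroup.orderOf_coe, hx0]) (t0 : G)
      (by rw [Subgroup.orderOf_coe, ht0]) (congrArg Subtype.val hinv0)
  refine ⟨?_, ⟨?_⟩, fun x t => hlift l hl hlV x t⟩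
  · -- the order drops, as `v` acts trivially
    have hvM : v ∈ M := mem_centralizer_singleton_iff.2 rfl
    have hvker : (⟨v, hvM⟩ : M) ∈ (fixPerm Ω v).ker :=
      MonoidHom.mem_ker.2 (Equiv.ext fun x => Subtype.ext x.2)
    have h1 : 1 < Nat.card (fixPerm Ω v).ker := by
      refine (Subgroup.one_lt_card_iff_ne_bot _).2 fun h => ?_
      rw [h, Subgroup.mem_bot] at hvker
      rw [show v = 1 from congrArg Subtype.val hvker, orderOf_one] at hvl
      exact hl.ne_one hvl.symm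
    have h2 := (fixPerm Ω v).ker.card_mul_index
    rw [Subgroup.index_ker] at h2
    have h3 : Nat.card M ≤ Nat.card G := Nat.le_of_dvd Nat.card_pos (Subgroup.card_subgroup_dvd_card _)
    have h4 : 0 < Nat.card (fixPerm Ω v).range := Nat.card_pos
    calc Nat.card (fixPerm Ω v).range = 1 * Nat.card (fixPerm Ω v).range := (one_mul _).symm
      _ < Nat.card (fixPerm Ω v).ker * Nat.card (fixPerm Ω v).range :=
        Nat.mul_lt_mul_of_pos_right h1 h4
      _ = Nat.card M := h2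
      _ ≤ Nat.card G := h3
  refine
    { a := ⟨T.a, hva⟩
      b := ⟨T.b, hvb⟩
      w := f ⟨T.w, hwM⟩
      S := img Ω v T.S
      Q := img Ω v T.Q
      P := img Ω v T.P
      V := img Ω v T.V
      faithful := fun g hg => Subtype.ext (Equiv.ext hg)
      two := ?_
      hab := fun h => T.hab (congrArg Subtype.val h)
      w_sq := by rw [← map_mul, ← map_one f]; exact congrArg f (Subtype.ext T.w_sq)
      w_a := Subtype.ext T.w_a
      Q_fix := ?_
      Q_normal := ?_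
      Q_comm := ?_
      Q_trans := ?_
      Q_free := ?_
      S_le := ?_
      S_card := ?_
      S_sq := ?_
      three_le := T.three_le
      Q_twopart := fun h => T.Q_twopart (h.trans (card_img_dvd v T.Q))
      p_prime := T.p_prime
      p_eq := T.p_eq
      P_card := ?_
      P_fix := ?_
      P_inv := ?_
      V_fix := ?_
      V_w := ?_
      V_norm := ?_
      D_prod := ?_
      QP := ?_
      V_odd := T.V_odd.of_dvd_nat (card_img_dvd v T.V)
      V_p := fun h => T.V_p (h.trans (card_img_dvd v T.V))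
      V_cop := Nat.Coprime.of_dvd (card_img_dvd v T.V) (card_img_dvd v T.Q) T.V_cop
      inv := fun q hq hqV x hx t ht => hlift q hq (hqV.trans (card_img_dvd v T.V)) x t hx ht
      dich := ?_ }
  · intro x y x' y' h h'
    obtain ⟨g₁, -, hg₁, h₁a, h₁b⟩ := T.cent_two hl hlV hve hva hvb
      (fun e => h (Subtype.ext e)) x.2 y.2
    obtain ⟨g₂, -, hg₂, h₂a, h₂b⟩ := T.cent_two hl hlV hve hva hvb
      (fun e => h' (Subtype.ext e)) x'.2 y'.2
    have hg : g₂ * g₁⁻¹ ∈ M := mul_mem (mem_centralizer_singleton_iff.2 hg₂)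
      (inv_mem (mem_centralizer_singleton_iff.2 hg₁))
    refine ⟨f ⟨_, hg⟩, Subtype.ext ?_, Subtype.ext ?_⟩
    · rw [rangeRestrict_smul, mul_smul, show g₁⁻¹ • (x : Ω) = T.a from inv_smul_eq_iff.2 h₁a.symm, h₂a]
    · rw [rangeRestrict_smul, mul_smul, show g₁⁻¹ • (y : Ω) = T.b from inv_smul_eq_iff.2 h₁b.symm, h₂b]
  · rintro _ ⟨g, hg, rfl⟩
    exact Subtype.ext (T.Q_fix _ hg)
  · intro g hga q hq
    obtain ⟨g0, rfl⟩ := (fixPerm Ω v).rangeRestrict_surjective g
    obtain ⟨q0, hq0, rfl⟩ := hq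
    refine ⟨g0 * q0 * g0⁻¹, T.Q_normal _ (congrArg Subtype.val hga) _ hq0, ?_⟩
    simp
  · rintro _ ⟨x, hx, rfl⟩ _ ⟨y, hy, rfl⟩
    rw [← map_mul, ← map_mul]
    exact congrArg _ (Subtype.ext (T.Q_comm _ hx _ hy))
  · intro y hy
    obtain ⟨q, hq, hqb⟩ := T.Q_trans y (fun h => hy (Subtype.ext h))
    have hqc := T.Q_commute hva hvb hq (by rw [hqb]; exact y.2)
    exact ⟨f ⟨q, mem_centralizer_singleton_iff.2 hqc⟩, ⟨_, hq, rfl⟩, Subtype.ext hqb⟩
  · rintro _ ⟨g, hg, rfl⟩ h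
    rw [show g = 1 from Subtype.ext (T.Q_free _ hg (congrArg Subtype.val h)), map_one]
  · rintro _ ⟨g, hg, rfl⟩
    exact ⟨g, T.S_le hg, rfl⟩
  · refine le_antisymm (Nat.le_of_dvd (by positivity) (T.S_card ▸ card_img_dvd v T.S)) ?_
    rw [← T.S_card]
    refine Nat.card_le_card_of_injective
      (fun s : T.S => (⟨f ⟨s, hSv s s.2⟩, ⟨_, s.2, rfl⟩⟩ : img Ω v T.S)) fun s s' e => ?_
    have e' : f ((⟨s, hSv s s.2⟩ : M)⁻¹ * ⟨s', hSv s' s'.2⟩) = 1 := by
      rw [map_mul, map_inv, inv_mul_eq_one]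
      exact congrArg Subtype.val e
    exact Subtype.ext (inv_mul_eq_one.1 (hkerfix _ e' (T.S_le (mul_mem (inv_mem s.2) s'.2))))
  · rintro _ ⟨g, hg, rfl⟩
    rw [← map_mul, ← map_one f]
    exact congrArg f (Subtype.ext (T.S_sq _ hg))
  · refine le_antisymm (Nat.le_of_dvd T.p_prime.pos
      ((card_img_dvd v T.P).trans (dvd_of_eq T.P_card))) ?_
    refine le_of_eq_of_le T.P_card.symm ?_
    refine Nat.card_le_card_of_injective
      (fun s : T.P => (⟨f ⟨s, hPv s s.2⟩, ⟨_, s.2, rfl⟩⟩ : img Ω v T.P)) fun s s' e => ?_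
    have e' : f ((⟨s, hPv s s.2⟩ : M)⁻¹ * ⟨s', hPv s' s'.2⟩) = 1 := by
      rw [map_mul, map_inv, inv_mul_eq_one]
      exact congrArg Subtype.val e
    refine Subtype.ext (inv_mul_eq_one.1 ?_)
    by_contra h1
    rcases T.P_fix_eq (mul_mem (inv_mem s.2) s'.2) h1 (hker _ e' c hvc) with h | h
    · exact hca h
    · exact hcb h
  · rintro _ ⟨g, hg, rfl⟩
    exact ⟨Subtype.ext (T.P_fix _ hg).1, Subtype.ext (T.P_fix _ hg).2⟩
  · rintro _ ⟨g, hg, rfl⟩
    rw [← map_inv, ← map_mul, ← map_mul, ← map_inv]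
    exact congrArg f (Subtype.ext (T.P_inv _ hg))
  · rintro _ ⟨g, hg, rfl⟩
    exact ⟨Subtype.ext (T.V_fix _ hg).1, Subtype.ext (T.V_fix _ hg).2⟩
  · rintro _ ⟨g, hg, rfl⟩
    rw [← map_mul, ← map_mul]
    exact congrArg f (Subtype.ext (T.V_w _ hg))
  · rintro _ ⟨g, hg, rfl⟩ _ ⟨j, hj, rfl⟩
    exact ⟨g * j * g⁻¹, T.V_norm _ hg _ hj, by simp⟩
  · intro d hda hdb
    obtain ⟨g, rfl⟩ := (fixPerm Ω v).rangeRestrict_surjective d
    obtain ⟨j, hj, v', hv', e⟩ := T.D_prod (g : G) (congrArg Subtype.val hda) (congrArg Subtype.val hdb)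
    have hv'M : v' ∈ M := by
      have : v' = j⁻¹ * (g : G) := by rw [e, inv_mul_cancel_left]
      rw [this]
      exact mul_mem (inv_mem (hPv j hj)) g.2
    refine ⟨f ⟨j, hPv j hj⟩, ⟨_, hj, rfl⟩, f ⟨v', hv'M⟩, ⟨_, hv', rfl⟩, ?_⟩
    rw [← map_mul]
    exact congrArg f (Subtype.ext e)
  · rintro _ ⟨q, hq, rfl⟩ h
    have hq1 : (q : G) = 1 := by
      refine T.QP _ hq fun j hj => ?_
      have hc : f q * f ⟨j, hPv j hj⟩ = f ⟨j, hPv j hj⟩ * f q := h _ ⟨⟨j, hPv j hj⟩, hj, rfl⟩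
      have e' : f (q * ⟨j, hPv j hj⟩ * q⁻¹ * (⟨j, hPv j hj⟩ : M)⁻¹) = 1 := by
        rw [map_mul, map_mul, map_mul, map_inv, map_inv, hc]
        group
      have h1 : (q : G) * j * (q : G)⁻¹ * j⁻¹ = 1 := hkerfix _ e' (by
        show (q : G) * j * (q : G)⁻¹ * j⁻¹ ∈ T.Q
        rw [show (q : G) * j * (q : G)⁻¹ * j⁻¹ = (q : G) * (j * (q : G)⁻¹ * j⁻¹) by group]
        exact mul_mem hq (T.Q_normal j (T.P_fix j hj).1 _ (inv_mem hq)))
      exact mul_inv_eq_iff_eq_mul.1 (mul_inv_eq_one.1 h1)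
    rw [show q = 1 from Subtype.ext hq1, map_one]
  · rintro _ ⟨v', hv', rfl⟩ ⟨_, ⟨s₀, hs₀, rfl⟩, hne⟩ _ ⟨s, hs, rfl⟩ _ ⟨s', hs', rfl⟩ h1 h1' hc hc'
    have key : ∀ x : M, (x : G) ∈ T.S → f v' * f x = f x * f v' → (v' : G) * x = x * v' := by
      intro x hx e
      have e' : f (v' * x * v'⁻¹ * x⁻¹) = 1 := by
        rw [map_mul, map_mul, map_mul, map_inv, map_inv, e]; group
      have h1 : (v' : G) * x * (v' : G)⁻¹ * (x : G)⁻¹ = 1 := hkerfix _ e' (by
        show (v' : G) * x * (v' : G)⁻¹ * (x : G)⁻¹ ∈ T.Q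
        exact mul_mem (T.S_le (T.S_conj (T.V_fix _ hv').1 hx)) (inv_mem (T.S_le hx)))
      exact mul_inv_eq_iff_eq_mul.1 (mul_inv_eq_one.1 h1)
    have := T.dich _ hv' ⟨s₀, hs₀, fun e => hne (by
        rw [← map_mul, ← map_mul]; exact congrArg f (Subtype.ext e))⟩
      s hs s' hs' (fun e => h1 (by rw [show s = 1 from Subtype.ext e, map_one]))
      (fun e => h1' (by rw [show s' = 1 from Subtype.ext e, map_one])) (key s hs hc) (key s' hs' hc')
    rw [Subtype.ext this]

end Setup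

end CfsgLib.EqConj
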