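import Cfsg.Agent.Lib.Invol.EqualOrderConj.SmallCase
import Cfsg.Agent.Lib.Invol.EqualOrderConj.Restrict
import Cfsg.Agent.Lib.Invol.EqualOrderConj.Psl
import Cfsg.Agent.S0731
import Cfsg.Agent.S1230

/-!
# The structure of groups in the configuration `Setup`
-/

set_option autoImplicit false
set_option linter.unusedSectionVars false
set_option linter.style.haveILetI false

namespace CfsgLib.EqConj

open Subgroup

universe u

variable {G : Type u} [Group G] [Finite G] {Ω : Type u} [MulAction G Ω] [Finite Ω]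

namespace Setup

variable {r p : ℕ} (T : Setup G Ω r p)
include T

theorem exists_P_ne_one : ∃ j ∈ T.P, j ≠ 1 := by
  by_contra h
  push Not at h
  have h1 : Nat.card T.P = 1 := Subgroup.card_eq_one.2 (T.P.eq_bot_iff_forall.2 h)
  rw [T.P_card] at h1
  exact T.p_prime.ne_one h1

theorem exists_two_S : ∃ s ∈ T.S, ∃ s' ∈ T.S, s ≠ 1 ∧ s' ≠ 1 ∧ s ≠ s' := by
  classical
  obtain ⟨s, hs, hs1⟩ := T.exists_S_ne_one
  by_contra h
  push Not at h
  have hle : Nat.card T.S ≤ 2 := by
    rw [← Nat.card_eq_fintype_card (α := Bool) |>.trans Fintype.card_bool]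
    refine Nat.card_le_card_of_injective (fun x : T.S => decide ((x : G) = 1)) fun x y e => ?_
    by_cases hx : (x : G) = 1
    · simp [hx] at e
      exact Subtype.ext (hx.trans (congrArg Subtype.val e).symm)
    · have hy : (y : G) ≠ 1 := fun h' => by simp [hx, h'] at e
      exact Subtype.ext ((h s hs x x.2 hs1 hx).symm.trans (h s hs y y.2 hs1 hy))
  rw [T.S_card] at hle
  have := Nat.pow_le_pow_right (show 0 < 2 by norm_num) T.three_le
  omega

theorem L_stab {g : G} (hV : T.V ⊓ T.L = ⊥) (hg : g ∈ T.L) (hga : g • T.a = T.a) :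
    ∃ q ∈ T.Q, ∃ j ∈ T.P, g = q * j := by
  obtain ⟨q, hq, j, hj, v, hv, e⟩ := T.stab_prod hga
  have hv' : v ∈ T.L := by
    rw [show v = j⁻¹ * (q⁻¹ * g) by rw [e]; group]
    exact mul_mem (inv_mem (T.P_le_L hj)) (mul_mem (inv_mem (T.Q_le_L hq)) hg)
  have hv1 : v = 1 := Subgroup.mem_bot.1 (hV ▸ (⟨hv, hv'⟩ : v ∈ T.V ⊓ T.L))
  exact ⟨q, hq, j, hj, by rw [e, hv1, mul_one]⟩

theorem zassenhaus (hV : T.V ⊓ T.L = ⊥) : Cfsg.IsZassenhausGroup T.L Ω := by
  classical
  haveI := T.L_normal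
  refine ⟨⟨fun {g g'} h => ?_⟩, MulAction.is_two_pretransitive_iff.2 (fun {x y x' y'} h h' => ?_),
    fun g x y z hxy hyz hxz hx hy hz => ?_, ?_, ?_⟩
  · apply Subtype.ext
    have := T.faithful ((g' : G)⁻¹ * g) fun x => by
      rw [mul_smul, inv_smul_eq_iff]
      exact h x
    exact (inv_mul_eq_one.1 this).symm
  · obtain ⟨g, hg, h1, h2⟩ := T.L_two h h'
    exact ⟨⟨g, hg⟩, h1, h2⟩
  · obtain ⟨h, hh, hha, hhb⟩ := T.L_two (x' := T.a) (y' := T.b) hxy T.hab
    have hg' : h * (g : G) * h⁻¹ ∈ T.L := mul_mem (mul_mem hh g.2) (inv_mem hh)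
    have hfix : ∀ w : Ω, g • w = w → (h * (g : G) * h⁻¹) • h • w = h • w := fun w hw => by
      rw [mul_smul, mul_smul, inv_smul_smul]
      exact congrArg (h • ·) hw
    have ha := hfix x hx
    have hb := hfix y hy
    rw [hha] at ha
    rw [hhb] at hb
    obtain ⟨q, hq, j, hj, e⟩ := T.L_stab hV hg' ha
    have hq1 : q = 1 := T.Q_free q hq (by
      have := hb
      rwa [e, mul_smul, (T.P_fix j hj).2] at this)
    rw [hq1, one_mul] at e
    by_contra hne
    have hj1 : j ≠ 1 := fun h1 => hne (by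
      rw [h1, mul_inv_eq_one] at e
      exact Subtype.ext (by simpa using e))
    rcases T.P_fix_eq hj hj1 (y := h • z) (e ▸ hfix z hz) with h1 | h1
    · exact hxz (smul_left_cancel h (hha.trans h1.symm))
    · exact hyz (smul_left_cancel h (hhb.trans h1.symm))
  · obtain ⟨j, hj, hj1⟩ := T.exists_P_ne_one
    exact ⟨⟨j, T.P_le_L hj⟩, fun h => hj1 (congrArg Subtype.val h), T.a, T.b, T.hab,
      (T.P_fix j hj).1, (T.P_fix j hj).2⟩
  · intro N hN htr
    by_contra hno
    push Not at hno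
    haveI := htr
    haveI := hN
    obtain ⟨s, hs, s', hs', hs1, hs1', hne⟩ := T.exists_two_S
    have hodd : Odd (Nat.card N) := by
      have h1 := MulAction.index_stabilizer_of_transitive N T.a
      rw [hno T.a, Subgroup.index_bot] at h1
      rw [h1]; exact T.odd_card
    have hc : s * s' = s' * s := T.Q_comm s (T.S_le hs) s' (T.S_le hs')
    have hN' := eq_bot_of_four_fpf (N := N.map T.L.subtype)
      (by rwa [card_map_of_injective T.L.subtype_injective]) (T.S_invol hs hs1) (T.S_invol hs' hs1')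
      hne hc
    have hmem : ∀ t ∈ ({s, s', s * s'} : Set G), t ∈ T.S ∧ t ≠ 1 := by
      rintro t (rfl | rfl | rfl)
      · exact ⟨hs, hs1⟩
      · exact ⟨hs', hs1'⟩
      · refine ⟨mul_mem hs hs', fun e => hne ?_⟩
        rw [eq_inv_of_mul_eq_one_left e]
        exact Invol.invol_inv (T.S_invol hs' hs1')
    specialize hN' (by
      rintro t ht _ ⟨x, hx, rfl⟩
      exact ⟨⟨t, T.Q_le_L (T.S_le (hmem t ht).1)⟩ * x * ⟨t, T.Q_le_L (T.S_le (hmem t ht).1)⟩⁻¹,
        hN.conj_mem x hx ⟨t, T.Q_le_L (T.S_le (hmem t ht).1)⟩, rfl⟩) (by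
      rintro t ht _ ⟨x, hx, rfl⟩ htx
      obtain ⟨htS, ht1⟩ := hmem t ht
      have hxa : (x : G) • T.a = T.a := T.S_fix_eq htS ht1 (by
        rw [smul_smul, show t * (x : G) = (x : G) * t from htx, mul_smul, T.Q_fix t (T.S_le htS)])
      have hxs : (⟨x, hx⟩ : N) ∈ MulAction.stabilizer N T.a := hxa
      rw [hno T.a, Subgroup.mem_bot] at hxs
      exact congrArg (fun y : N => ((y : T.L) : G)) hxs)
    obtain ⟨g, hg⟩ := MulAction.exists_smul_eq N T.a T.b
    have hg1 : ((g : T.L) : G) ∈ N.map T.L.subtype := ⟨g, g.2, rfl⟩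
    rw [hN', Subgroup.mem_bot] at hg1
    refine T.hab ?_
    rw [← hg]
    show T.a = ((g : T.L) : G) • T.a
    rw [hg1, one_smul]

theorem card_Q_eq (hV : T.V ⊓ T.L = ⊥) : Nat.card T.Q = 2 ^ r := by
  classical
  haveI := Fintype.ofFinite Ω
  have hZ := T.zassenhaus hV
  rcases Cfsg.Agent.S0731.result hZ T.a (T.Q.subgroupOf T.L) (fun q hq => T.Q_fix _ hq)
    ⟨fun q hq g => T.Q_normal _ g.2 _ hq⟩
    ⟨⟨fun q q' => Subtype.ext (Subtype.ext (T.Q_comm _ q.2 _ q'.2))⟩⟩
    (fun y z hy hz => by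
      obtain ⟨q, hq, hqy⟩ := T.Q_trans y hy
      obtain ⟨q', hq', hqz⟩ := T.Q_trans z hz
      have hm : q' * q⁻¹ ∈ T.Q := mul_mem hq' (inv_mem hq)
      refine ⟨⟨⟨q' * q⁻¹, T.Q_le_L hm⟩, hm⟩, ?_, ?_⟩
      · show (q' * q⁻¹) • y = z
        rw [mul_smul, ← hqy, inv_smul_smul, hqz]
      · rintro ⟨⟨u, hu⟩, huQ⟩ e
        have e' : (u * q) • T.b = q' • T.b := by rw [mul_smul, hqy, hqz]; exact e
        exact Subtype.ext (Subtype.ext (eq_mul_inv_of_mul_eq (T.Q_eq (mul_mem huQ hq) hq' e'))))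
    with ⟨h3, -⟩ | ⟨K, iK, iKf, hchar, ⟨e⟩⟩
  · obtain ⟨c, hwc, hca, hcb⟩ := T.exists_w_fixed
    have e : T.P ≃ {z : Ω // ¬ (z = T.a ∨ z = T.b)} := by
      refine Equiv.ofBijective (fun j => ⟨(j : G) • c, ?_⟩) ⟨?_, ?_⟩
      · rintro (h | h)
        · exact hca (smul_left_cancel (j : G) (h.trans (T.P_fix j j.2).1.symm))
        · exact hcb (smul_left_cancel (j : G) (h.trans (T.P_fix j j.2).2.symm))
      · intro j j' h
        have h' : (j : G) • c = (j' : G) • c := congrArg Subtype.val h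
        refine Subtype.ext (inv_mul_eq_one.1 ?_).symm
        by_contra hne
        rcases T.P_fix_eq (mul_mem (inv_mem j'.2) j.2) hne
          (y := c) (by rw [mul_smul, h', inv_smul_smul]) with h | h
        · exact hca h
        · exact hcb h
      · rintro ⟨z, hz⟩
        push Not at hz
        let x₁ : Fin 3 ↪ Ω := ⟨![T.a, T.b, c], by
          intro i j h
          fin_cases i <;> fin_cases j <;> simp [T.hab, T.hab.symm, Ne.symm hca, Ne.symm hcb, hca, hcb] at h ⊢⟩
        let x₂ : Fin 3 ↪ Ω := ⟨![T.a, T.b, z], by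
          intro i j h
          fin_cases i <;> fin_cases j <;>
            simp [T.hab, T.hab.symm, hz.1, hz.2, Ne.symm hz.1, Ne.symm hz.2] at h ⊢⟩
        obtain ⟨g, hg⟩ := MulAction.isMultiplyPretransitive_iff.1 h3 x₁ x₂
        have ha : (g : G) • T.a = T.a := congrArg (fun x : Fin 3 ↪ Ω => x 0) hg
        have hb : (g : G) • T.b = T.b := congrArg (fun x : Fin 3 ↪ Ω => x 1) hg
        have hc : (g : G) • c = z := congrArg (fun x : Fin 3 ↪ Ω => x 2) hg
        obtain ⟨q, hq, j, hj, e⟩ := T.L_stab hV g.2 ha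
        have hq1 : q = 1 := T.Q_free q hq (by
          have := hb
          rwa [e, mul_smul, (T.P_fix j hj).2] at this)
        rw [hq1, one_mul] at e
        exact ⟨⟨j, hj⟩, Subtype.ext (show j • c = z from e ▸ hc)⟩
    have h1 := Fintype.card_subtype_compl (fun z : Ω => z = T.a ∨ z = T.b)
    have h2 : Fintype.card {z : Ω // z = T.a ∨ z = T.b} = 2 := by
      rw [Fintype.card_subtype]
      have : (Finset.univ.filter fun z : Ω => z = T.a ∨ z = T.b) = {T.a, T.b} := by
        ext z; simp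
      rw [this, Finset.card_pair T.hab]
    have h4 := Nat.card_congr e
    rw [T.P_card, Nat.card_eq_fintype_card, h1, h2, ← Nat.card_eq_fintype_card, ← T.card_Q_add_one]
      at h4
    have := T.p_eq
    have := T.two_le_p
    omega
  · exfalso
    have hodd : Odd (Fintype.card K) := Nat.odd_iff.2 (FiniteField.odd_card_of_char_ne_two hchar)
    have h := card_le_four_of_elementary hodd ((T.S.subgroupOf T.L).map e.toMonoidHom) (k := r) (by
        rw [card_map_of_injective (f := e.toMonoidHom) e.injective,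
          Nat.card_congr (subgroupOfEquivOfLe (T.S_le.trans T.Q_le_L)).toEquiv, T.S_card]) (by
        rintro _ ⟨x, hx, rfl⟩
        rw [← map_mul, show x * x = 1 from Subtype.ext (T.S_sq _ hx), map_one])
    have := T.three_le
    omega

theorem nonempty_psl (hV : T.V ⊓ T.L = ⊥) :
    ∃ (F : Type) (_ : Field F) (_ : Fintype F), Fintype.card F = 2 ^ r ∧
      Nonempty (T.L ≃* Matrix.ProjectiveSpecialLinearGroup (Fin 2) F) := by
  classical
  haveI := Fact.mk Nat.prime_two
  haveI := T.L_normal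
  have hQS : T.Q = T.S := (Subgroup.eq_of_le_of_card_ge T.S_le
    (by rw [T.card_Q_eq hV, T.S_card])).symm
  set SL := T.S.subgroupOf T.L with hSL
  have hSLc : Nat.card SL = 2 ^ r := by
    rw [hSL, Nat.card_congr (subgroupOfEquivOfLe (T.S_le.trans T.Q_le_L)).toEquiv, T.S_card]
  obtain ⟨R, hR⟩ := (IsPGroup.of_card hSLc : IsPGroup 2 SL).exists_le_sylow
  have hRS : (R : Subgroup T.L) = SL := by
    refine le_antisymm (fun x hx => ?_) hR
    have hodd : ¬ 2 ∣ Nat.card Ω := fun h => Nat.not_even_iff_odd.2 T.odd_card (even_iff_two_dvd.2 h)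
    obtain ⟨z, hz⟩ := R.2.nonempty_fixed_point_of_prime_not_dvd_card Ω hodd
    obtain ⟨s, hs, hs1⟩ := T.exists_S_ne_one
    have hza : z = T.a := T.S_fix_eq hs hs1
      (hz ⟨⟨s, T.Q_le_L (T.S_le hs)⟩, hR hs⟩)
    obtain ⟨k, hk⟩ := R.2 ⟨x, hx⟩
    exact T.two_mem_S (x : G) (hza ▸ hz ⟨x, hx⟩)
      (congrArg (fun y : (R : Subgroup T.L) => ((y : T.L) : G)) hk)
  have hnc : ¬ IsCyclic (R : Subgroup T.L) := by
    intro hc
    obtain ⟨g, hg⟩ := hc.exists_ofOrder_eq_natCard
    have h1 : Nat.card (R : Subgroup T.L) = 2 ^ r := by rw [hRS, hSLc]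
    rw [h1] at hg
    have hgS : ((g : T.L) : G) ∈ T.S := (hRS ▸ g.2 : (g : T.L) ∈ SL)
    have h2 := orderOf_dvd_of_pow_eq_one (show g ^ 2 = 1 from
      Subtype.ext (Subtype.ext (by rw [sq]; exact T.S_sq _ hgS)))
    rw [hg] at h2
    have := Nat.pow_le_pow_right (show 0 < 2 by norm_num) T.three_le
    have := Nat.le_of_dvd two_pos h2
    omega
  have hnn : ¬ (R : Subgroup T.L).Normal := by
    intro hn
    rw [hRS] at hn
    obtain ⟨s, hs, hs1⟩ := T.exists_S_ne_one
    have h := hn.conj_mem ⟨s, T.Q_le_L (T.S_le hs)⟩ hs ⟨T.w, T.w_mem_L⟩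
    have h' : T.w * s * T.w⁻¹ ∈ T.S := h
    have hb := T.S_fix_eq h' (by simpa [mul_inv_eq_one] using hs1) (y := T.b) (by
      rw [T.w_inv, mul_smul, mul_smul, T.w_b, T.Q_fix s (T.S_le hs), T.w_a])
    exact T.hab hb.symm
  obtain ⟨F, iF, iFf, hcard, he⟩ := Cfsg.Agent.S1230.result R hnc hnn fun t ht => by
    obtain ⟨y, hy⟩ := T.exists_fixed (t := (t : G)) (by rwa [Subgroup.orderOf_coe])
    obtain ⟨h, hha⟩ := T.exists_map_a y
    have hto : orderOf (t : G) = 2 := by rwa [Subgroup.orderOf_coe]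
    have hsS : h * (t : G) * h⁻¹ ∈ T.S := T.invol_mem_S (Invol.invol_conj hto h)
      (by rw [← hha, mul_smul, inv_smul_smul, mul_smul, hy])
    have key : ∀ g ∈ Subgroup.centralizer ({t} : Set T.L), h * (g : G) * h⁻¹ ∈ T.S := by
      intro g hg
      have hgt : (g : G) * t = t * g := congrArg Subtype.val (mem_centralizer_singleton_iff.1 hg)
      have hgy : (g : G) • y = y := T.invol_fix_unique hto (by rw [smul_smul, ← hgt, mul_smul, hy]) hy
      have hgL : h * (g : G) * h⁻¹ ∈ T.L := T.L_normal.conj_mem _ g.2 h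
      obtain ⟨q, hq, j, hj, e⟩ := T.L_stab hV hgL
        (by rw [← hha, mul_smul, inv_smul_smul, mul_smul, hgy])
      have hgs : (q * j) * (h * (t : G) * h⁻¹) = h * (t : G) * h⁻¹ * (q * j) := by
        rw [← e, show h * (g : G) * h⁻¹ * (h * (t : G) * h⁻¹) = h * ((g : G) * t) * h⁻¹ by group,
          hgt]
        group
      set s := h * (t : G) * h⁻¹ with hsdef
      have hjs : s * j = j * s := by
        refine mul_left_cancel (a := q) ?_
        rw [← mul_assoc, T.Q_comm q hq s (T.S_le hsS), mul_assoc, ← hgs, mul_assoc]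
      by_cases hj1 : j = 1
      · rw [e, hj1, mul_one, ← hQS]; exact hq
      · exfalso
        have hs1 := T.QP s (T.S_le hsS) fun j' hj' => T.P_commute_gen hj hj1 hjs hj'
        exact Invol.invol_ne_one (Invol.invol_conj hto h) hs1
    refine ⟨⟨⟨fun g g' => Subtype.ext (Subtype.ext ?_)⟩⟩, fun g hg => Subtype.ext ?_⟩
    · have e := T.Q_comm _ (T.S_le (key g g.2)) _ (T.S_le (key g' g'.2))
      refine mul_left_cancel (a := h) (mul_right_cancel (b := h⁻¹) ?_)
      calc h * (((g : T.L) : G) * ((g' : T.L) : G)) * h⁻¹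
          = h * ((g : T.L) : G) * h⁻¹ * (h * ((g' : T.L) : G) * h⁻¹) := by group
        _ = h * ((g' : T.L) : G) * h⁻¹ * (h * ((g : T.L) : G) * h⁻¹) := e
        _ = h * (((g' : T.L) : G) * ((g : T.L) : G)) * h⁻¹ := by group
    · have e := T.S_sq _ (key g hg)
      show ((g : T.L) : G) ^ 2 = 1
      rw [sq]
      rw [show h * (g : G) * h⁻¹ * (h * (g : G) * h⁻¹) = h * ((g : G) * g) * h⁻¹ by group,
        mul_inv_eq_one] at e
      simpa using e
  exact ⟨F, iF, iFf, by rw [hcard, hRS, hSLc], he⟩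

end Setup

/-- **The configuration is `PSL(2, 2^r)` extended by `V`.** -/
theorem Setup.conclusion {r p : ℕ} :
    ∀ (G : Type u) [Group G] [Finite G] (Ω : Type u) [MulAction G Ω] [Finite Ω]
      (T : Setup G Ω r p), T.V ⊓ T.L = ⊥ := by
  suffices h : ∀ N : ℕ, ∀ (G : Type u) [Group G] [Finite G] (Ω : Type u) [MulAction G Ω] [Finite Ω]
      (T : Setup G Ω r p), Nat.card G = N → T.V ⊓ T.L = ⊥ by
    intro G _ _ Ω _ _ T
    exact h _ G Ω T rfl
  intro N
  induction N using Nat.strong_induction_on with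
  | _ N ih =>
    intro G _ _ Ω _ _ T hN
    refine T.V_inf_L_eq_bot fun v hv l hl hvl hdvd => ?_
    by_cases hS : ∀ s ∈ T.S, v * s = s * v
    · obtain ⟨hlt, ⟨T'⟩, hno⟩ := T.exists_restrict hv hl hvl hS
      have hV' := ih _ (hN ▸ hlt) _ _ T' rfl
      have hc := T'.card_Q_add_one
      rw [T'.card_Q_eq hV'] at hc
      rw [← hc] at hdvd
      obtain ⟨F, iF, iFf, hF, ⟨e⟩⟩ := T'.nonempty_psl hV'
      obtain ⟨x, t, hx, ht, hinv⟩ := exists_inverted_psl (F := F)
        (show r ≠ 0 by have := T.three_le; omega) hF hl hdvd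
      refine hno (e.symm x : _) (e.symm t : _) ?_ ?_ ?_
      · rw [Subgroup.orderOf_coe, MulEquiv.orderOf_eq, hx]
      · rw [Subgroup.orderOf_coe, MulEquiv.orderOf_eq, ht]
      · rw [← Subgroup.coe_inv, ← Subgroup.coe_mul, ← Subgroup.coe_inv, ← Subgroup.coe_mul,
          ← map_inv, ← map_mul, ← map_mul, hinv, map_inv]
    · push Not at hS
      exact T.not_dvd_fix_of_moves hv hl hvl hS hdvd

end CfsgLib.EqConj
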