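import Cfsg.Agent.Lib.Invol.EqualOrderConj.Linear3

/-!
# `O(N(S)) = F(O(N(S))) C(P)`
-/

set_option autoImplicit false
set_option linter.unusedSectionVars false
set_option linter.style.haveILetI false

namespace CfsgLib.EqConj

open Subgroup

universe u

namespace Ctx

variable {G : Type u} [Group G] [Finite G] (C : Ctx G)

/-- Properties of an arbitrary subgroup of order `p` attached to a pair. -/
theorem pair_props {x y : C.X} (h : x ≠ y) {P : Subgroup G} (hP : Nat.card P = C.p)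
    (hfix : ∀ j ∈ P, j • x = x ∧ j • y = y) :
    (∀ d : G, d • x = x → d • y = y → ∀ j ∈ P, d * j * d⁻¹ ∈ P) ∧
      (∀ i : G, orderOf i = 2 → i • x = y → ∀ j ∈ P, i * j * i⁻¹ = j⁻¹) ∧
      ∀ i : G, orderOf i = 2 → i • x = y → ∀ d : G, d • x = x → d • y = y →
        ∃ j ∈ P, ∃ c : G, c • x = x ∧ c • y = y ∧ i * c = c * i ∧ d = c * j := by
  obtain ⟨P₀, hP₀, hfix₀, hn₀, hinv₀, hdec₀⟩ := C.exists_pair h
  have e : P = P₀ := C.eq_of_card_p hP₀ hP (fun j hj => (hfix₀ j hj).1) (fun j hj => (hfix j hj).1)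
    fun d hd => mem_normalizer_iff.2 fun z => by
      refine ⟨fun hz => hn₀ d (hfix d hd).1 (hfix d hd).2 z hz, fun hz => ?_⟩
      have := hn₀ d⁻¹ (hfix _ (inv_mem hd)).1 (hfix _ (inv_mem hd)).2 _ hz
      rwa [show d⁻¹ * (d * z * d⁻¹) * d⁻¹⁻¹ = z by group] at this
  subst e
  exact ⟨hn₀, hinv₀, hdec₀⟩

theorem pow_p_of_mem {P : Subgroup G} (hP : Nat.card P = C.p) {j : G} (hj : j ∈ P) : j ^ C.p = 1 :=
  orderOf_dvd_iff_pow_eq_one.1 (hP ▸ Subgroup.orderOf_dvd_natCard P hj)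

theorem mem_N_of_fix {P : Subgroup G} {y : C.X}
    (hfix : ∀ j ∈ P, j • C.x₀ = C.x₀ ∧ j • y = y) {j : G} (hj : j ∈ P) : j ∈ C.N :=
  C.stab_x₀.1 (hfix j hj).1

/-- An element of `O(N(S))` fixing a pair commutes with its subgroup of order `p`. -/
theorem commute_of_fix {y : C.X} (hy : C.x₀ ≠ y) {P : Subgroup G} (hP : Nat.card P = C.p)
    (hfix : ∀ j ∈ P, j • C.x₀ = C.x₀ ∧ j • y = y) {w : G} (hw : w ∈ C.W) (hwy : w • y = y) {j : G}
    (hj : j ∈ P) : w * j = j * w :=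
  C.commute_of_W_normalizes hP (fun _ h => C.mem_N_of_fix hfix h) hw
    (fun j hj => (C.pair_props hy hP hfix).1 w (C.W_fix hw) hwy j hj) hj

/-- `P` acts without fixed points on `F`. -/
theorem F_fpf {y : C.X} (hy : C.x₀ ≠ y) {P : Subgroup G} (hP : Nat.card P = C.p)
    (hfix : ∀ j ∈ P, j • C.x₀ = C.x₀ ∧ j • y = y) {f : G} (hf : f ∈ C.F)
    (hc : ∀ j ∈ P, f * j = j * f) : f = 1 := by
  by_contra hne
  obtain ⟨q, hq, hqo⟩ := Nat.exists_prime_and_dvd (fun h => hne (orderOf_eq_one_iff.1 h))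
  haveI := Fact.mk hq
  have hqF : q ∣ Nat.card C.F := hqo.trans (Subgroup.orderOf_dvd_natCard _ hf)
  set k := orderOf f / q
  have hmo : orderOf (f ^ k) = q := by
    rw [orderOf_pow_of_dvd (Nat.div_pos (Nat.le_of_dvd (orderOf_pos f) hqo) hq.pos).ne'
      (Nat.div_dvd_of_dvd hqo), Nat.div_div_self hqo (orderOf_pos f).ne']
  refine C.M_not_le_cent hq hqF hy hP hfix fun x hx j hj => C.M_fixed hq hqF
    (C.mem_N_of_fix hfix hj) (C.pow_p_of_mem hP hj) (m := f ^ k)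
    ⟨pow_mem hf k, hmo ▸ pow_orderOf_eq_one (f ^ k)⟩ ?_ ((show Commute f j from hc j hj).pow_left k).eq hx
  intro h
  rw [h, orderOf_one] at hmo
  exact hq.ne_one hmo.symm

/-- An element of prime order `q ∣ |F|` of `O(N(S))` fixes no second point. -/
theorem no_fix_F {y : C.X} (hy : C.x₀ ≠ y) {q : ℕ} (hq : q.Prime) (hqF : q ∣ Nat.card C.F) {x : G}
    (hx : x ∈ C.W) (hxy : x • y = y) (hxq : x ^ q = 1) : x = 1 := by
  obtain ⟨P, hP, hfix, -⟩ := C.exists_pair hy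
  exact C.F_fpf hy hP hfix (C.mem_M hq hqF hx hxq).1 fun j hj => C.commute_of_fix hy hP hfix hx hxy hj

/-- Conjugation by an element of `N(S)` on `O(N(S))`. -/
def conjW {n : G} (hn : n ∈ C.N) : C.W ≃* C.W where
  toFun w := ⟨n * w * n⁻¹, oddPart_conj C.S hn w.2⟩
  invFun w := ⟨n⁻¹ * w * n, by
    have := oddPart_conj C.S (inv_mem hn) w.2
    rwa [inv_inv] at this⟩
  left_inv w := Subtype.ext (show n⁻¹ * (n * w * n⁻¹) * n = w by group)
  right_inv w := Subtype.ext (show n * (n⁻¹ * w * n) * n⁻¹ = w by group)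
  map_mul' v w := Subtype.ext
    (show n * ((v : G) * w) * n⁻¹ = n * v * n⁻¹ * (n * w * n⁻¹) by group)

theorem pCore_normalized {q : ℕ} {n : G} (hn : n ∈ C.N) :
    n ∈ normalizer (((Cfsg.pCore q C.W).map C.W.subtype : Subgroup G) : Set G) := by
  have key : ∀ n ∈ C.N, ∀ x ∈ (Cfsg.pCore q C.W).map C.W.subtype,
      n * x * n⁻¹ ∈ (Cfsg.pCore q C.W).map C.W.subtype := by
    rintro n hn _ ⟨x, hx, rfl⟩
    refine ⟨C.conjW hn x, ?_, rfl⟩
    rw [← Coprime.map_pCore_equiv (C.conjW hn) q]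
    exact ⟨x, hx, rfl⟩
  refine mem_normalizer_iff.2 fun x => ⟨key n hn x, fun hx => ?_⟩
  have := key _ (inv_mem hn) _ hx
  rwa [show n⁻¹ * (n * x * n⁻¹) * n⁻¹⁻¹ = x by group] at this

theorem commutator_cent_pCore {q : ℕ} (hq : q.Prime) (hq2 : q ≠ 2) {w j : G} (hw : w ∈ C.W)
    (hj : j ∈ C.N) (hjp : j ^ C.p = 1) {x : C.W} (hx : x ∈ Cfsg.pCore q C.W) :
    w * j * w⁻¹ * j⁻¹ * x = x * (w * j * w⁻¹ * j⁻¹) := by
  haveI := Fact.mk hq
  by_cases hx1 : x = 1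
  · simp [hx1]
  obtain ⟨P, hP⟩ := ((Coprime.pCore_isPGroup (G := C.W) q).map C.W.subtype).exists_le_sylow
  rcases C.hG.sylow_cases P with h | h | ⟨⟨e⟩⟩
  · haveI := Subgroup.isCyclic_of_le hP
    exact commutator_cent_of_cyclic _ (C.pCore_normalized (oddPart_le C.S hw))
      (C.pCore_normalized hj) ⟨x, hx, rfl⟩
  · have hqF : q ∣ Nat.card C.F := by
      obtain ⟨k, hk⟩ := (Coprime.pCore_isPGroup (G := C.W) q) ⟨x, hx⟩
      obtain ⟨i, -, hi⟩ := (Nat.dvd_prime_pow hq).1 (orderOf_dvd_of_pow_eq_one hk)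
      rcases Nat.eq_zero_or_pos i with h0 | h0
      · rw [h0, pow_zero, orderOf_eq_one_iff] at hi
        exact absurd (congrArg Subtype.val hi) hx1
      · refine dvd_trans ?_ (Subgroup.orderOf_dvd_natCard C.F
          (show (x : G) ∈ C.F from ⟨x, Coprime.pCore_le_fitting q hx, rfl⟩))
        rw [Subgroup.orderOf_coe, ← Subgroup.orderOf_mk x hx, hi]
        exact dvd_pow_self q h0.ne'
    exact C.M_commutator hq hqF hw hj hjp
      (C.mem_M hq hqF x.2 (h.2 (x : G) (hP ⟨x, hx, rfl⟩)))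
  · exfalso
    obtain ⟨k, hk⟩ := P.2.exists_card_eq
    rw [Nat.card_congr e.toEquiv, Nat.card_eq_fintype_card, QuaternionGroup.card] at hk
    have h8 : q ∣ 2 ^ 3 := by
      rcases Nat.eq_zero_or_pos k with h | h
      · rw [h] at hk; norm_num at hk
      · norm_num; rw [show (8 : ℕ) = 4 * 2 by norm_num, hk]; exact dvd_pow_self q h.ne'
    exact hq2 ((Nat.prime_dvd_prime_iff_eq hq Nat.prime_two).1 (hq.dvd_of_dvd_pow h8))

theorem commutator_mem_F {w j : G} (hw : w ∈ C.W) (hj : j ∈ C.N) (hjp : j ^ C.p = 1) :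
    w * j * w⁻¹ * j⁻¹ ∈ C.F := by
  have hcW : w * j * w⁻¹ * j⁻¹ ∈ C.W := by
    rw [show w * j * w⁻¹ * j⁻¹ = w * (j * w⁻¹ * j⁻¹) by group]
    exact mul_mem hw (oddPart_conj C.S hj (inv_mem hw))
  refine C.mem_F_of_centralizes hcW fun f hf => ?_
  obtain ⟨x, hx, rfl⟩ := hf
  have hle : Cfsg.fittingSubgroup C.W ≤ centralizer ({⟨_, hcW⟩} : Set C.W) := by
    rw [Coprime.fitting_eq_iSup_pCore]
    refine iSup_le fun q y hy => mem_centralizer_singleton_iff.2 (Subtype.ext ?_)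
    by_cases h2 : (q : ℕ) = 2
    · rw [h2, C.pCore_two, Subgroup.mem_bot] at hy
      simp [hy]
    · exact (C.commutator_cent_pCore q.2 h2 hw hj hjp hy).symm
  exact (congrArg Subtype.val (mem_centralizer_singleton_iff.1 (hle hx))).symm

/-- `O(N(S)) = F C(P)`. -/
theorem exists_F_decomp {y : C.X} (hy : C.x₀ ≠ y) {P : Subgroup G} (hP : Nat.card P = C.p)
    (hfix : ∀ j ∈ P, j • C.x₀ = C.x₀ ∧ j • y = y) {w : G} (hw : w ∈ C.W) :
    ∃ f ∈ C.F, ∃ w₀ ∈ C.W, (∀ j ∈ P, w₀ * j = j * w₀) ∧ w = f * w₀ := by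
  haveI := Fact.mk C.p_prime
  obtain ⟨j, hjP, hj1⟩ : ∃ j ∈ P, j ≠ 1 := by
    by_contra h
    push Not at h
    have h1 : Nat.card P = 1 := Subgroup.card_eq_one.2 (P.eq_bot_iff_forall.2 h)
    rw [hP] at h1
    exact C.p_prime.ne_one h1
  have hjN := C.mem_N_of_fix hfix hjP
  have hPj : P = zpowers j := (eq_of_le_of_card_ge (zpowers_le.2 hjP) (by
    rw [Nat.card_zpowers, hP, orderOf_eq_prime (C.pow_p_of_mem hP hjP) hj1])).symm
  have hall : ∀ g : G, g * j = j * g → ∀ i ∈ P, g * i = i * g := by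
    intro g hg i hi
    rw [hPj] at hi
    obtain ⟨k, rfl⟩ := mem_zpowers_iff.1 hi
    exact ((show Commute g j from hg).zpow_right k).eq
  let φ : C.F → C.F := fun f => ⟨(f : G) * j * (f : G)⁻¹ * j⁻¹, by
    rw [show (f : G) * j * (f : G)⁻¹ * j⁻¹ = (f : G) * (j * (f : G)⁻¹ * j⁻¹) by group]
    exact mul_mem f.2 (C.F_conj hjN (inv_mem f.2))⟩
  have hinj : Function.Injective φ := by
    intro f g h
    have h' : (f : G) * j * (f : G)⁻¹ * j⁻¹ = (g : G) * j * (g : G)⁻¹ * j⁻¹ := congrArg Subtype.val h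
    have hc : (g : G)⁻¹ * f * j = j * ((g : G)⁻¹ * f) := by
      calc (g : G)⁻¹ * f * j = (g : G)⁻¹ * ((f : G) * j * (f : G)⁻¹ * j⁻¹) * j * f := by group
        _ = (g : G)⁻¹ * ((g : G) * j * (g : G)⁻¹ * j⁻¹) * j * f := by rw [h']
        _ = j * ((g : G)⁻¹ * f) := by group
    exact Subtype.ext (inv_mul_eq_one.1
      (C.F_fpf hy hP hfix (mul_mem (inv_mem g.2) f.2) (hall _ hc))).symm
  obtain ⟨f, hf⟩ := (Finite.injective_iff_surjective.1 hinj)
    ⟨_, C.commutator_mem_F hw hjN (C.pow_p_of_mem hP hjP)⟩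
  have hf' : (f : G) * j * (f : G)⁻¹ * j⁻¹ = w * j * w⁻¹ * j⁻¹ := congrArg Subtype.val hf
  refine ⟨f, f.2, (f : G)⁻¹ * w, mul_mem (inv_mem (C.F_le f.2)) hw, hall _ ?_,
    (mul_inv_cancel_left _ _).symm⟩
  calc (f : G)⁻¹ * w * j = (f : G)⁻¹ * (w * j * w⁻¹ * j⁻¹) * j * w := by group
    _ = (f : G)⁻¹ * ((f : G) * j * (f : G)⁻¹ * j⁻¹) * j * w := by rw [hf']
    _ = j * ((f : G)⁻¹ * w) := by group

end Ctx

end CfsgLib.EqConj
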