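import Cfsg.Agent.Lib.Invol.EqualOrderConj.Local
import Cfsg.Agent.Lib.Invol.EqualOrderConj.PslFour
import Cfsg.Agent.Lib.Invol.OrderTwelve
import Cfsg.Agent.Lib.Invol.KleinPair
import Cfsg.Agent.Lib.Invol.AltEightSubgroups
import Cfsg.Agent.Lib.GW.Final
import Cfsg.Agent.Lib.GW.InvolPSL
import Cfsg.Agent.Lib.Classical.ProjLine
import Cfsg.Agent.Lib.Perm.Groups.AltAut

/-!
# Sylow 2-subgroup a four group
-/

set_option autoImplicit false
set_option linter.unusedSectionVars false
set_option linter.style.haveILetI false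

namespace CfsgLib.EqConj

open Subgroup

universe u

variable {G : Type u} [Group G] [Finite G]

theorem commute_S {S : Sylow 2 G} (hS : Cfsg.IsElementaryAbelian 2 (S : Subgroup G)) {s t : G}
    (hs : s ∈ (S : Subgroup G)) (ht : t ∈ (S : Subgroup G)) : s * t = t * s :=
  congrArg Subtype.val (hS.1.is_comm.comm (⟨s, hs⟩ : (S : Subgroup G)) ⟨t, ht⟩)

/-- In the four group case the centraliser of an involution of `S` centralises `S`. -/
theorem cent_S_of_four (hG : Hyp G) (S : Sylow 2 G)
    (hS : Cfsg.IsElementaryAbelian 2 (S : Subgroup G)) (h4 : Nat.card (S : Subgroup G) = 4) {t : G}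
    (ht : t ∈ (S : Subgroup G)) (ht2 : orderOf t = 2) {x : G} (hx : x * t = t * x) {s : G}
    (hs : s ∈ (S : Subgroup G)) : x * s = s * x := by
  haveI := Fact.mk Nat.prime_two
  set N := normalizer ((S : Subgroup G) : Set G) with hN
  have hxN : x ∈ N := hG.cent_le_normalizer S hS ht ht2 (mem_centralizer_singleton_iff.2 hx)
  set K := (centralizer ((S : Subgroup G) : Set G)).subgroupOf N with hK
  haveI : K.Normal := by
    refine ⟨fun k hk n => mem_subgroupOf.2 (mem_centralizer_iff.2 fun z hz => ?_)⟩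
    have hz' : (n : G)⁻¹ * z * n ∈ (S : Subgroup G) := by
      have := (mem_normalizer_iff.1 (inv_mem n.2) z).1 hz
      rwa [inv_inv] at this
    have h := mem_centralizer_iff.1 (mem_subgroupOf.1 hk) _ hz'
    calc z * ((n : G) * k * (n : G)⁻¹) = (n : G) * ((n : G)⁻¹ * z * n * k) * (n : G)⁻¹ := by group
      _ = (n : G) * (k * ((n : G)⁻¹ * z * n)) * (n : G)⁻¹ := by rw [h]
      _ = (n : G) * k * (n : G)⁻¹ * z := by group
  have hodd : Odd K.index := by
    rw [← Nat.not_even_iff_odd, even_iff_two_dvd]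
    intro h
    have hle : (S : Subgroup G).subgroupOf N ≤ K := fun z hz =>
      mem_centralizer_iff.2 fun w hw => commute_S hS hw hz
    exact S.not_dvd_index ((h.trans (index_dvd_of_le hle)).trans
      (relIndex_dvd_index_of_le le_normalizer))
  have hsq : (⟨x, hxN⟩ : N) * ⟨x, hxN⟩ ∈ K := by
    refine mem_subgroupOf.2 (mem_centralizer_iff.2 fun u hu => ?_)
    show u * (x * x) = x * x * u
    have hSp : ∀ u ∈ (S : Subgroup G), x * u * x⁻¹ ∈ (S : Subgroup G) :=
      fun u hu => (mem_normalizer_iff.1 hxN u).1 hu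
    have hxt : x * t * x⁻¹ = t := mul_inv_eq_iff_eq_mul.2 hx
    suffices x * (x * u * x⁻¹) * x⁻¹ = u by
      calc u * (x * x) = x * (x * u * x⁻¹) * x⁻¹ * (x * x) := by rw [this]
        _ = x * x * u := by group
    by_cases hu1 : u = 1
    · simp [hu1]
    by_cases hut : u = t
    · rw [hut, hxt, hxt]
    have hu2 : orderOf u = 2 := Invol.invol_iff.2 ⟨by rw [← sq]; exact hS.2 u hu, hu1⟩
    have hV := Invol.isKleinFour_closure_pair ht2 hu2 (Ne.symm hut) (commute_S hS ht hu)
    have hVS : closure ({t, u} : Set G) = (S : Subgroup G) := eq_of_le_of_card_ge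
      (by rw [closure_le]; rintro z (rfl | rfl); exacts [ht, hu]) (by rw [h4, hV.card_four])
    rcases Invol.mem_klein ht2 hu2 (Ne.symm hut) (commute_S hS ht hu) (hVS ▸ hSp u hu) with
      e | e | e | e
    · exact absurd (by simpa [mul_inv_eq_one] using e) hu1
    · rw [← hxt] at e
      exact absurd (mul_left_cancel (mul_right_cancel e)) hut
    · rw [e, e]
    · calc x * (x * u * x⁻¹) * x⁻¹ = x * (t * u) * x⁻¹ := by rw [e]
        _ = x * t * x⁻¹ * (x * u * x⁻¹) := by group
        _ = t * (t * u) := by rw [hxt, e]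
        _ = u := by rw [← mul_assoc, Invol.invol_mul_self ht2, one_mul]
  have hxK : (⟨x, hxN⟩ : N) ∈ K := by
    obtain ⟨k, hk⟩ := hodd
    have h1 := K.pow_index_mem (⟨x, hxN⟩ : N)
    rw [hk, pow_succ, pow_mul, sq] at h1
    exact (K.mul_mem_cancel_left (pow_mem hsq k)).1 h1
  exact (mem_centralizer_iff.1 (mem_subgroupOf.1 hxK) s hs).symm

theorem exists_invol_four (S : Sylow 2 G) (hS : Cfsg.IsElementaryAbelian 2 (S : Subgroup G))
    (h4 : Nat.card (S : Subgroup G) = 4) :
    ∃ t ∈ (S : Subgroup G), ∃ u ∈ (S : Subgroup G), orderOf t = 2 ∧ orderOf u = 2 ∧ t ≠ u := by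
  classical
  obtain ⟨t, ht, ht2⟩ := Invol.exists_invol_mem (H := (S : Subgroup G)) (by rw [h4]; decide)
  by_contra h
  push Not at h
  have hle : (S : Subgroup G) ≤ zpowers t := fun u hu => by
    by_cases hu1 : u = 1
    · rw [hu1]; exact one_mem _
    · rw [← h t ht u hu ht2 (Invol.invol_iff.2 ⟨by rw [← sq]; exact hS.2 u hu, hu1⟩)]
      exact mem_zpowers t
  have := Nat.le_of_dvd (by rw [Nat.card_zpowers, ht2]; norm_num) (card_dvd_of_le hle)
  rw [h4, Nat.card_zpowers, ht2] at this
  omega

/-- All involutions are conjugate. -/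
theorem invol_all_conj (hG : Hyp G) (S : Sylow 2 G)
    (hS : Cfsg.IsElementaryAbelian 2 (S : Subgroup G)) {s t : G} (hs : orderOf s = 2)
    (ht : orderOf t = 2) : ∃ g : G, g * s * g⁻¹ = t := by
  haveI := Fact.mk Nat.prime_two
  obtain ⟨g, hg⟩ := Invol.exists_conj_le_sylow
    (IsPGroup.of_card (n := 1) (by rw [Nat.card_zpowers, hs, pow_one]) : IsPGroup 2 (zpowers s)) S
  obtain ⟨h, hh⟩ := Invol.exists_conj_le_sylow
    (IsPGroup.of_card (n := 1) (by rw [Nat.card_zpowers, ht, pow_one]) : IsPGroup 2 (zpowers t)) S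
  obtain ⟨n, -, hn⟩ := invol_fused S hG hS (hg s (mem_zpowers s))
    (Invol.invol_ne_one (Invol.invol_conj hs g)) (hh t (mem_zpowers t))
    (Invol.invol_ne_one (Invol.invol_conj ht h))
  refine ⟨h⁻¹ * n * g, ?_⟩
  calc h⁻¹ * n * g * s * (h⁻¹ * n * g)⁻¹ = h⁻¹ * (n * (g * s * g⁻¹) * n⁻¹) * h := by group
    _ = h⁻¹ * (h * t * h⁻¹) * h := by rw [hn]
    _ = t := by group

theorem four_normal (hG : Hyp G) (hO : Cfsg.oddCore G = ⊥) (S : Sylow 2 G)
    (hS : Cfsg.IsElementaryAbelian 2 (S : Subgroup G)) (h4 : Nat.card (S : Subgroup G) = 4)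
    (hn : (S : Subgroup G).Normal) : Nonempty (G ≃* alternatingGroup (Fin 4)) := by
  haveI := Fact.mk Nat.prime_two
  have htop : normalizer ((S : Subgroup G) : Set G) = ⊤ := normalizer_eq_top_iff.2 hn
  have hW : oddPart S = ⊥ := by
    haveI : (oddPart S).Normal := ⟨fun w hw g => oddPart_conj S (by rw [htop]; trivial) hw⟩
    have h := Coprime.le_pPrimeCore_of_not_dvd Nat.prime_two (N := oddPart S)
      (fun h2 => Nat.not_even_iff_odd.2 (oddPart_odd S) (even_iff_two_dvd.2 h2))
    rwa [show Cfsg.pPrimeCore 2 G = ⊥ from hO, le_bot_iff] at h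
  obtain ⟨t, ht, -, -, ht2, -, -⟩ := exists_invol_four S hS h4
  have hC : ∀ {t : G}, t ∈ (S : Subgroup G) → orderOf t = 2 →
      centralizer ({t} : Set G) = (S : Subgroup G) := by
    intro t ht ht2
    refine le_antisymm (fun x hx => ?_)
      fun s hs => mem_centralizer_singleton_iff.2 (commute_S hS hs ht)
    obtain ⟨s, hs, w, hw, rfl⟩ := cent_prod S hS (x := x) (mem_centralizer_iff.2 fun s hs =>
      (cent_S_of_four hG S hS h4 ht ht2 (mem_centralizer_singleton_iff.1 hx) hs).symm)
    rw [hW, Subgroup.mem_bot] at hw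
    rwa [hw, mul_one]
  have h12 : Nat.card G = 12 := by
    have h := card_normalizer_eq S hG hS ht ht2
    rw [htop, card_top, hC ht ht2, h4] at h
    exact h
  refine Invol.mulEquiv_alternating_four h12 fun z hz hzc => ?_
  obtain ⟨g, hg⟩ := Invol.exists_conj_le_sylow
    (IsPGroup.of_card (n := 1) (by rw [Nat.card_zpowers, hz, pow_one]) : IsPGroup 2 (zpowers z)) S
  have hzS : z ∈ (S : Subgroup G) := by
    have := hg z (mem_zpowers z)
    rwa [mem_center_iff.1 hzc g, mul_inv_cancel_right] at this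
  have hle : centralizer ({z} : Set G) = ⊤ := eq_top_iff.2 fun x _ =>
    mem_centralizer_singleton_iff.2 (mem_center_iff.1 hzc x)
  rw [hC hzS hz] at hle
  rw [← card_top, ← hle, h4] at h12
  omega

theorem four_not_normal (hG : Hyp G) (hO : Cfsg.oddCore G = ⊥) (S : Sylow 2 G)
    (hS : Cfsg.IsElementaryAbelian 2 (S : Subgroup G)) (h4 : Nat.card (S : Subgroup G) = 4)
    (hn : ¬ (S : Subgroup G).Normal) : Nonempty (G ≃* alternatingGroup (Fin 5)) := by
  classical
  haveI := Fact.mk Nat.prime_two
  set L := closure {t : G | orderOf t = 2} with hLdef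
  haveI hLn : L.Normal := by
    refine ⟨fun n hn g => ?_⟩
    have hmap : L.map (MulAut.conj g).toMonoidHom ≤ L := by
      rw [hLdef, MonoidHom.map_closure, closure_le]
      rintro _ ⟨t, ht, rfl⟩
      exact subset_closure (Invol.invol_conj ht g)
    exact hmap ⟨n, hn, rfl⟩
  have hSL : (S : Subgroup G) ≤ L := fun s hs => by
    by_cases h1 : s = 1
    · rw [h1]; exact one_mem _
    · exact subset_closure (Invol.invol_iff.2 ⟨by rw [← sq]; exact hS.2 s hs, h1⟩)
  have hcontains : ∀ M : Subgroup G, M.Normal → ∀ d ∈ M, orderOf d = 2 → L ≤ M := by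
    intro M hM d hd hd2
    refine (closure_le _).2 fun x hx => ?_
    obtain ⟨g, hg⟩ := invol_all_conj hG S hS hd2 hx
    exact hg ▸ hM.conj_mem d hd g
  have hodd_bot : ∀ M : Subgroup G, M.Normal → Odd (Nat.card M) → M = ⊥ := by
    intro M hM hodd
    haveI := hM
    have h := Coprime.le_pPrimeCore_of_not_dvd Nat.prime_two (N := M)
      (fun h2 => Nat.not_even_iff_odd.2 hodd (even_iff_two_dvd.2 h2))
    rwa [show Cfsg.pPrimeCore 2 G = ⊥ from hO, le_bot_iff] at h
  haveI hperf : Group.IsPerfect L := by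
    rw [Subgroup.isPerfect_iff]
    by_cases heven : Even (Nat.card (⁅L, L⁆ : Subgroup G))
    · obtain ⟨d, hd, hd2⟩ := Invol.exists_invol_mem heven
      exact le_antisymm (commutator_le_self L)
        (hcontains _ (Subgroup.commutator_normal L L) d hd hd2)
    · exfalso
      have hbot := hodd_bot _ (Subgroup.commutator_normal L L) (Nat.not_even_iff_odd.1 heven)
      have hcomm : L ≤ centralizer (L : Set G) := commutator_eq_bot_iff_le_centralizer.1 hbot
      have hsq : ∀ x ∈ L, x * x = 1 := by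
        intro x hx
        induction hx using closure_induction with
        | mem x hx => exact Invol.invol_mul_self hx
        | one => rw [one_mul]
        | mul x y hx hy ex ey =>
          have hxy : y * x = x * y := mem_centralizer_iff.1 (hcomm hx) y hy
          rw [mul_assoc, ← mul_assoc y x y, hxy, mul_assoc x y y, ey, mul_one, ex]
        | inv x hx ex => rw [← mul_inv_rev, ex, inv_one]
      have hp : IsPGroup 2 L := fun x =>
        ⟨1, Subtype.ext (by rw [pow_one, Subgroup.coe_pow, sq]; exact hsq _ x.2)⟩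
      exact hn (S.3 hp hSL ▸ hLn)
  set S' := S.subtype hSL with hS'
  have hS'c : Nat.card (S' : Subgroup L) = 4 := by
    rw [hS', Sylow.coe_subtype, Nat.card_congr (subgroupOfEquivOfLe hSL).toEquiv, h4]
  have hdih : GW.DihTwo L := by
    haveI : IsKleinFour (S' : Subgroup L) := by
      refine ⟨hS'c, ?_⟩
      haveI : Nontrivial (S' : Subgroup L) :=
        Finite.one_lt_card_iff_nontrivial.1 (by rw [hS'c]; norm_num)
      refine (Monoid.exponent_eq_prime_iff Nat.prime_two).2 fun g hg => ?_
      exact orderOf_eq_prime (Subtype.ext (Subtype.ext (hS.2 _ g.2))) hg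
    obtain ⟨e⟩ := IsKleinFour.nonempty_mulEquiv (G₁ := (S' : Subgroup L)) (G₂ := DihedralGroup 2)
    exact GW.dihTwo_of_sylow S' le_rfl e
  have hOL : Cfsg.oddCore L = ⊥ := by
    have h := Coprime.pPrimeCore_map_subtype_eq (p := 2) Nat.prime_two L
    rw [show Cfsg.pPrimeCore 2 G = ⊥ from hO, bot_inf_eq] at h
    exact (map_eq_bot_iff_of_injective _ L.subtype_injective).1 h
  have eq : L ≃* L ⧸ Cfsg.oddCore L :=
    ((QuotientGroup.quotientMulEquivOfEq hOL).trans QuotientGroup.quotientBot).symm
  have h8 : ¬ 8 ∣ Nat.card L := by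
    intro h
    rw [← (S' : Subgroup L).card_mul_index, hS'c] at h
    exact S'.not_dvd_index (Nat.dvd_of_mul_dvd_mul_left (show 0 < 4 by norm_num) h)
  have h60 : Nat.card L = 60 := by
    rcases (GW.gw_perfect L hdih).congr eq with ⟨F, iF, iFf, hodd, h3, ⟨e⟩⟩ | ⟨⟨e⟩⟩
    swap
    · exfalso
      refine h8 ?_
      have h := two_mul_nat_card_alternatingGroup (α := Fin 7)
      rw [← Nat.card_congr e.toEquiv, Nat.card_perm, Nat.card_fin,
        show Nat.factorial 7 = 2 * 2520 by decide] at h
      omega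
    obtain ⟨t, ht, u, hu, ht2, hu2, htu⟩ := exists_invol_four S hS h4
    set t' : L := ⟨t, hSL ht⟩
    set u' : L := ⟨u, hSL hu⟩
    have hto : orderOf (e t') = 2 := by rw [MulEquiv.orderOf_eq, Subgroup.orderOf_mk, ht2]
    have huo : orderOf (e u') = 2 := by rw [MulEquiv.orderOf_eq, Subgroup.orderOf_mk, hu2]
    set C := centralizer ({t'} : Set L) with hCdef
    have hCsq : ∀ x ∈ C, x * x = 1 := by
      intro x hx
      refine e.injective ?_
      rw [map_mul, map_one]
      have hxt : (x : G) * t = t * x := congrArg Subtype.val (mem_centralizer_singleton_iff.1 hx)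
      refine psl_cent_four hodd hto huo (fun h => htu (congrArg Subtype.val (e.injective h)))
        ?_ ?_ ?_
      · rw [← map_mul, ← map_mul]
        exact congrArg e (Subtype.ext (commute_S hS ht hu))
      · rw [← map_mul, ← map_mul, mem_centralizer_singleton_iff.1 hx]
      · rw [← map_mul, ← map_mul]
        exact congrArg e (Subtype.ext (cent_S_of_four hG S hS h4 ht ht2 hxt hu))
    have hCp : IsPGroup 2 C := fun x => ⟨1, Subtype.ext (by
      rw [pow_one, Subgroup.coe_pow, sq]; exact hCsq _ x.2)⟩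
    have hS'C : (S' : Subgroup L) ≤ C := fun s hs =>
      mem_centralizer_singleton_iff.2 (Subtype.ext (commute_S hS hs ht))
    have hCeq : C = (S' : Subgroup L) := S'.3 hCp hS'C
    have hinv : GW.invCard (Fintype.card F) = 4 := by
      rw [← GW.card_cent_psl hodd (e t') hto, ← hS'c, ← hCeq]
      refine Nat.card_congr (Equiv.subtypeEquiv e.symm.toEquiv fun y => ?_)
      show y ∈ centralizer {e t'} ↔ e.symm y ∈ centralizer {t'}
      rw [mem_centralizer_singleton_iff, mem_centralizer_singleton_iff]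
      constructor
      · intro h
        have := congrArg e.symm h
        rwa [map_mul, map_mul, e.symm_apply_apply] at this
      · intro h
        have := congrArg e h
        rwa [map_mul, map_mul, e.apply_symm_apply] at this
    have h5 : Fintype.card F = 5 := by
      obtain ⟨j, hj⟩ := hodd
      unfold GW.invCard at hinv
      split_ifs at hinv <;> omega
    have hc := Classical.card_psl2 (F := F)
    rw [h5, ← Nat.card_congr e.toEquiv] at hc
    norm_num at hc
    omega
  haveI : Nontrivial L := Finite.one_lt_card_iff_nontrivial.1 (by omega)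
  obtain ⟨eA⟩ := Invol.AltEightSubgroups.alt_five_of_card_sixty (Group.IsPerfect.not_isSolvable L) h60
  have hker : (MulAut.conjNormal : G →* MulAut L).ker = ⊥ := by
    refine hodd_bot _ (MonoidHom.normal_ker _) ?_
    rw [← Nat.not_even_iff_odd]
    intro heven
    obtain ⟨d, hd, hd2⟩ := Invol.exists_invol_mem heven
    have hle := hcontains _ (MonoidHom.normal_ker _) d hd hd2
    refine Group.IsPerfect.not_isMulCommutative L ⟨⟨fun a b => Subtype.ext ?_⟩⟩
    have h1 := congrArg Subtype.val (DFunLike.congr_fun (MonoidHom.mem_ker.1 (hle a.2)) b)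
    rw [MulAut.conjNormal_apply] at h1
    exact mul_inv_eq_iff_eq_mul.1 h1
  have h120 : Nat.card G ∣ 120 := by
    have h := card_dvd_of_injective _ ((MonoidHom.ker_eq_bot_iff _).1 hker)
    rw [Nat.card_congr (MulAut.congr eA).toEquiv,
      ← Nat.card_congr (Equiv.ofBijective _
        (CfsgLib.Perm.Groups.AltAut.conjNormal_bijective (Ω := Fin 5) (by simp) (by simp))),
      Nat.card_perm, Nat.card_fin] at h
    exact h
  have hG60 : Nat.card G = 60 := by
    obtain ⟨c, hc⟩ : 60 ∣ Nat.card G := h60 ▸ card_subgroup_dvd_card L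
    rw [hc] at h120
    have hc2 : c ∣ 2 := Nat.dvd_of_mul_dvd_mul_left (show 0 < 60 by norm_num) (show 60 * c ∣ 60 * 2 from h120)
    rcases (Nat.dvd_prime Nat.prime_two).1 hc2 with rfl | rfl
    · simpa using hc
    · exfalso
      have h' : 4 * 2 ∣ Nat.card G := by rw [hc]; norm_num
      rw [← (S : Subgroup G).card_mul_index, h4] at h'
      exact S.not_dvd_index (Nat.dvd_of_mul_dvd_mul_left (show 0 < 4 by norm_num) h')
  have htop : L = ⊤ := eq_top_of_card_eq _ (h60.trans hG60.symm)
  exact ⟨(topEquiv.symm.trans (MulEquiv.subgroupCongr htop.symm)).trans eA⟩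

end CfsgLib.EqConj
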