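import Cfsg.Agent.Lib.Invol.EqualOrderConj.Setup
import Cfsg.Agent.Lib.FT.NoMinSimple
import Mathlib.GroupTheory.Transfer
import Mathlib.GroupTheory.Abelianization.Defs

/-!
# Fusion and transfer in the configuration `Setup`

If no fixed point set of an element of prime order `l` of `V` inside the subgroup `L` generated by
involutions has size divisible by `l`, then `V ⊓ L` is trivial.
-/

set_option autoImplicit false
set_option linter.unusedSectionVars false
set_option linter.style.haveILetI false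

namespace CfsgLib.EqConj

open Subgroup

universe u

variable {G : Type u} [Group G] [Finite G] {Ω : Type u} [MulAction G Ω]

namespace Setup

variable {r p : ℕ} (T : Setup G Ω r p)
include T

theorem ne_p_of_dvd {l : ℕ} (hlV : l ∣ Nat.card T.V) : l ≠ p := fun h => T.V_p (h ▸ hlV)

theorem exists_P_conj_V {d : G} (ha : d • T.a = T.a) (hb : d • T.b = T.b) {l e : ℕ} (hl : l.Prime)
    (hlV : l ∣ Nat.card T.V) (hde : d ^ l ^ e = 1) : ∃ j ∈ T.P, j * d * j⁻¹ ∈ T.V := by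
  refine exists_conj_mem_complement hl ?_ T.V_norm hde (T.D_prod d ha hb)
  rw [T.P_card, Nat.prime_dvd_prime_iff_eq hl T.p_prime]
  exact T.ne_p_of_dvd hlV

theorem exists_stab_conj_V {y : G} (ha : y • T.a = T.a) {l e : ℕ} (hl : l.Prime)
    (hlV : l ∣ Nat.card T.V) (hye : y ^ l ^ e = 1) :
    ∃ k ∈ T.L, k • T.a = T.a ∧ k * y * k⁻¹ ∈ T.V := by
  set D := MulAction.stabilizer G T.a ⊓ MulAction.stabilizer G T.b with hD
  have hlQ : ¬ l ∣ Nat.card T.Q := fun h => hl.ne_one (Nat.eq_one_of_dvd_coprimes T.V_cop hlV h)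
  have hne : y • T.b ≠ T.a := fun h => T.hab (smul_left_cancel y (ha.trans h.symm))
  obtain ⟨q, hq, h⟩ := T.Q_trans _ hne
  obtain ⟨k, hk, hkD⟩ := exists_conj_mem_complement (K := T.Q) (V := D) hl hlQ
    (fun d hd x hx => T.Q_normal d hd.1 x hx) hye
    ⟨q, hq, q⁻¹ * y, ⟨by
      show (q⁻¹ * y) • T.a = T.a
      rw [mul_smul, ha, T.Q_fix _ (inv_mem hq)], by
      show (q⁻¹ * y) • T.b = T.b
      rw [mul_smul, ← h, inv_smul_smul]⟩, by rw [mul_inv_cancel_left]⟩
  obtain ⟨j, hj, hjV⟩ := T.exists_P_conj_V (d := k * y * k⁻¹) hkD.1 hkD.2 hl hlV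
    (show (k * y * k⁻¹) ^ l ^ e = 1 by rw [conj_pow, hye, mul_one, mul_inv_cancel])
  refine ⟨j * k, mul_mem (T.P_le_L hj) (T.Q_le_L hk),
    by rw [mul_smul, T.Q_fix k hk, (T.P_fix j hj).1], ?_⟩
  rwa [show j * k * y * (j * k)⁻¹ = j * (k * y * k⁻¹) * j⁻¹ by group]

/-- Two fixed points of an element of `l`-power order are interchanged by an involution commuting
with it. -/
theorem exists_swap_commute {x : G} {l e : ℕ} (hl : l.Prime) (hlV : l ∣ Nat.card T.V)
    (hxe : x ^ l ^ e = 1) {y z : Ω} (hyz : y ≠ z) (hy : x • y = y) (hz : x • z = z) :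
    ∃ t : G, orderOf t = 2 ∧ t * x = x * t ∧ t • y = z ∧ t • z = y := by
  obtain ⟨h, hha, hhb⟩ := T.two y z T.a T.b hyz T.hab
  have hx'a : (h * x * h⁻¹) • T.a = T.a := by
    rw [← hha, mul_smul, inv_smul_smul, mul_smul, hy]
  have hx'b : (h * x * h⁻¹) • T.b = T.b := by
    rw [← hhb, mul_smul, inv_smul_smul, mul_smul, hz]
  obtain ⟨j, hj, hjV⟩ := T.exists_P_conj_V hx'a hx'b hl hlV
    (show (h * x * h⁻¹) ^ l ^ e = 1 by rw [conj_pow, hxe, mul_one, mul_inv_cancel])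
  have hja := T.P_fix j hj
  set g := j * h with hg
  have hgy : g • y = T.a := by rw [hg, mul_smul, hha, hja.1]
  have hgz : g • z = T.b := by rw [hg, mul_smul, hhb, hja.2]
  have hc : T.w * (g * x * g⁻¹) = g * x * g⁻¹ * T.w :=
    T.V_w _ (by rwa [hg, show j * h * x * (j * h)⁻¹ = j * (h * x * h⁻¹) * j⁻¹ by group])
  refine ⟨g⁻¹ * T.w * g, ?_, ?_, ?_, ?_⟩
  · simpa using Invol.invol_conj T.orderOf_w g⁻¹
  · calc g⁻¹ * T.w * g * x = g⁻¹ * (T.w * (g * x * g⁻¹)) * g := by group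
      _ = g⁻¹ * (g * x * g⁻¹ * T.w) * g := by rw [hc]
      _ = x * (g⁻¹ * T.w * g) := by group
  · rw [mul_smul, mul_smul, hgy, T.w_a, ← hgz, inv_smul_smul]
  · rw [mul_smul, mul_smul, hgz, T.w_b, ← hgy, inv_smul_smul]

/-- The elements of `Q` moving `b` to a fixed point of `x` commute with `x`. -/
theorem Q_commute {x : G} (hxa : x • T.a = T.a) (hxb : x • T.b = T.b) {q : G} (hq : q ∈ T.Q)
    (hz : x • q • T.b = q • T.b) : q * x = x * q := by
  have he : x * q * x⁻¹ = q := by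
    refine T.Q_eq (T.Q_normal x hxa q hq) hq ?_
    have : x⁻¹ • T.b = T.b := by rw [inv_smul_eq_iff, hxb]
    rw [mul_smul, mul_smul, this, hz]
  exact (mul_inv_eq_iff_eq_mul.1 he).symm

/-- The centraliser in `L` of an element of `l`-power order fixing `a` and `b` is doubly transitive
on its fixed points. -/
theorem cent_two {x : G} {l e : ℕ} (hl : l.Prime) (hlV : l ∣ Nat.card T.V) (hxe : x ^ l ^ e = 1)
    (hxa : x • T.a = T.a) (hxb : x • T.b = T.b) {y z : Ω} (hyz : y ≠ z) (hy : x • y = y)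
    (hz : x • z = z) : ∃ g ∈ T.L, g * x = x * g ∧ g • T.a = y ∧ g • T.b = z := by
  obtain ⟨t, htL, htc, hta⟩ : ∃ t ∈ T.L, t * x = x * t ∧ t • T.a = y := by
    by_cases hya : y = T.a
    · exact ⟨1, one_mem _, by rw [one_mul, mul_one], by rw [one_smul, hya]⟩
    · obtain ⟨t, ht, hc, h1, h2⟩ := T.exists_swap_commute hl hlV hxe hya hy hxa
      exact ⟨t, T.invol_mem_L ht, hc, h2⟩
  have hz' : x • t⁻¹ • z = t⁻¹ • z := by
    rw [smul_smul, show x * t⁻¹ = t⁻¹ * x from ((show Commute t x from htc).inv_left.eq).symm,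
      mul_smul, hz]
  have hne : t⁻¹ • z ≠ T.a := fun h => hyz (by rw [← hta, ← h, smul_inv_smul])
  obtain ⟨q, hq, hqb⟩ := T.Q_trans _ hne
  have hqc := T.Q_commute hxa hxb hq (by rw [hqb]; exact hz')
  exact ⟨t * q, mul_mem htL (T.Q_le_L hq), ((show Commute t x from htc).mul_left hqc).eq,
    by rw [mul_smul, T.Q_fix q hq, hta], by rw [mul_smul, hqb, smul_inv_smul]⟩

theorem exists_v_component (h : MulAction.stabilizer T.L T.a) :
    ∃ v : ↥(T.V ⊓ T.L), ∃ q ∈ T.Q, ∃ j ∈ T.P, ((h : T.L) : G) = q * (j * v) := by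
  obtain ⟨q, hq, j, hj, v, hv, e⟩ := T.stab_prod (g := ((h : T.L) : G)) h.2
  refine ⟨⟨v, hv, ?_⟩, q, hq, j, hj, e⟩
  have : v = j⁻¹ * (q⁻¹ * ((h : T.L) : G)) := by rw [e]; group
  show v ∈ T.L
  rw [this]
  exact mul_mem (inv_mem (T.P_le_L hj)) (mul_mem (inv_mem (T.Q_le_L hq)) (h : T.L).2)

theorem v_component_unique {q q' j j' v v' : G} (hq : q ∈ T.Q) (hq' : q' ∈ T.Q) (hj : j ∈ T.P)
    (hj' : j' ∈ T.P) (hv : v ∈ T.V) (hv' : v' ∈ T.V) (e : q * (j * v) = q' * (j' * v')) :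
    v = v' := by
  have e1 : q = q' := by
    refine T.Q_eq hq hq' ?_
    have := congrArg (· • T.b) e
    simpa [mul_smul, (T.P_fix j hj).2, (T.P_fix j' hj').2, (T.V_fix v hv).2, (T.V_fix v' hv').2] using this
  subst e1
  have e2 := mul_left_cancel e
  have h1 : j'⁻¹ * j = v' * v⁻¹ := by
    rw [eq_mul_inv_iff_mul_eq, mul_assoc, e2, inv_mul_cancel_left]
  have h2 : j'⁻¹ * j = 1 :=
    T.mem_P_inf_V (mul_mem (inv_mem hj') hj) (by rw [h1]; exact mul_mem hv' (inv_mem hv))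
  exact (mul_inv_eq_one.1 (h1.symm.trans h2)).symm

/-- The projection of the point stabiliser in `L` onto `V ⊓ L` made commutative. -/
noncomputable def proj : MulAction.stabilizer T.L T.a →* Abelianization ↥(T.V ⊓ T.L) :=
  MonoidHom.mk' (fun h => Abelianization.of (T.exists_v_component h).choose) (by
    intro h h'
    obtain ⟨q, hq, j, hj, e⟩ := (T.exists_v_component h).choose_spec
    obtain ⟨q', hq', j', hj', e'⟩ := (T.exists_v_component h').choose_spec
    obtain ⟨q'', hq'', j'', hj'', e''⟩ := (T.exists_v_component (h * h')).choose_spec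
    show Abelianization.of (T.exists_v_component (h * h')).choose = _
    rw [← map_mul]
    refine congrArg _ (Subtype.ext ?_)
    set v := (T.exists_v_component h).choose
    set v' := (T.exists_v_component h').choose
    set v'' := (T.exists_v_component (h * h')).choose
    have hd : (j * (v : G)) • T.a = T.a := by
      rw [mul_smul, (T.V_fix v v.2.1).1, (T.P_fix j hj).1]
    refine T.v_component_unique hq'' (q' := q * (j * v * q' * (j * (v : G))⁻¹))
      (mul_mem hq (T.Q_normal _ hd q' hq')) hj'' (j' := j * ((v : G) * j' * (v : G)⁻¹))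
      (mul_mem hj (T.V_norm v v.2.1 j' hj')) v''.2.1 (mul_mem v.2.1 v'.2.1) ?_
    rw [← e'', Subgroup.coe_mul, Subgroup.coe_mul, Subgroup.coe_mul, e, e']
    group)

theorem proj_V (x : T.L) (hx : (x : G) ∈ T.V) (hxa : x • T.a = T.a) :
    T.proj ⟨x, hxa⟩ = Abelianization.of ⟨(x : G), hx, x.2⟩ := by
  obtain ⟨q, hq, j, hj, e⟩ := (T.exists_v_component ⟨x, hxa⟩).choose_spec
  show Abelianization.of (T.exists_v_component ⟨x, hxa⟩).choose = _
  refine congrArg _ (Subtype.ext ?_)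
  exact T.v_component_unique hq (one_mem _) hj (one_mem _)
    (T.exists_v_component ⟨x, hxa⟩).choose.2.1 hx (by rw [← e]; simp)

/-- Fusion of `l`-elements of `V ⊓ L` in `L` is invisible in the projection. -/
theorem proj_conj {x g : T.L} {l e : ℕ} (hl : l.Prime) (hlV : l ∣ Nat.card T.V)
    (hxe : x ^ l ^ e = 1) (hx : (x : G) ∈ T.V) (hy : (g * x * g⁻¹) • T.a = T.a)
    (hxa : x • T.a = T.a) : T.proj ⟨g * x * g⁻¹, hy⟩ = T.proj ⟨x, hxa⟩ := by
  have hxe' : (x : G) ^ l ^ e = 1 := by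
    have := congrArg Subtype.val hxe
    simpa using this
  obtain ⟨k, hkL, hka, hkV⟩ := T.exists_stab_conj_V
    (y := (g : G) * x * (g : G)⁻¹) hy hl hlV
    (by rw [conj_pow, hxe', mul_one, mul_inv_cancel])
  obtain ⟨g', hg'⟩ : ∃ g' : T.L, g' = ⟨k, hkL⟩ * g := ⟨_, rfl⟩
  have hg'V : ((g' * x * g'⁻¹ : T.L) : G) ∈ T.V := by
    rw [hg']
    simpa [mul_assoc] using hkV
  have hxb := (T.V_fix _ hx).2
  have hfix := T.V_fix _ hg'V
  -- fixed points of `x` sent to `a` and `b`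
  have hfy : ∀ y : Ω, ((g' * x * g'⁻¹ : T.L) : G) • y = y → (x : G) • (g' : G)⁻¹ • y = (g' : G)⁻¹ • y := by
    intro y hy'
    refine smul_left_cancel (g' : G) ?_
    rw [smul_inv_smul, smul_smul, smul_smul]
    simpa [mul_assoc] using hy'
  obtain ⟨c, hcL, hcx, hca, hcb⟩ := T.cent_two hl hlV hxe' hxa hxb
    (y := (g' : G)⁻¹ • T.a) (z := (g' : G)⁻¹ • T.b)
    (fun h => T.hab (smul_left_cancel _ h)) (hfy _ hfix.1) (hfy _ hfix.2)
  set d : T.L := g' * ⟨c, hcL⟩ with hd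
  have hda : d • T.a = T.a := by
    show ((g' : G) * c) • T.a = T.a
    rw [mul_smul, hca, smul_inv_smul]
  have hdx : d * x * d⁻¹ = g' * x * g'⁻¹ := by
    apply Subtype.ext
    show (g' : G) * c * x * ((g' : G) * c)⁻¹ = (g' : G) * x * (g' : G)⁻¹
    rw [mul_assoc (g' : G) c, hcx]
    group
  have hka' : (⟨k, hkL⟩ : T.L) • T.a = T.a := hka
  have e1 : (⟨d * x * d⁻¹, by rw [hdx]; exact hfix.1⟩ : MulAction.stabilizer T.L T.a) =
      ⟨d, hda⟩ * ⟨x, hxa⟩ * ⟨d, hda⟩⁻¹ := Subtype.ext rfl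
  have e2 : (⟨g' * x * g'⁻¹, hfix.1⟩ : MulAction.stabilizer T.L T.a) =
      ⟨⟨k, hkL⟩, hka'⟩ * ⟨g * x * g⁻¹, hy⟩ * ⟨⟨k, hkL⟩, hka'⟩⁻¹ := by
    apply Subtype.ext
    show g' * x * g'⁻¹ = (⟨k, hkL⟩ : T.L) * (g * x * g⁻¹) * (⟨k, hkL⟩ : T.L)⁻¹
    rw [hg']; group
  have p1 := congrArg T.proj e1
  have p2 := congrArg T.proj e2
  simp only [map_mul, map_inv, mul_inv_cancel_comm] at p1 p2
  rw [← p2, ← p1]
  exact congrArg T.proj (Subtype.ext hdx.symm)

/-- **Transfer.** -/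
theorem V_inf_L_eq_bot [Finite Ω]
    (hfix : ∀ v ∈ T.V ⊓ T.L, ∀ l : ℕ, l.Prime → orderOf v = l →
      ¬ l ∣ Nat.card {x : Ω // v • x = x}) : T.V ⊓ T.L = ⊥ := by
  classical
  by_contra hne
  haveI : Nontrivial ↥(T.V ⊓ T.L) := (Subgroup.nontrivial_iff_ne_bot _).2 hne
  haveI : Group.IsSolvable ↥(T.V ⊓ T.L) :=
    FT.isSolvable_of_odd _ (T.V_odd.of_dvd_nat (card_dvd_of_le inf_le_left))
  haveI : Nontrivial (Abelianization ↥(T.V ⊓ T.L)) := QuotientGroup.nontrivial_iff.2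
    (Group.IsSolvable.commutator_lt_top_of_nontrivial _).ne
  obtain ⟨l, hl, hla⟩ := Nat.exists_prime_and_dvd
    (show Nat.card (Abelianization ↥(T.V ⊓ T.L)) ≠ 1 from (Finite.one_lt_card).ne')
  haveI := Fact.mk hl
  obtain ⟨a₀, ha₀⟩ := exists_prime_orderOf_dvd_card' l hla
  obtain ⟨v₀, hv₀⟩ := QuotientGroup.mk_surjective a₀
  set n₀ := orderOf v₀ with hn₀
  set m := n₀ / l ^ n₀.factorization l with hm
  set x := v₀ ^ m with hx
  have hxe : x ^ l ^ n₀.factorization l = 1 := by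
    rw [hx, ← pow_mul, hm, Nat.div_mul_cancel (Nat.ordProj_dvd _ _), pow_orderOf_eq_one]
  have hximg : Abelianization.of x = a₀ ^ m := by
    rw [hx, map_pow]; exact congrArg (· ^ m) hv₀
  have hlm : ¬ l ∣ m := Nat.not_dvd_ordCompl hl (orderOf_pos v₀).ne'
  have hximg1 : Abelianization.of x ≠ 1 := by
    rw [hximg]
    exact fun h => hlm (ha₀ ▸ orderOf_dvd_of_pow_eq_one h)
  obtain ⟨e, -, he⟩ := (Nat.dvd_prime_pow hl).1 (orderOf_dvd_of_pow_eq_one hxe)
  have he0 : e ≠ 0 := by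
    rintro rfl
    rw [pow_zero, orderOf_eq_one_iff] at he
    exact hximg1 (by rw [he, map_one])
  have hlx : l ∣ orderOf x := he ▸ dvd_pow_self l he0
  have hlV : l ∣ Nat.card T.V :=
    (hlx.trans (orderOf_dvd_natCard x)).trans (card_dvd_of_le inf_le_left)
  -- an element of order `l`
  set v := x ^ (orderOf x / l) with hvdef
  have hvo : orderOf (v : G) = l := by
    rw [Subgroup.orderOf_coe, hvdef, orderOf_pow_of_dvd
      (Nat.div_pos (Nat.le_of_dvd (orderOf_pos x) hlx) hl.pos).ne' (Nat.div_dvd_of_dvd hlx),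
      Nat.div_div_self hlx (orderOf_pos x).ne']
  have hmod : Nat.card Ω ≡ Nat.card {y : Ω // (v : G) • y = y} [MOD l] := by
    have hp : IsPGroup l (zpowers (v : G)) :=
      IsPGroup.of_card (n := 1) (by rw [Nat.card_zpowers, hvo, pow_one])
    rw [show Nat.card {y : Ω // (v : G) • y = y} =
      Nat.card (MulAction.fixedPoints (zpowers (v : G)) Ω) from
      Nat.card_congr (Equiv.subtypeEquivRight fun y => ?_)]
    · exact hp.card_modEq_card_fixedPoints Ω
    constructor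
    · rintro h ⟨g, hg⟩
      exact (zpowers_le.2 (show (v : G) ∈ MulAction.stabilizer G y from h)) hg
    · exact fun h => h ⟨(v : G), mem_zpowers _⟩
  have hln : ¬ l ∣ Nat.card Ω := fun h => hfix v v.2 l hl hvo (by
    rw [← Nat.modEq_zero_iff_dvd]
    exact hmod.symm.trans (Nat.modEq_zero_iff_dvd.2 h))
  -- transfer
  set xL : T.L := ⟨(x : G), x.2.2⟩ with hxL
  have hxa : xL • T.a = T.a := (T.V_fix (x : G) x.2.1).1
  haveI : MulAction.IsPretransitive T.L Ω := ⟨fun y z => by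
    by_cases h : y = z
    · exact ⟨1, by rw [one_smul, h]⟩
    · obtain ⟨g, hg, h1, -⟩ := T.L_two (x' := z) (y' := y) h (Ne.symm h)
      exact ⟨⟨g, hg⟩, h1⟩⟩
  set H := MulAction.stabilizer T.L T.a with hH
  have hidx : H.index = Nat.card Ω := MulAction.index_stabilizer_of_transitive T.L T.a
  set f := MonoidHom.transfer T.proj with hf
  have hfinv : ∀ t : T.L, orderOf (t : G) = 2 → f t = 1 := by
    intro t ht
    have h1 : t * t = 1 := Subtype.ext (Invol.invol_mul_self ht)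
    exact Invol.eq_one_of_odd_of_mul_self
      (Odd.of_dvd_nat (T.V_odd.of_dvd_nat ((Subgroup.card_quotient_dvd_card _).trans
        (card_dvd_of_le inf_le_left))) (orderOf_dvd_natCard (f t)))
      (by rw [← map_mul, h1, map_one])
  have htriv : f xL = 1 := by
    have hle : T.L ≤ (f.ker.map T.L.subtype) := by
      refine (Subgroup.closure_le _).2 fun t ht => ?_
      exact ⟨⟨t, T.invol_mem_L ht⟩, MonoidHom.mem_ker.2 (hfinv _ ht), rfl⟩
    obtain ⟨y, hy, hye⟩ := hle xL.2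
    rw [← Subtype.ext (show (y : G) = xL from hye)]
    exact hy
  haveI := Fintype.ofFinite (Quotient (MulAction.orbitRel (zpowers xL) (T.L ⧸ H)))
  rw [hf, MonoidHom.transfer_eq_prod_quotient_orbitRel_zpowers_quot] at htriv
  have hxpow : ∀ k : ℕ, (xL ^ k) • T.a = T.a := fun k =>
    MulAction.mem_stabilizer_iff.1 (pow_mem (show xL ∈ MulAction.stabilizer T.L T.a from hxa) k)
  have hxeL : ∀ k : ℕ, (xL ^ k) ^ l ^ n₀.factorization l = 1 := by
    intro k
    apply Subtype.ext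
    show ((x : G) ^ k) ^ l ^ n₀.factorization l = 1
    rw [← pow_mul, mul_comm, pow_mul]
    have : ((x : G)) ^ l ^ n₀.factorization l = 1 := congrArg Subtype.val hxe
    rw [this, one_pow]
  have hterm : ∀ (k : ℕ) (g₀ : T.L) (hmem : g₀⁻¹ * xL ^ k * g₀ ∈ H),
      T.proj ⟨g₀⁻¹ * xL ^ k * g₀, hmem⟩ = Abelianization.of x ^ k := by
    intro k g₀ hmem
    have hy : (g₀⁻¹ * xL ^ k * g₀⁻¹⁻¹) • T.a = T.a := by rw [inv_inv]; exact hmem
    have hV : ((xL ^ k : T.L) : G) ∈ T.V := pow_mem x.2.1 k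
    have h := T.proj_conj (g := g₀⁻¹) hl hlV (hxeL k) hV hy (hxpow k)
    simp only [inv_inv] at h
    rw [h, T.proj_V _ hV, ← map_pow]
    rfl
  simp only [hterm, Finset.prod_pow_eq_pow_sum] at htriv
  rw [← Subgroup.index_eq_sum_minimalPeriod H xL, hidx] at htriv
  have h2 := orderOf_dvd_of_pow_eq_one htriv
  have h3 : l ∣ orderOf (Abelianization.of x) := by
    obtain ⟨j, -, hj⟩ := (Nat.dvd_prime_pow hl).1
      (he ▸ (orderOf_map_dvd Abelianization.of x))
    rcases j with _ | j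
    · rw [pow_zero, orderOf_eq_one_iff] at hj
      exact absurd hj hximg1
    · rw [hj]; exact dvd_pow_self l (Nat.succ_ne_zero j)
  exact hln (h3.trans h2)

end Setup

end CfsgLib.EqConj
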