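import Cfsg.Agent.Lib.Invol.EqualOrderConj.Pairs
import Cfsg.Agent.Lib.EqualOrder.Linear
import Cfsg.Agent.Lib.Coprime.Fitting
import Cfsg.Agent.Lib.Coprime.Component
import Cfsg.Agent.Lib.Coprime.UniqueOrderP

/-!
# The Fitting subgroup of `O(N(S))`

With `P` the subgroup of order `p` attached to two points, `P` acts without fixed points on the
abelian group `F(O(N(S)))`, and `O(N(S)) = F(O(N(S))) C(P)`.
-/

set_option autoImplicit false
set_option linter.unusedSectionVars false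
set_option linter.style.haveILetI false

namespace CfsgLib.EqConj

open Subgroup

universe u

namespace Ctx

variable {G : Type u} [Group G] [Finite G] (C : Ctx G)

/-- The odd core of `N(S)`. -/
abbrev W : Subgroup G := oddPart C.S

theorem W_solvable : Group.IsSolvable C.W := FT.isSolvable_of_odd _ (oddPart_odd C.S)

theorem W_fix {w : G} (hw : w ∈ C.W) : w • C.x₀ = C.x₀ := C.stab_x₀.2 (oddPart_le C.S hw)

/-- The Fitting subgroup of `O(N(S))`. -/
def F : Subgroup G := (Cfsg.fittingSubgroup C.W).map C.W.subtype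

theorem F_le : C.F ≤ C.W := map_subtype_le _

theorem F_conj {n f : G} (hn : n ∈ C.N) (hf : f ∈ C.F) : n * f * n⁻¹ ∈ C.F := by
  obtain ⟨x, hx, rfl⟩ := hf
  let e : C.W ≃* C.W :=
    { toFun := fun w => ⟨n * w * n⁻¹, oddPart_conj C.S hn w.2⟩
      invFun := fun w => ⟨n⁻¹ * w * n, by
        have := oddPart_conj C.S (inv_mem hn) w.2
        rwa [inv_inv] at this⟩
      left_inv := fun w => Subtype.ext (show n⁻¹ * (n * w * n⁻¹) * n = w by group)
      right_inv := fun w => Subtype.ext (show n * (n⁻¹ * w * n) * n⁻¹ = w by group)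
      map_mul' := fun v w => Subtype.ext
        (show n * ((v : G) * w) * n⁻¹ = n * v * n⁻¹ * (n * w * n⁻¹) by group) }
  refine ⟨e x, ?_, rfl⟩
  rw [← Coprime.map_fitting_equiv e]
  exact ⟨x, hx, rfl⟩

theorem commute_of_mem_pCore {q : ℕ} (hq : q.Prime) (hq2 : q ≠ 2) {x y : C.W}
    (hx : x ∈ Cfsg.pCore q C.W) (hy : y ∈ Cfsg.pCore q C.W) : (x : G) * y = y * x := by
  haveI := Fact.mk hq
  obtain ⟨P, hP⟩ := ((Coprime.pCore_isPGroup (G := C.W) q).map C.W.subtype).exists_le_sylow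
  have hxP := hP ⟨x, hx, rfl⟩
  have hyP := hP ⟨y, hy, rfl⟩
  have hc : IsMulCommutative (P : Subgroup G) := by
    rcases C.hG.sylow_cases P with h | h | ⟨⟨e⟩⟩
    · exact IsCyclic.isMulCommutative
    · exact h.1
    · exfalso
      obtain ⟨k, hk⟩ := P.2.exists_card_eq
      rw [Nat.card_congr e.toEquiv, Nat.card_eq_fintype_card, QuaternionGroup.card] at hk
      have h8 : q ∣ 2 ^ 3 := by
        rcases Nat.eq_zero_or_pos k with h | h
        · rw [h] at hk; norm_num at hk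
        · norm_num; rw [show (8 : ℕ) = 4 * 2 by norm_num, hk]; exact dvd_pow_self q h.ne'
      exact hq2 ((Nat.prime_dvd_prime_iff_eq hq Nat.prime_two).1 (hq.dvd_of_dvd_pow h8))
  exact congrArg Subtype.val (hc.is_comm.comm (⟨_, hxP⟩ : (P : Subgroup G)) ⟨_, hyP⟩)

theorem pCore_two : Cfsg.pCore 2 C.W = ⊥ := by
  haveI := Fact.mk Nat.prime_two
  obtain ⟨k, hk⟩ := (Coprime.pCore_isPGroup (G := C.W) 2).exists_card_eq
  refine Subgroup.card_eq_one.1 ?_
  rcases Nat.eq_zero_or_pos k with h | h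
  · rw [hk, h, pow_zero]
  · exact absurd ((oddPart_odd C.S).of_dvd_nat (card_subgroup_dvd_card (Cfsg.pCore 2 C.W)))
      (Nat.not_odd_iff_even.2 (hk ▸ Nat.even_pow.2 ⟨even_two, h.ne'⟩))

theorem F_comm {x y : G} (hx : x ∈ C.F) (hy : y ∈ C.F) : x * y = y * x := by
  obtain ⟨x, hx, rfl⟩ := hx
  obtain ⟨y, hy, rfl⟩ := hy
  suffices h : Cfsg.fittingSubgroup C.W ≤ centralizer (Cfsg.fittingSubgroup C.W : Set C.W) from
    congrArg Subtype.val (mem_centralizer_iff.1 (h hy) x hx)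
  rw [Coprime.fitting_eq_iSup_pCore]
  refine iSup_le fun q => ?_
  have key : ∀ q' : Nat.Primes, ∀ a ∈ Cfsg.pCore (q' : ℕ) C.W, ∀ b ∈ Cfsg.pCore (q : ℕ) C.W,
      b * a = a * b := by
    intro q' a ha b hb
    haveI := Fact.mk q.2
    haveI := Fact.mk q'.2
    by_cases hqq : (q' : ℕ) = q
    · by_cases h2 : (q : ℕ) = 2
      · rw [h2, C.pCore_two, Subgroup.mem_bot] at hb
        rw [hb, mul_one, one_mul]
      · exact Subtype.ext (C.commute_of_mem_pCore q.2 h2 hb (hqq ▸ ha))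
    · haveI := Coprime.pCore_normal' (G := C.W) (q : ℕ)
      haveI := Coprime.pCore_normal' (G := C.W) (q' : ℕ)
      exact Subgroup.commute_of_normal_of_disjoint _ _ inferInstance inferInstance
        (IsPGroup.disjoint_of_ne _ _ (Ne.symm hqq) _ _ (Coprime.pCore_isPGroup _)
          (Coprime.pCore_isPGroup _)) b a hb ha
  have h2 : ∀ b ∈ Cfsg.pCore (q : ℕ) C.W,
      (⨆ q' : Nat.Primes, Cfsg.pCore (q' : ℕ) C.W) ≤ centralizer ({b} : Set C.W) := fun b hb =>
    iSup_le fun q' a ha => mem_centralizer_singleton_iff.2 (key q' a ha b hb).symm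
  intro b hb
  exact mem_centralizer_iff.2 fun a ha => mem_centralizer_singleton_iff.1 (h2 b hb ha)

theorem mem_F_of_centralizes {x : G} (hx : x ∈ C.W) (h : ∀ f ∈ C.F, x * f = f * x) : x ∈ C.F := by
  haveI := C.W_solvable
  refine ⟨⟨x, hx⟩, Coprime.centralizer_fitting_le (mem_centralizer_iff.2 fun f hf => ?_), rfl⟩
  exact Subtype.ext (h _ ⟨f, hf, rfl⟩).symm

/-- The elements of `F` killed by `q`. -/
def M (q : ℕ) : Subgroup G where
  carrier := {x | x ∈ C.F ∧ x ^ q = 1}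
  one_mem' := ⟨one_mem _, one_pow _⟩
  mul_mem' := fun {a b} ha hb => ⟨mul_mem ha.1 hb.1, by
    rw [(show Commute a b from C.F_comm ha.1 hb.1).mul_pow, ha.2, hb.2, one_mul]⟩
  inv_mem' := fun {a} ha => ⟨inv_mem ha.1, by rw [inv_pow, ha.2, inv_one]⟩

theorem M_conj {q : ℕ} {n x : G} (hn : n ∈ C.N) (hx : x ∈ C.M q) : n * x * n⁻¹ ∈ C.M q :=
  ⟨C.F_conj hn hx.1, by rw [conj_pow, hx.2, mul_one, mul_inv_cancel]⟩

theorem W_S_commute {w : G} (hw : w ∈ C.W) {s : G} (hs : s ∈ (C.S : Subgroup G)) : s * w = w * s :=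
  (oddPart_commute C.S hw hs).symm

/-- All elements of order `q` of `O(N(S))` lie in `M q`. -/
theorem mem_M {q : ℕ} (hq : q.Prime) (hqF : q ∣ Nat.card C.F) {x : G} (hx : x ∈ C.W)
    (hxq : x ^ q = 1) : x ∈ C.M q := by
  haveI := Fact.mk hq
  by_cases hx1 : x = 1
  · rw [hx1]; exact one_mem _
  obtain ⟨⟨m, hm⟩, hmo⟩ := exists_prime_orderOf_dvd_card' q hqF
  rw [← Subgroup.orderOf_coe] at hmo
  have hmM : m ∈ C.M q := ⟨hm, hmo ▸ pow_orderOf_eq_one m⟩
  obtain ⟨g, hg⟩ := C.hG (zpowers m) (zpowers x)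
    (by rw [Nat.card_zpowers, Nat.card_zpowers, orderOf_eq_prime hxq hx1]; exact hmo)
  obtain ⟨n, hn, hnx⟩ := exists_normalizer_conj C.S
    (fun a ha s hs => C.W_S_commute (zpowers_le.2 (C.F_le hm) ha) hs)
    (fun a ha s hs => C.W_S_commute (zpowers_le.2 hx ha) hs) hg
  have hxm : x ∈ (zpowers m).map (MulAut.conj n).toMonoidHom := hnx ▸ mem_zpowers x
  obtain ⟨a, ha, rfl⟩ := hxm
  exact C.M_conj hn (zpowers_le.2 hmM ha)

theorem M_ne_bot {q : ℕ} (hq : q.Prime) (hqF : q ∣ Nat.card C.F) : C.M q ≠ ⊥ := by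
  haveI := Fact.mk hq
  obtain ⟨⟨m, hm⟩, hmo⟩ := exists_prime_orderOf_dvd_card' q hqF
  rw [← Subgroup.orderOf_coe] at hmo
  intro h
  have hmM : m ∈ C.M q := ⟨hm, hmo ▸ pow_orderOf_eq_one m⟩
  rw [h, Subgroup.mem_bot] at hmM
  exact hq.ne_one (hmo.symm.trans (orderOf_eq_one_iff.2 hmM))

theorem M_pGroup {q : ℕ} : IsPGroup q (C.M q) := fun x =>
  ⟨1, Subtype.ext (by rw [pow_one, Subgroup.coe_pow]; exact x.2.2)⟩

theorem prime_ne_two {q : ℕ} (hqF : q ∣ Nat.card C.F) : q ≠ 2 := by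
  rintro rfl
  exact Nat.not_even_iff_odd.2 ((oddPart_odd C.S).of_dvd_nat (card_dvd_of_le C.F_le))
    (even_iff_two_dvd.2 hqF)

theorem p_not_dvd_W : ¬ C.p ∣ Nat.card C.W := fun h => C.p_not_dvd (h.trans (dvd_mul_right _ _))

theorem disjoint_W_card_p {P : Subgroup G} (hP : Nat.card P = C.p) {x : G} (hxP : x ∈ P)
    (hxW : x ∈ C.W) : x = 1 := by
  rcases (Nat.dvd_prime C.p_prime).1 (hP ▸ Subgroup.orderOf_dvd_natCard P hxP) with h | h
  · exact orderOf_eq_one_iff.1 h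
  · exact absurd (h ▸ Subgroup.orderOf_dvd_natCard C.W hxW) C.p_not_dvd_W

theorem commute_of_W_normalizes {P : Subgroup G} (hP : Nat.card P = C.p)
    (hPN : ∀ j ∈ P, j ∈ C.N) {w : G} (hw : w ∈ C.W) (hn : ∀ j ∈ P, w * j * w⁻¹ ∈ P) {j : G}
    (hj : j ∈ P) : w * j = j * w := by
  have h1 : w * j * w⁻¹ * j⁻¹ ∈ P := mul_mem (hn j hj) (inv_mem hj)
  have h2 : w * j * w⁻¹ * j⁻¹ ∈ C.W := by
    rw [show w * j * w⁻¹ * j⁻¹ = w * (j * w⁻¹ * j⁻¹) by group]
    exact mul_mem hw (oddPart_conj C.S (hPN j hj) (inv_mem hw))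
  exact mul_inv_eq_iff_eq_mul.1 (mul_inv_eq_one.1 (C.disjoint_W_card_p hP h1 h2))

/-- An element of `O(N(S))` fixing `y` commutes with the involutions interchanging the base point
and `y`. -/
theorem W_commute_swapper {y : C.X} (hy : C.x₀ ≠ y) {w : G} (hw : w ∈ C.W) (hwy : w • y = y)
    {t : G} (ht : orderOf t = 2) (htx : t • C.x₀ = y) : t * w = w * t := by
  obtain ⟨P, hP, hfix, hn, hinv, hdec⟩ := C.exists_pair hy
  have hwx := C.W_fix hw
  have hty := C.smul_back ht htx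
  have hti := Invol.invol_inv ht
  have hPN : ∀ j ∈ P, j ∈ C.N := fun j hj => C.stab_x₀.1 (hfix j hj).1
  have hwc : ∀ j ∈ P, w * j = j * w := fun j hj =>
    C.commute_of_W_normalizes hP hPN hw (fun j hj => hn w hwx hwy j hj) hj
  set z := w⁻¹ * (t * w * t⁻¹) with hz
  have hzx : z • C.x₀ = C.x₀ := by
    rw [hz, hti, mul_smul, mul_smul, mul_smul, htx, hwy, hty, inv_smul_eq_iff, hwx]
  have hzy : z • y = y := by
    rw [hz, hti, mul_smul, mul_smul, mul_smul, hty, hwx, htx, inv_smul_eq_iff, hwy]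
  have hzinv : t * z * t⁻¹ = z⁻¹ := conj_commutator_invol (Invol.invol_mul_self ht)
  have hzc : ∀ j ∈ P, z * j = j * z := by
    intro j hj
    have h1 : t * w * t⁻¹ * j = j * (t * w * t⁻¹) := by
      have e : t * j⁻¹ * t⁻¹ = j := by rw [hinv t ht htx _ (inv_mem hj), inv_inv]
      nth_rewrite 1 [← e]
      nth_rewrite 2 [← e]
      calc t * w * t⁻¹ * (t * j⁻¹ * t⁻¹) = t * (w * j⁻¹) * t⁻¹ := by group
        _ = t * (j⁻¹ * w) * t⁻¹ := by rw [hwc _ (inv_mem hj)]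
        _ = t * j⁻¹ * t⁻¹ * (t * w * t⁻¹) := by group
    rw [hz]
    exact ((show Commute w j from hwc j hj).inv_left.mul_left h1).eq
  obtain ⟨j, hj, c, hcx, hcy, hct, hzj⟩ := hdec t ht htx z hzx hzy
  have hcj : Commute c j := by
    have : c = z * j⁻¹ := by rw [hzj, mul_inv_cancel_right]
    rw [this]
    exact (show Commute z j from hzc j hj).mul_left (Commute.refl j).inv_left
  have hcc : c * c = 1 := by
    rw [hzj, show t * (c * j) * t⁻¹ = (t * c * t⁻¹) * (t * j * t⁻¹) by group, hinv t ht htx j hj,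
      hct, mul_inv_cancel_right, mul_inv_rev, hcj.inv_inv.symm.eq] at hzinv
    have h1 : c = c⁻¹ := mul_right_cancel hzinv
    nth_rewrite 2 [h1]
    exact mul_inv_cancel c
  have hc1 : c = 1 := Invol.eq_one_of_odd_of_mul_self
    ((C.pair_odd hy).of_dvd_nat (Subgroup.orderOf_dvd_natCard _
      (show c ∈ MulAction.stabilizer G C.x₀ ⊓ MulAction.stabilizer G y from ⟨hcx, hcy⟩))) hcc
  have hzP : z ∈ P := by rw [hzj, hc1, one_mul]; exact hj
  have hz1 : z = 1 := by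
    have h1 : (t * w * t⁻¹) ^ Nat.card C.W = 1 := by
      rw [conj_pow, show w ^ Nat.card C.W = 1 from
        orderOf_dvd_iff_pow_eq_one.1 (Subgroup.orderOf_dvd_natCard _ hw), mul_one, mul_inv_cancel]
    rw [show t * w * t⁻¹ = w * z by rw [hz, mul_inv_cancel_left],
      (show Commute w z from hwc z hzP).mul_pow, show w ^ Nat.card C.W = 1 from
        orderOf_dvd_iff_pow_eq_one.1 (Subgroup.orderOf_dvd_natCard _ hw), one_mul] at h1
    rcases (Nat.dvd_prime C.p_prime).1 (hP ▸ Subgroup.orderOf_dvd_natCard P hzP) with h | h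
    · exact orderOf_eq_one_iff.1 h
    · exact absurd (h ▸ orderOf_dvd_of_pow_eq_one h1) C.p_not_dvd_W
  rw [hz, inv_mul_eq_one] at hz1
  exact mul_inv_eq_iff_eq_mul.1 hz1.symm

/-- An element of `O(N(S))` commuting with the subgroup of a pair fixes the pair. -/
theorem fix_of_commute {y : C.X} (hy : C.x₀ ≠ y) {P : Subgroup G} (hP : Nat.card P = C.p)
    (hfix : ∀ j ∈ P, j • C.x₀ = C.x₀ ∧ j • y = y) {w : G} (hw : w ∈ C.W)
    (hc : ∀ j ∈ P, w * j = j * w) : w • y = y := by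
  have hwx := C.W_fix hw
  rcases C.fix_eq hy hP hfix (z := w • y)
    (fun j hj => by rw [smul_smul, ← hc j hj, mul_smul, (hfix j hj).2]) with h | h
  · exact absurd (smul_left_cancel w (hwx.trans h.symm)) hy
  · exact h

/-- `P` does not centralise `M q`. -/
theorem M_not_le_cent {q : ℕ} (hq : q.Prime) (hqF : q ∣ Nat.card C.F) {y : C.X} (hy : C.x₀ ≠ y)
    {P : Subgroup G} (hP : Nat.card P = C.p) (hfix : ∀ j ∈ P, j • C.x₀ = C.x₀ ∧ j • y = y) :
    ¬ ∀ m ∈ C.M q, ∀ j ∈ P, m * j = j * m := by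
  intro hall
  obtain ⟨t, ht, htx, -⟩ := C.exists_swapper hy
  have hMt : ∀ m ∈ C.M q, t * m * t⁻¹ = m := fun m hm => mul_inv_eq_iff_eq_mul.2
    (C.W_commute_swapper hy (C.F_le hm.1) (C.fix_of_commute hy hP hfix (C.F_le hm.1) (hall m hm))
      ht htx)
  have hn : (C.M q).Normal := by
    refine ⟨fun m hm g => ?_⟩
    by_cases hg : g ∈ C.N
    · exact C.M_conj hg hm
    have hgx : g • C.x₀ ≠ C.x₀ := fun e => hg (C.stab_x₀.1 e)
    obtain ⟨P', hP', hfix', -, -, -⟩ := C.exists_pair (Ne.symm hgx)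
    obtain ⟨h, hhx, hh⟩ := C.exists_stab_conj hP hP' (fun j hj => (hfix j hj).1)
      (fun j hj => (hfix' j hj).1)
    have hhy : h • y = g • C.x₀ := by
      rcases C.fix_eq (Ne.symm hgx) hP' hfix' (z := h • y) (fun j hj => by
        rw [hh] at hj
        obtain ⟨j0, hj0, rfl⟩ := hj
        show (h * j0 * h⁻¹) • h • y = h • y
        rw [mul_smul, inv_smul_smul, mul_smul, (hfix j0 hj0).2]) with e | e
      · exact absurd (smul_left_cancel h (hhx.trans e.symm)) hy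
      · exact e
    have hn' : (h * t)⁻¹ * g ∈ C.N := C.stab_x₀.1 (by
      rw [mul_smul, inv_smul_eq_iff, mul_smul, htx, hhy])
    set n := (h * t)⁻¹ * g with hndef
    rw [show g = h * t * n by rw [hndef, mul_inv_cancel_left],
      show h * t * n * m * (h * t * n)⁻¹ = h * (t * (n * m * n⁻¹) * t⁻¹) * h⁻¹ by group,
      hMt _ (C.M_conj hn' hm)]
    exact C.M_conj (C.stab_x₀.1 hhx) (C.M_conj hn' hm)
  have hle : C.M q ≤ Cfsg.oddCore G := by
    haveI := hn
    refine Coprime.le_pPrimeCore_of_not_dvd Nat.prime_two fun h2 => ?_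
    exact Nat.not_even_iff_odd.2 (oddPart_odd C.S)
      (even_iff_two_dvd.2 (h2.trans (card_dvd_of_le (fun m hm => C.F_le hm.1))))
  rw [C.hO, le_bot_iff] at hle
  exact C.M_ne_bot hq hqF hle

end Ctx

end CfsgLib.EqConj
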