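import Cfsg.Agent.Lib.Invol.EqualOrderConj.Build
import Cfsg.Agent.Lib.Invol.EqualOrderConj.ClassMain
import Cfsg.Agent.Lib.CIT.PslModel
import Cfsg.Agent.S0813

/-!
# Non-normal elementary Sylow 2-subgroup of order 8 or 32
-/

set_option autoImplicit false
set_option linter.unusedSectionVars false
set_option linter.style.haveILetI false

namespace CfsgLib.EqConj

open Subgroup

universe u

namespace Ctx

variable {G : Type u} [Group G] [Finite G] (C : Ctx G)

theorem W_eq_bot (T : Setup G C.X C.r C.p) (hQ : T.Q = C.SF) : Nat.card (oddPart C.S) = 1 := by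
  have hV := Setup.conclusion G C.X T
  have h := T.card_Q_eq hV
  rw [hQ, C.card_SF] at h
  have hF : C.F = ⊥ := Subgroup.card_eq_one.1
    (Nat.eq_of_mul_eq_mul_left (by positivity) (h.trans (mul_one _).symm))
  refine Subgroup.card_eq_one.2 ((eq_bot_iff_forall _).2 fun x hx => ?_)
  have := C.mem_F_of_centralizes hx fun f hf => by
    rw [hF, Subgroup.mem_bot] at hf
    simp [hf]
  rwa [hF, Subgroup.mem_bot] at this

/-- An element centralising all involutions is trivial. -/
theorem eq_one_of_centralizes (T : Setup G C.X C.r C.p) {g : G}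
    (h : ∀ t : G, orderOf t = 2 → g * t = t * g) : g = 1 := by
  refine T.faithful g fun x => ?_
  obtain ⟨h', hh⟩ := T.exists_map_a x
  obtain ⟨s, hs, hs1⟩ := T.exists_S_ne_one
  have ht : orderOf (h'⁻¹ * s * h') = 2 := by
    have := Invol.invol_conj (T.S_invol hs hs1) h'⁻¹
    rwa [inv_inv] at this
  have hx : (h'⁻¹ * s * h') • x = x := by
    rw [mul_smul, hh, mul_smul, T.Q_fix s (T.S_le hs), inv_smul_eq_iff, hh]
  exact T.invol_fix_unique ht (by rw [smul_smul, ← h _ ht, mul_smul, hx]) hx

theorem result :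
    (C.r = 3 ∧ Nonempty (G ≃* Matrix.ProjectiveSpecialLinearGroup (Fin 2) (GaloisField 2 3))) ∨
      (C.r = 5 ∧
        Nonempty (G ≃* MulAut (Matrix.ProjectiveSpecialLinearGroup (Fin 2) (GaloisField 2 5)))) := by
  classical
  obtain ⟨T, hQ, -⟩ := C.exists_setup
  have hV := Setup.conclusion G C.X T
  have hW := C.W_eq_bot T hQ
  have hr0 : C.r ≠ 0 := by have := C.three_le; omega
  obtain ⟨K, iK, iKf, hK, ⟨e⟩⟩ := T.nonempty_psl hV
  haveI := charP_two_of_card hr0 hK
  have hX : Nat.card C.X = 2 ^ C.r + 1 := by rw [← T.card_Q_add_one, T.card_Q_eq hV]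
  have hG : Nat.card G = (2 ^ C.r + 1) * (2 ^ C.r * (C.p * C.eps)) := by
    rw [← C.N.card_mul_index, C.Ncard, hW, one_mul, show C.N.index = Nat.card C.X from rfl, hX,
      mul_comm]
  have hKeven : 2 ∣ Fintype.card K := by rw [hK]; exact dvd_pow_self 2 hr0
  have hgcd : Nat.gcd 2 (Fintype.card K - 1) = 1 :=
    (Nat.Prime.coprime_iff_not_dvd Nat.prime_two).2 (by have := Fintype.one_lt_card (α := K); omega)
  have hL := Classical.card_psl2 (F := K)
  rw [hgcd, one_mul, ← Nat.card_congr e.toEquiv, hK] at hL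
  have hp : 2 ^ C.r - 1 = C.p := by have := C.p_eq; omega
  rw [hp] at hL
  haveI : Fact (Nat.Prime 2) := ⟨Nat.prime_two⟩
  rcases C.hr with hr | hr
  · left
    refine ⟨hr, ?_⟩
    rcases C.heps with he | he
    · have hcard : Nat.card T.L = Nat.card G := by rw [hL, hG, he]; ring
      have htop : T.L = ⊤ := eq_top_of_card_eq _ hcard
      haveI : Fintype (GaloisField 2 3) := Fintype.ofFinite _
      obtain ⟨f⟩ := CIT.psl_congr (FiniteField.ringEquivOfCardEq (K := K) (K' := GaloisField 2 3)
        (by rw [hK, hr, ← Nat.card_eq_fintype_card, GaloisField.card 2 3 (by norm_num)]))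
      exact ⟨(topEquiv.symm.trans (MulEquiv.subgroupCongr htop.symm)).trans (e.trans f)⟩
    · exfalso
      haveI := Fact.mk Nat.prime_three
      obtain ⟨x, hxc, hxo⟩ : ∃ x : G, x ∈ centralizer ({T.w} : Set G) ∧ orderOf x = 3 := by
        obtain ⟨⟨x, hx⟩, hxo⟩ := exists_prime_orderOf_dvd_card'
          (G := centralizer ({T.w} : Set G)) 3 (by
            rw [C.card_cent_any T.orderOf_w, hW, one_mul, he, hr]; norm_num)
        exact ⟨x, hx, by rwa [← Subgroup.orderOf_coe] at hxo⟩
      obtain ⟨y, s, hy, hs, hinv⟩ := exists_inverted_psl (F := K) hr0 hK Nat.prime_three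
        (by rw [hr]; norm_num)
      refine C.hG.no_both Nat.prime_three (by norm_num) hxo
        (y := ((e.symm y : T.L) : G)) (s := ((e.symm s : T.L) : G)) ?_ T.orderOf_w ?_
        (mem_centralizer_singleton_iff.1 hxc).symm ?_
      · rw [Subgroup.orderOf_coe, MulEquiv.orderOf_eq, hy]
      · rw [Subgroup.orderOf_coe, MulEquiv.orderOf_eq, hs]
      · rw [← Subgroup.coe_inv, ← Subgroup.coe_mul, ← Subgroup.coe_inv, ← Subgroup.coe_mul,
          ← map_inv, ← map_mul, ← map_mul, hinv, map_inv]
  · right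
    refine ⟨hr, ?_⟩
    have he : C.eps = 5 := by rw [C.h5 hr, hr]
    haveI := T.L_normal
    haveI : Fintype (GaloisField 2 5) := Fintype.ofFinite _
    obtain ⟨f⟩ := CIT.psl_congr (FiniteField.ringEquivOfCardEq (K := K) (K' := GaloisField 2 5)
      (by rw [hK, hr, ← Nat.card_eq_fintype_card, GaloisField.card 2 5 (by norm_num)]))
    let φ : G →* MulAut (Matrix.ProjectiveSpecialLinearGroup (Fin 2) (GaloisField 2 5)) :=
      (MulAut.congr (e.trans f)).toMonoidHom.comp MulAut.conjNormal
    have hinj : Function.Injective φ := by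
      refine (injective_iff_map_eq_one φ).2 fun g hg => ?_
      have hg' : (MulAut.conjNormal g : MulAut T.L) = 1 :=
        (MulAut.congr (e.trans f)).injective (hg.trans (map_one _).symm)
      refine C.eq_one_of_centralizes T fun t ht => ?_
      have := congrArg Subtype.val (DFunLike.congr_fun hg' (⟨t, T.invol_mem_L ht⟩ : T.L))
      rw [MulAut.conjNormal_apply] at this
      exact mul_inv_eq_iff_eq_mul.1 this
    have hq : Fintype.card (GaloisField 2 5) = 2 ^ 5 := by
      rw [← Nat.card_eq_fintype_card, GaloisField.card 2 5 (by norm_num)]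
    have hA := Cfsg.Agent.S0813.result (F := GaloisField 2 5) 2 5 (by norm_num) hq 2 le_rfl
      (fun _ => by norm_num)
    rw [Classical.card_pgl_eq, if_pos rfl, one_mul, Classical.card_sl2, hq] at hA
    refine ⟨MulEquiv.ofBijective φ ((Nat.bijective_iff_injective_and_card φ).2 ⟨hinj, ?_⟩)⟩
    rw [hA, hG, he, ← hp, hr]
    norm_num

end Ctx

end CfsgLib.EqConj

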