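import Cfsg.Agent.Lib.Invol.EqualOrderConj.Kernel
import Mathlib.GroupTheory.SpecificGroups.Cyclic

/-!
# `P` is fixed point free on `F(O(N(S)))`, and `O(N(S)) = F(O(N(S))) C(P)`
-/

set_option autoImplicit false
set_option linter.unusedSectionVars false
set_option linter.style.haveILetI false

namespace CfsgLib.EqConj

open Subgroup

universe u

/-- Commutators centralise a cyclic group normalised by both factors. -/
theorem commutator_cent_of_cyclic {G : Type u} [Group G] (R : Subgroup G) [IsCyclic R] {a b : G}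
    (ha : a ∈ normalizer (R : Set G)) (hb : b ∈ normalizer (R : Set G)) {x : G} (hx : x ∈ R) :
    a * b * a⁻¹ * b⁻¹ * x = x * (a * b * a⁻¹ * b⁻¹) := by
  have key : ∀ g ∈ normalizer (R : Set G), ∃ m : ℤ, ∀ y ∈ R, g * y * g⁻¹ = y ^ m := by
    intro g hg
    let A : R →* R :=
      { toFun := fun y => ⟨g * y * g⁻¹, (mem_normalizer_iff.1 hg _).1 y.2⟩
        map_one' := Subtype.ext (by simp)
        map_mul' := fun y z => Subtype.ext
          (show g * ((y : G) * z) * g⁻¹ = g * y * g⁻¹ * (g * z * g⁻¹) by group) }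
    obtain ⟨m, hm⟩ := A.map_cyclic
    exact ⟨m, fun y hy => congrArg Subtype.val (hm ⟨y, hy⟩)⟩
  obtain ⟨m, hm⟩ := key a ha
  obtain ⟨n, hn⟩ := key b hb
  have hy : (b * a)⁻¹ * x * (b * a) ∈ R := by
    have := (mem_normalizer_iff.1 (inv_mem (mul_mem hb ha)) x).1 hx
    rwa [inv_inv] at this
  set y := (b * a)⁻¹ * x * (b * a) with hydef
  have h1 : a * b * y * (a * b)⁻¹ = b * a * y * (b * a)⁻¹ := by
    calc a * b * y * (a * b)⁻¹ = a * (b * y * b⁻¹) * a⁻¹ := by group
      _ = (y ^ n) ^ m := by rw [hn y hy, hm _ (zpow_mem hy n)]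
      _ = (y ^ m) ^ n := by rw [← zpow_mul, ← zpow_mul, mul_comm]
      _ = b * (a * y * a⁻¹) * b⁻¹ := by rw [hm y hy, hn _ (zpow_mem hy m)]
      _ = b * a * y * (b * a)⁻¹ := by group
  have h2 : b * a * y * (b * a)⁻¹ = x := by rw [hydef]; group
  rw [h2] at h1
  rw [← mul_inv_eq_iff_eq_mul]
  refine Eq.trans ?_ h1
  rw [hydef]
  group

namespace Ctx

variable {G : Type u} [Group G] [Finite G] (C : Ctx G)

noncomputable instance instMComm (q : ℕ) : CommGroup (C.M q) :=
  { (inferInstance : Group (C.M q)) with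
    mul_comm := fun a b => Subtype.ext (C.F_comm a.2.1 b.2.1) }

/-- The action of `N(S)` on `M q`. -/
def act (q : ℕ) : C.N →* MulAut (C.M q) where
  toFun n :=
    { toFun := fun m => ⟨(n : G) * m * (n : G)⁻¹, C.M_conj n.2 m.2⟩
      invFun := fun m => ⟨(n : G)⁻¹ * m * n, by
        have := C.M_conj (inv_mem n.2) m.2
        rwa [inv_inv] at this⟩
      left_inv := fun m => Subtype.ext
        (show (n : G)⁻¹ * ((n : G) * m * (n : G)⁻¹) * n = m by group)
      right_inv := fun m => Subtype.ext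
        (show (n : G) * ((n : G)⁻¹ * m * n) * (n : G)⁻¹ = m by group)
      map_mul' := fun m m' => Subtype.ext
        (show (n : G) * ((m : G) * m') * (n : G)⁻¹ =
          (n : G) * m * (n : G)⁻¹ * ((n : G) * m' * (n : G)⁻¹) by group) }
  map_one' := MulEquiv.ext fun m => Subtype.ext
    (show ((1 : C.N) : G) * m * ((1 : C.N) : G)⁻¹ = m by simp)
  map_mul' n n' := MulEquiv.ext fun m => Subtype.ext
    (show ((n * n' : C.N) : G) * m * ((n * n' : C.N) : G)⁻¹ =
      (n : G) * ((n' : G) * m * (n' : G)⁻¹) * (n : G)⁻¹ by rw [Subgroup.coe_mul]; group)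

theorem act_apply {q : ℕ} (n : C.N) (m : C.M q) :
    ((C.act q n m : C.M q) : G) = (n : G) * m * (n : G)⁻¹ := rfl

theorem M_transitive {q : ℕ} (U V : Subgroup (C.M q)) (h : Nat.card U = Nat.card V) :
    ∃ n : C.N, U.map (C.act q n).toMonoidHom = V := by
  have hc : ∀ U : Subgroup (C.M q), ∀ a ∈ U.map (C.M q).subtype, ∀ s ∈ (C.S : Subgroup G),
      s * a = a * s := by
    rintro U _ ⟨a, -, rfl⟩ s hs
    exact C.W_S_commute (C.F_le a.2.1) hs
  obtain ⟨g, hg⟩ := C.hG (U.map (C.M q).subtype) (V.map (C.M q).subtype)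
    (by rw [card_map_of_injective (C.M q).subtype_injective,
      card_map_of_injective (C.M q).subtype_injective, h])
  obtain ⟨n, hn, hnv⟩ := exists_normalizer_conj C.S (hc U) (hc V) hg
  refine ⟨⟨n, hn⟩, map_injective (C.M q).subtype_injective ?_⟩
  rw [hnv, map_map, map_map]
  rfl

theorem act_range_odd (q : ℕ) : Odd (Nat.card (C.act q).range) := by
  haveI := Fact.mk Nat.prime_two
  have hker : (C.S : Subgroup G).subgroupOf C.N ≤ (C.act q).ker := fun n hn =>
    MonoidHom.mem_ker.2 (MulEquiv.ext fun m => Subtype.ext (by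
      show (n : G) * m * (n : G)⁻¹ = m
      rw [C.W_S_commute (C.F_le m.2.1) (show (n : G) ∈ (C.S : Subgroup G) from hn),
        mul_inv_cancel_right]))
  rw [← Nat.not_even_iff_odd, even_iff_two_dvd, ← index_ker]
  exact fun h => C.S.not_dvd_index ((h.trans (index_dvd_of_le hker)).trans
    (relIndex_dvd_index_of_le le_normalizer))

theorem M_card_ne_sq {q : ℕ} (hq : q.Prime) (hqF : q ∣ Nat.card C.F) :
    Nat.card (C.M q) ≠ q ^ 2 := by
  classical
  intro hcard
  haveI := Fact.mk hq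
  set Ln := {U : Subgroup (C.M q) // Nat.card U = q} with hLn
  have hexp : ∀ x : C.M q, x ^ q = 1 := fun x => Subtype.ext x.2.2
  let e : {v : C.M q // v ≠ 1} ≃ Σ U : Ln, {v : U.1 // v ≠ 1} :=
    { toFun := fun v => ⟨⟨zpowers v.1, by rw [Nat.card_zpowers, orderOf_eq_prime (hexp v.1) v.2]⟩,
        ⟨⟨v.1, mem_zpowers v.1⟩, fun h => v.2 (congrArg Subtype.val h)⟩⟩
      invFun := fun s => ⟨s.2.1.1, fun h => s.2.2 (Subtype.ext h)⟩
      left_inv := fun v => rfl
      right_inv := by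
        rintro ⟨⟨U, hU⟩, ⟨⟨v, hv⟩, hv1⟩⟩
        have hv1' : v ≠ 1 := fun h => hv1 (Subtype.ext h)
        have hUv : zpowers v = U := eq_of_le_of_card_ge (zpowers_le.2 hv)
          (by rw [Nat.card_zpowers, orderOf_eq_prime (hexp v) hv1', hU])
        subst hUv
        rfl }
  haveI := Fintype.ofFinite Ln
  haveI := Fintype.ofFinite (C.M q)
  have hc := Nat.card_congr e
  have hfib : ∀ U : Ln, Nat.card {v : U.1 // v ≠ 1} = q - 1 := fun U => by
    haveI := Fintype.ofFinite U.1
    rw [Nat.card_eq_fintype_card, Fintype.card_subtype_compl, Fintype.card_subtype_eq,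
      ← Nat.card_eq_fintype_card, U.2]
  rw [Nat.card_sigma] at hc
  simp only [hfib] at hc
  rw [Finset.sum_const, smul_eq_mul, Finset.card_univ, ← Nat.card_eq_fintype_card,
    Nat.card_eq_fintype_card, Fintype.card_subtype_compl, Fintype.card_subtype_eq,
    ← Nat.card_eq_fintype_card, hcard] at hc
  have hL : Nat.card Ln = q + 1 := by
    refine Nat.eq_of_mul_eq_mul_right (show 0 < q - 1 by have := hq.two_le; omega) ?_
    rw [← hc, show q ^ 2 - 1 = q ^ 2 - 1 ^ 2 by norm_num, Nat.sq_sub_sq]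
  obtain ⟨v, hv⟩ : ∃ v : C.M q, v ≠ 1 := by
    by_contra h
    push Not at h
    exact C.M_ne_bot hq hqF ((eq_bot_iff_forall _).2 fun x hx => congrArg Subtype.val (h ⟨x, hx⟩))
  have hU₀ : Nat.card (zpowers v) = q := by rw [Nat.card_zpowers, orderOf_eq_prime (hexp v) hv]
  let f : C.N → Ln := fun n => ⟨(zpowers v).map (C.act q n).toMonoidHom,
    by rw [card_map_of_injective (C.act q n).injective, hU₀]⟩
  -- the orbit of a subgroup of order `q`
  letI : MulAction (C.act q).range Ln :=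
    { smul := fun a U => ⟨U.1.map (a : MulAut (C.M q)).toMonoidHom,
        by rw [card_map_of_injective (a : MulAut (C.M q)).injective, U.2]⟩
      one_smul := fun U => Subtype.ext (map_id U.1)
      mul_smul := fun a b U => Subtype.ext (show U.1.map ((a * b : (C.act q).range) : MulAut (C.M q)).toMonoidHom =
          (U.1.map (b : MulAut (C.M q)).toMonoidHom).map (a : MulAut (C.M q)).toMonoidHom by
        rw [map_map]; rfl) }
  haveI : MulAction.IsPretransitive (C.act q).range Ln := by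
    refine ⟨fun U V => ?_⟩
    obtain ⟨n, hn⟩ := C.M_transitive U.1 V.1 (U.2.trans V.2.symm)
    exact ⟨⟨C.act q n, n, rfl⟩, Subtype.ext hn⟩
  have h1 := MulAction.index_stabilizer_of_transitive (C.act q).range (⟨zpowers v, hU₀⟩ : Ln)
  have h2 : Odd (q + 1) := hL ▸ h1 ▸ (C.act_range_odd q).of_dvd_nat (index_dvd_card _)
  have h3 := hq.odd_of_ne_two (C.prime_ne_two hqF)
  exact Nat.not_even_iff_odd.2 h2 h3.add_one

/-- `M q` is cyclic or a semilinear three dimensional space. -/
theorem M_cases {q : ℕ} [Fact q.Prime] (hqF : q ∣ Nat.card C.F) :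
    Nat.card (C.M q) = q ∨ ∃ e : Additive (C.M q) ≃+ GaloisField q 3,
      ∀ n : C.N, EqualOrder.SLin e (C.act q n) := by
  have hq : q.Prime := Fact.out
  obtain ⟨k, hk⟩ := (C.M_pGroup (q := q)).exists_card_eq
  rcases (show k = 0 ∨ k = 1 ∨ k = 2 ∨ 3 ≤ k by omega) with rfl | rfl | rfl | h3
  · exact absurd (Subgroup.card_eq_one.1 (by rw [hk, pow_zero])) (C.M_ne_bot hq hqF)
  · exact Or.inl (by rw [hk, pow_one])
  · exact absurd hk (C.M_card_ne_sq hq hqF)
  · right
    haveI := normalizer_solvable C.S C.hS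
    obtain ⟨hdim, e, he, -⟩ := EqualOrder.semilinear_of_transitive (E := C.M q) (p := q) (n := k)
      (fun x => Subtype.ext x.2.2) hk h3 (C.act q) C.M_transitive
    rcases hdim with rfl | ⟨-, rfl⟩
    · exact ⟨e, he⟩
    · exact absurd rfl (C.prime_ne_two hqF)

theorem linear_of_sigma {q : ℕ} [Fact q.Prime] (e : Additive (C.M q) ≃+ GaloisField q 3)
    (he : ∀ g ∈ (C.act q).range, EqualOrder.SLin e g) (g : (C.act q).range)
    (hg : EqualOrder.sigHom e _ he g = 1) :
    ∃ a : GaloisField q 3, ∀ x : C.M q,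
      e (Additive.ofMul ((g : MulAut (C.M q)) x)) = a * e (Additive.ofMul x) := by
  refine ⟨((EqualOrder.pairMap e _ he g).1 : GaloisField q 3), fun x => ?_⟩
  rw [EqualOrder.pairMap_spec e _ he g x,
    show (EqualOrder.pairMap e _ he g).2 = 1 from hg]
  rfl

theorem sigma_of_pow_p {q : ℕ} [Fact q.Prime] (e : Additive (C.M q) ≃+ GaloisField q 3)
    (he : ∀ g ∈ (C.act q).range, EqualOrder.SLin e g) {j : C.N} (hj : (j : G) ^ C.p = 1) :
    EqualOrder.sigHom e _ he ((C.act q).rangeRestrict j) = 1 := by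
  haveI : Finite (GaloisField q 3 ≃+* GaloisField q 3) :=
    Finite.of_injective _ DFunLike.coe_injective
  rw [← orderOf_eq_one_iff]
  refine Nat.eq_one_of_dvd_coprimes
    (show Nat.Coprime C.p 3 by rcases C.p_val with h | h <;> rw [h] <;> norm_num) ?_ ?_
  · refine orderOf_dvd_of_pow_eq_one ?_
    rw [← map_pow, ← map_pow, show j ^ C.p = 1 from Subtype.ext hj, map_one, map_one]
  · have h := orderOf_dvd_natCard (EqualOrder.sigHom e _ he ((C.act q).rangeRestrict j))
    rwa [EqualOrder.card_galoisAut q (GaloisField.card q 3 (by norm_num))] at h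

/-- An element of order `p` of `N(S)` fixing a non-trivial element of `M q` centralises `M q`. -/
theorem M_fixed {q : ℕ} (hq : q.Prime) (hqF : q ∣ Nat.card C.F) {j : G} (hj : j ∈ C.N)
    (hjp : j ^ C.p = 1) {m : G} (hm : m ∈ C.M q) (hm1 : m ≠ 1) (hc : m * j = j * m) {x : G}
    (hx : x ∈ C.M q) : x * j = j * x := by
  haveI := Fact.mk hq
  rcases C.M_cases hqF with h | ⟨e, he⟩
  · have : zpowers m = C.M q := eq_of_le_of_card_ge (zpowers_le.2 hm)
      (by rw [Nat.card_zpowers, orderOf_eq_prime hm.2 hm1, h])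
    rw [← this] at hx
    obtain ⟨i, rfl⟩ := mem_zpowers_iff.1 hx
    exact ((show Commute m j from hc).zpow_left i).eq
  · have he' : ∀ g ∈ (C.act q).range, EqualOrder.SLin e g := by
      rintro _ ⟨n, rfl⟩
      exact he n
    obtain ⟨a, ha⟩ := C.linear_of_sigma e he' _ (C.sigma_of_pow_p e he' (j := ⟨j, hj⟩) hjp)
    have hfix : C.act q ⟨j, hj⟩ ⟨m, hm⟩ = ⟨m, hm⟩ :=
      Subtype.ext (show j * m * j⁻¹ = m by rw [← hc, mul_inv_cancel_right])
    have h0 : e (Additive.ofMul ⟨m, hm⟩) ≠ 0 := fun h0 => hm1 (congrArg Subtype.val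
      (show Additive.toMul (Additive.ofMul (⟨m, hm⟩ : C.M q)) = Additive.toMul 0 by
        rw [e.injective (h0.trans (map_zero e).symm)]))
    have ha1 : a = 1 := by
      have := ha ⟨m, hm⟩
      rw [MonoidHom.coe_rangeRestrict, hfix] at this
      exact (mul_eq_right₀ h0).1 this.symm
    have hx' := ha ⟨x, hx⟩
    rw [MonoidHom.coe_rangeRestrict, ha1, one_mul] at hx'
    have : j * x * j⁻¹ = x := congrArg Subtype.val (Additive.ofMul.injective (e.injective hx'))
    exact (mul_inv_eq_iff_eq_mul.1 this).symm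

/-- `[W, j]` centralises `M q`. -/
theorem M_commutator {q : ℕ} (hq : q.Prime) (hqF : q ∣ Nat.card C.F) {w j : G} (hw : w ∈ C.W)
    (hj : j ∈ C.N) (hjp : j ^ C.p = 1) {m : G} (hm : m ∈ C.M q) :
    w * j * w⁻¹ * j⁻¹ * m = m * (w * j * w⁻¹ * j⁻¹) := by
  haveI := Fact.mk hq
  have hwN : w ∈ C.N := oddPart_le C.S hw
  rcases C.M_cases hqF with h | ⟨e, he⟩
  · haveI : IsCyclic (C.M q) := isCyclic_of_prime_card h
    have hn : ∀ n ∈ C.N, n ∈ normalizer (C.M q : Set G) := fun n hn => mem_normalizer_iff.2 fun x =>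
      ⟨fun hx => C.M_conj hn hx, fun hx => by
        have := C.M_conj (inv_mem hn) hx
        rwa [show n⁻¹ * (n * x * n⁻¹) * n⁻¹⁻¹ = x by group] at this⟩
    exact commutator_cent_of_cyclic _ (hn w hwN) (hn j hj) hm
  · have he' : ∀ g ∈ (C.act q).range, EqualOrder.SLin e g := by
      rintro _ ⟨n, rfl⟩
      exact he n
    set W₁ : C.N := ⟨w, hwN⟩
    set J : C.N := ⟨j, hj⟩
    have hσ := C.sigma_of_pow_p e he' (j := J) hjp
    obtain ⟨a, ha⟩ := C.linear_of_sigma e he' _ hσ
    obtain ⟨b, hb⟩ := C.linear_of_sigma e he' ((C.act q).rangeRestrict (W₁ * J * W₁⁻¹ * J⁻¹))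
      (by simp only [map_mul, map_inv, hσ, mul_one, mul_inv_cancel, inv_one])
    have hcomm : Commute (C.act q (W₁ * J * W₁⁻¹ * J⁻¹)) (C.act q J) := MulEquiv.ext fun x => by
      apply Additive.ofMul.injective
      apply e.injective
      simp only [MonoidHom.coe_rangeRestrict] at ha hb
      rw [MulAut.mul_apply, MulAut.mul_apply, hb, ha, ha, hb, mul_left_comm]
    have hJ : C.act q J ^ C.p = 1 := by
      rw [← map_pow, show J ^ C.p = 1 from Subtype.ext hjp, map_one]
    have hc1 : C.act q (W₁ * J * W₁⁻¹ * J⁻¹) ^ C.p = 1 := by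
      have h1 := hcomm.mul_pow C.p
      rw [hJ, mul_one, ← map_mul, inv_mul_cancel_right, ← map_pow, conj_pow,
        show J ^ C.p = 1 from Subtype.ext hjp, mul_one, mul_inv_cancel, map_one] at h1
      exact h1.symm
    have hc2 : C.act q (W₁ * J * W₁⁻¹ * J⁻¹) ^ Nat.card C.W = 1 := by
      rw [← map_pow]
      refine (congrArg (C.act q) (Subtype.ext ?_)).trans (map_one _)
      have hcW : w * j * w⁻¹ * j⁻¹ ∈ C.W := by
        rw [show w * j * w⁻¹ * j⁻¹ = w * (j * w⁻¹ * j⁻¹) by group]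
        exact mul_mem hw (oddPart_conj C.S hj (inv_mem hw))
      exact orderOf_dvd_iff_pow_eq_one.1 (Subgroup.orderOf_dvd_natCard _ hcW)
    have h1 : C.act q (W₁ * J * W₁⁻¹ * J⁻¹) = 1 := orderOf_eq_one_iff.1 (Nat.eq_one_of_dvd_coprimes
      ((C.p_prime.coprime_iff_not_dvd).2 C.p_not_dvd_W) (orderOf_dvd_of_pow_eq_one hc1)
      (orderOf_dvd_of_pow_eq_one hc2))
    have : w * j * w⁻¹ * j⁻¹ * m * (w * j * w⁻¹ * j⁻¹)⁻¹ = m :=
      congrArg Subtype.val (DFunLike.congr_fun h1 (⟨m, hm⟩ : C.M q))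
    exact mul_inv_eq_iff_eq_mul.1 this

end Ctx

end CfsgLib.EqConj
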