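import Cfsg.Agent.Lib.Invol.EqualOrderConj.Local
import Cfsg.Agent.S1224
import Cfsg.Agent.S1124
import Mathlib.GroupTheory.GroupAction.Quotient

/-!
# Pairs of Sylow 2-subgroups

When the Sylow 2-subgroup is not normal, two points of `G ⧸ N(S)` are fixed by a unique subgroup of
order `p = |S| - 1`, and this subgroup fixes no third point.
-/

set_option autoImplicit false
set_option linter.unusedSectionVars false
set_option linter.style.haveILetI false

namespace CfsgLib.EqConj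

open Subgroup

universe u

/-- A group with conjugate subgroups of equal order, trivial odd core and non-normal elementary
Sylow 2-subgroup of order 8 or 32. -/
structure Ctx (G : Type u) [Group G] [Finite G] where
  hG : Hyp G
  hO : Cfsg.oddCore G = ⊥
  S : Sylow 2 G
  hS : Cfsg.IsElementaryAbelian 2 (S : Subgroup G)
  hnn : ¬ (S : Subgroup G).Normal
  r : ℕ
  p : ℕ
  eps : ℕ
  hr : r = 3 ∨ r = 5
  Scard : Nat.card (S : Subgroup G) = 2 ^ r
  p_eq : p + 1 = 2 ^ r
  heps : eps = 1 ∨ eps = r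
  h5 : r = 5 → eps = r
  Ncard : Nat.card (normalizer ((S : Subgroup G) : Set G)) =
    Nat.card (oddPart S) * (2 ^ r * (p * eps))

namespace Ctx

variable {G : Type u} [Group G] [Finite G] (C : Ctx G)

/-- The normaliser of `S`. -/
abbrev N : Subgroup G := normalizer ((C.S : Subgroup G) : Set G)

/-- The points. -/
abbrev X : Type u := G ⧸ C.N

/-- The base point. -/
abbrev x₀ : C.X := ((1 : G) : G ⧸ C.N)

theorem three_le : 3 ≤ C.r := by rcases C.hr with h | h <;> omega

theorem p_val : C.p = 7 ∨ C.p = 31 := by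
  have := C.p_eq
  rcases C.hr with h | h <;> rw [h] at this <;> norm_num at this <;> omega

theorem p_prime : C.p.Prime := by rcases C.p_val with h | h <;> rw [h] <;> norm_num

theorem eps_lt : C.eps < C.p := by
  rcases C.hr with h | h <;> rcases C.heps with h' | h' <;> rcases C.p_val with h'' | h'' <;>
    simp [h, h', h'']

theorem eps_pos : 0 < C.eps := by
  rcases C.hr with h | h <;> rcases C.heps with h' | h' <;> omega

theorem eps_odd : Odd C.eps := by
  rcases C.hr with h | h <;> rcases C.heps with h' | h' <;> simp [h, h'] <;> decide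

theorem p_odd : Odd C.p := by rcases C.p_val with h | h <;> rw [h] <;> decide

theorem sq_one {s : G} (hs : s ∈ (C.S : Subgroup G)) : s * s = 1 := by rw [← sq]; exact C.hS.2 s hs

theorem S_comm {s t : G} (hs : s ∈ (C.S : Subgroup G)) (ht : t ∈ (C.S : Subgroup G)) :
    s * t = t * s :=
  congrArg Subtype.val (C.hS.1.is_comm.comm (⟨s, hs⟩ : (C.S : Subgroup G)) ⟨t, ht⟩)

theorem exists_invol : ∃ t ∈ (C.S : Subgroup G), orderOf t = 2 := by
  refine Invol.exists_invol_mem ?_ |>.imp fun t h => h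
  rw [C.Scard]
  exact Nat.even_pow.2 ⟨even_two, by have := C.three_le; omega⟩

theorem card_cent {t : G} (ht : t ∈ (C.S : Subgroup G)) (ht2 : orderOf t = 2) :
    Nat.card (centralizer ({t} : Set G)) = Nat.card (oddPart C.S) * (2 ^ C.r * C.eps) := by
  have h := card_normalizer_eq C.S C.hG C.hS ht ht2
  rw [C.Ncard, C.Scard, show 2 ^ C.r - 1 = C.p by have := C.p_eq; omega] at h
  refine Nat.eq_of_mul_eq_mul_right C.p_prime.pos ?_
  rw [← h]; ring

/-- An odd prime dividing the order of an involution centraliser is inverted by no involution. -/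
theorem no_inverted {l : ℕ} (hl : l.Prime) (hl2 : l ≠ 2)
    (hdvd : l ∣ Nat.card (oddPart C.S) * C.eps) {y s : G} (hy : orderOf y = l) (hs : orderOf s = 2) :
    s * y * s⁻¹ ≠ y⁻¹ := by
  obtain ⟨t, ht, ht2⟩ := C.exists_invol
  refine C.hG.not_inverted ht2 hl hl2 ?_ hy hs
  rw [C.card_cent ht ht2]
  exact hdvd.trans ⟨2 ^ C.r, by ring⟩

theorem stab_x₀ {g : G} : g • C.x₀ = C.x₀ ↔ g ∈ C.N := by
  show ((g * 1 : G) : G ⧸ C.N) = ((1 : G) : G ⧸ C.N) ↔ g ∈ C.N
  rw [QuotientGroup.eq, mul_one, mul_one, inv_mem_iff]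

theorem exists_to_x₀ (z : C.X) : ∃ g : G, g • z = C.x₀ := MulAction.exists_smul_eq G z C.x₀

theorem invol_mem_S {t : G} (ht : t ∈ C.N) (ht2 : orderOf t = 2) : t ∈ (C.S : Subgroup G) := by
  haveI := Fact.mk Nat.prime_two
  have hp : IsPGroup 2 (zpowers t) :=
    IsPGroup.of_card (n := 1) (by rw [Nat.card_zpowers, ht2, pow_one])
  have hsup := hp.to_sup_of_normal_right' C.S.2 (zpowers_le.2 ht)
  exact (C.S.3 hsup le_sup_right).le (mem_sup_left (mem_zpowers t))

theorem strongly_embedded : Cfsg.IsStronglyEmbedded C.N := by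
  have hne : C.N ≠ ⊤ := fun h => C.hnn (normalizer_eq_top_iff.1 h)
  have heven : Even (Nat.card C.N) := by
    obtain ⟨t, ht, ht2⟩ := C.exists_invol
    exact Invol.even_card_of_invol_mem (le_normalizer ht) ht2
  rw [Invol.stronglyEmbedded_iff hne heven]
  intro t ht ht2 g hg
  have htS := C.invol_mem_S ht ht2
  have hgS := C.invol_mem_S hg (Invol.invol_conj ht2 g)
  have hle : (C.S : Subgroup G).map (MulAut.conj g).toMonoidHom ≤ C.N := by
    rintro _ ⟨s, hs, rfl⟩
    refine C.hG.cent_le_normalizer C.S C.hS hgS (Invol.invol_conj ht2 g)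
      (mem_centralizer_singleton_iff.2 ?_)
    show MulAut.conj g s * (g * t * g⁻¹) = g * t * g⁻¹ * MulAut.conj g s
    rw [← MulAut.conj_apply g t, ← map_mul, ← map_mul, C.S_comm hs htS]
  refine Invol.mem_normalizer_of_conj_map_eq ?_
  refine Subgroup.eq_of_le_of_card_ge ?_
    (card_map_of_injective (MulAut.conj g).injective).ge
  intro x hx
  obtain ⟨s, hs, rfl⟩ := hx
  by_cases hs1 : s = 1
  · rw [hs1, map_one]; exact one_mem _
  refine C.invol_mem_S (hle ⟨s, hs, rfl⟩) ?_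
  exact (MulEquiv.orderOf_eq (MulAut.conj g) s).trans (Invol.invol_iff.2 ⟨C.sq_one hs, hs1⟩)

theorem exists_fixed {t : G} (ht : orderOf t = 2) : ∃ z : C.X, t • z = z := by
  haveI := Fact.mk Nat.prime_two
  have hp : IsPGroup 2 (zpowers t) :=
    IsPGroup.of_card (n := 1) (by rw [Nat.card_zpowers, ht, pow_one])
  obtain ⟨g, hg⟩ := Invol.exists_conj_le_sylow hp C.S
  refine ⟨g⁻¹ • C.x₀, ?_⟩
  have h1 : g * t * g⁻¹ ∈ C.N := le_normalizer (hg t (mem_zpowers t))
  rw [eq_inv_smul_iff, smul_smul, smul_smul]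
  exact C.stab_x₀.2 h1

theorem fixed_unique {t : G} (ht : orderOf t = 2) {y z : C.X} (hy : t • y = y) (hz : t • z = z) :
    y = z := by
  obtain ⟨g, hg⟩ := C.exists_to_x₀ y
  obtain ⟨h, hh⟩ := C.exists_to_x₀ z
  have h1 : g * t * g⁻¹ ∈ C.N := C.stab_x₀.1 (by
    rw [← hg, mul_smul, inv_smul_smul, mul_smul, hy])
  have h2 : h * t * h⁻¹ ∈ C.N := C.stab_x₀.1 (by
    rw [← hh, mul_smul, inv_smul_smul, mul_smul, hz])
  have h3 : h * g⁻¹ ∈ C.N := Invol.mem_of_conj_mem C.strongly_embedded h1 (Invol.invol_conj ht g) (by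
    rwa [show h * g⁻¹ * (g * t * g⁻¹) * (h * g⁻¹)⁻¹ = h * t * h⁻¹ by group])
  have h4 := C.stab_x₀.2 h3
  rw [mul_smul, ← hg, inv_smul_smul, hg, ← hh] at h4
  exact smul_left_cancel h h4

theorem card_invol_N : Nat.card {t : G // orderOf t = 2 ∧ t ∈ C.N} = C.p := by
  classical
  haveI := Fintype.ofFinite (C.S : Subgroup G)
  have e : {t : G // orderOf t = 2 ∧ t ∈ C.N} ≃ {s : (C.S : Subgroup G) // s ≠ 1} :=
    { toFun := fun t => ⟨⟨t, C.invol_mem_S t.2.2 t.2.1⟩,
        fun h => Invol.invol_ne_one t.2.1 (congrArg Subtype.val h)⟩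
      invFun := fun s => ⟨s.1, Invol.invol_iff.2 ⟨C.sq_one s.1.2, fun h => s.2 (Subtype.ext h)⟩,
        le_normalizer s.1.2⟩
      left_inv := fun t => rfl
      right_inv := fun s => rfl }
  rw [Nat.card_congr e, Nat.card_eq_fintype_card, Fintype.card_subtype_compl,
    Fintype.card_subtype_eq, ← Nat.card_eq_fintype_card, C.Scard]
  have := C.p_eq
  omega

theorem card_swappers {x y : C.X} (h : x ≠ y) :
    Nat.card {i : G // orderOf i = 2 ∧ i • x = y} = C.p :=
  (Cfsg.Agent.S1224.result C.N C.strongly_embedded x y h).trans C.card_invol_N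

theorem smul_back {i : G} (hi : orderOf i = 2) {x y : C.X} (h : i • x = y) : i • y = x := by
  rw [← h, smul_smul, Invol.invol_mul_self hi, one_smul]

theorem exists_swapper {x y : C.X} (h : x ≠ y) :
    ∃ i : G, orderOf i = 2 ∧ i • x = y ∧ i • y = x := by
  have hpos : 0 < Nat.card {i : G // orderOf i = 2 ∧ i • x = y} := by
    rw [C.card_swappers h]; exact C.p_prime.pos
  obtain ⟨⟨i, hi, hix⟩⟩ := (Nat.card_pos_iff.1 hpos).1
  exact ⟨i, hi, hix, C.smul_back hi hix⟩

theorem conj_mem_N {g : G} {z : C.X} (hg : g • z = C.x₀) {d : G} (hd : d • z = z) :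
    g * d * g⁻¹ ∈ C.N :=
  C.stab_x₀.1 (by rw [← hg, mul_smul, inv_smul_smul, mul_smul, hd])

theorem orderOf_dvd_N {d : G} {z : C.X} (hd : d • z = z) : orderOf d ∣ Nat.card C.N := by
  obtain ⟨g, hg⟩ := C.exists_to_x₀ z
  have h := Subgroup.orderOf_dvd_natCard C.N (C.conj_mem_N hg hd)
  rwa [← MulAut.conj_apply, MulEquiv.orderOf_eq] at h

theorem card_stab (z : C.X) : Nat.card (MulAction.stabilizer G z) = Nat.card C.N := by
  obtain ⟨g, hg⟩ := C.exists_to_x₀ z
  rw [show z = g⁻¹ • C.x₀ by rw [← hg, inv_smul_smul],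
    MulAction.stabilizer_smul_eq_stabilizer_map_conj, card_map_of_injective (MulAut.conj g⁻¹).injective]
  congr 2
  ext x
  exact C.stab_x₀

theorem pair_odd {x y : C.X} (h : x ≠ y) :
    Odd (Nat.card ↥(MulAction.stabilizer G x ⊓ MulAction.stabilizer G y)) := by
  rw [← Nat.not_even_iff_odd]
  intro hev
  obtain ⟨t, ht, ht2⟩ := Invol.exists_invol_mem hev
  exact h (C.fixed_unique ht2 ht.1 ht.2)

/-- A prime-order element of a pair stabiliser inverted by an involution has order `p`, and `p` does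
not divide `|O(N(S))|`. -/
theorem inverted_prime {x y : C.X} (h : x ≠ y) {d i : G} (hdx : d • x = x) (hdy : d • y = y)
    (hi : orderOf i = 2) {l : ℕ} (hl : l.Prime) (hdo : orderOf d = l) (hinv : i * d * i⁻¹ = d⁻¹) :
    l = C.p ∧ ¬ C.p ∣ Nat.card (oddPart C.S) * C.eps := by
  have hl2 : l ≠ 2 := by
    rintro rfl
    exact h (C.fixed_unique hdo hdx hdy)
  have hno : ¬ l ∣ Nat.card (oddPart C.S) * C.eps := fun hd => C.no_inverted hl hl2 hd hdo hi hinv
  have hdvd := hdo ▸ C.orderOf_dvd_N hdx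
  rw [C.Ncard] at hdvd
  have hlp : l = C.p := by
    rcases (Nat.Prime.dvd_mul hl).1 hdvd with h1 | h1
    · exact absurd (h1.trans (Dvd.intro _ rfl)) hno
    rcases (Nat.Prime.dvd_mul hl).1 h1 with h2 | h2
    · exact absurd ((Nat.prime_dvd_prime_iff_eq hl Nat.prime_two).1 (hl.dvd_of_dvd_pow h2)) hl2
    rcases (Nat.Prime.dvd_mul hl).1 h2 with h3 | h3
    · exact (Nat.prime_dvd_prime_iff_eq hl C.p_prime).1 h3
    · exact absurd (h3.trans (Dvd.intro_left _ rfl)) hno
  exact ⟨hlp, hlp ▸ hno⟩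

/-- The swappers of a pair correspond to the inverted elements of its stabiliser. -/
theorem card_inverted {x y : C.X} (h : x ≠ y) {i : G} (hi : orderOf i = 2) (hix : i • x = y) :
    Nat.card {d : G // (d • x = x ∧ d • y = y) ∧ i * d * i⁻¹ = d⁻¹} = C.p := by
  rw [← C.card_swappers h]
  have hii := Invol.invol_mul_self hi
  have hiv := Invol.invol_inv hi
  have hiy := C.smul_back hi hix
  refine Nat.card_congr
    { toFun := fun d => ⟨i * d.1, Invol.invol_iff.2 ⟨?_, ?_⟩, by rw [mul_smul, d.2.1.1, hix]⟩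
      invFun := fun j => ⟨i * j.1, ⟨by rw [mul_smul, j.2.2, hiy],
        by rw [mul_smul, C.smul_back j.2.1 j.2.2, hix]⟩, ?_⟩
      left_inv := fun d => Subtype.ext (show i * (i * d.1) = d.1 by rw [← mul_assoc, hii, one_mul])
      right_inv := fun j => Subtype.ext (show i * (i * j.1) = j.1 by rw [← mul_assoc, hii, one_mul]) }
  · rw [show i * d.1 * (i * d.1) = (i * d.1 * i⁻¹) * (i * i) * d.1 by group, hii, d.2.2]
    simp
  · intro e
    have h1 : (i * d.1) • x = x := by rw [e, one_smul]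
    rw [mul_smul, d.2.1.1, hix] at h1
    exact h h1.symm
  · rw [show i * (i * j.1) * i⁻¹ = (i * i) * j.1 * i⁻¹ by group, hii, one_mul, hiv, mul_inv_rev, hiv,
      Invol.invol_inv j.2.1]

theorem p_not_dvd : ¬ C.p ∣ Nat.card (oddPart C.S) * C.eps := by
  obtain ⟨g, hg⟩ : ∃ g : G, g ∉ C.N := by
    by_contra h
    push Not at h
    exact C.hnn (normalizer_eq_top_iff.1 (eq_top_iff.2 fun g _ => h g))
  have hne : C.x₀ ≠ g • C.x₀ := fun e => hg (C.stab_x₀.1 e.symm)
  obtain ⟨i, hi, hix, -⟩ := C.exists_swapper hne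
  have hc := C.card_inverted hne hi hix
  haveI := Finite.one_lt_card_iff_nontrivial.1 (hc.symm ▸ C.p_prime.one_lt :
    1 < Nat.card {d : G // (d • C.x₀ = C.x₀ ∧ d • g • C.x₀ = g • C.x₀) ∧ i * d * i⁻¹ = d⁻¹})
  obtain ⟨⟨d, ⟨hdx, hdy⟩, hd⟩, hd1⟩ := exists_ne
    (⟨1, ⟨one_smul G _, one_smul G _⟩, by simp⟩ :
      {d : G // (d • C.x₀ = C.x₀ ∧ d • g • C.x₀ = g • C.x₀) ∧ i * d * i⁻¹ = d⁻¹})
  obtain ⟨l, hl, -, z, hz, hzo, hzi⟩ := exists_prime_inverted (fun e => hd1 (Subtype.ext e)) hd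
  have hz' : z ∈ MulAction.stabilizer G C.x₀ ⊓ MulAction.stabilizer G (g • C.x₀) :=
    zpowers_le.2 (show d ∈ MulAction.stabilizer G C.x₀ ⊓ MulAction.stabilizer G (g • C.x₀) from
      ⟨hdx, hdy⟩) hz
  exact (C.inverted_prime hne hz'.1 hz'.2 hi hl hzo hzi).2

theorem p_sq_not_dvd : ¬ C.p ^ 2 ∣ Nat.card C.N := by
  rw [C.Ncard, show Nat.card (oddPart C.S) * (2 ^ C.r * (C.p * C.eps)) =
    C.p * (Nat.card (oddPart C.S) * C.eps * 2 ^ C.r) by ring, sq]
  intro h
  have h1 := Nat.dvd_of_mul_dvd_mul_left C.p_prime.pos h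
  rcases (Nat.Prime.dvd_mul C.p_prime).1 h1 with h2 | h2
  · exact C.p_not_dvd h2
  · have := (Nat.prime_dvd_prime_iff_eq C.p_prime Nat.prime_two).1 (C.p_prime.dvd_of_dvd_pow h2)
    rcases C.p_val with h3 | h3 <;> omega

theorem eq_of_card_p {z : C.X} {P P' : Subgroup G} (hP : Nat.card P = C.p) (hP' : Nat.card P' = C.p)
    (hfix : ∀ j ∈ P, j • z = z) (hfix' : ∀ j ∈ P', j • z = z)
    (hnorm : P' ≤ normalizer (P : Set G)) : P' = P := by
  haveI := Fact.mk C.p_prime
  by_contra hne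
  have hp1 : IsPGroup C.p P := IsPGroup.of_card (n := 1) (by rw [hP, pow_one])
  have hp2 : IsPGroup C.p P' := IsPGroup.of_card (n := 1) (by rw [hP', pow_one])
  have hsup : IsPGroup C.p ↥(P' ⊔ P) := hp2.to_sup_of_normal_right' hp1 hnorm
  obtain ⟨k, hk⟩ := hsup.exists_card_eq
  have hk2 : 2 ≤ k := by
    by_contra h
    have hle : Nat.card ↥(P' ⊔ P) ≤ C.p := by
      rw [hk]
      calc C.p ^ k ≤ C.p ^ 1 := Nat.pow_le_pow_right C.p_prime.pos (by omega)
        _ = C.p := pow_one _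
    exact hne ((Subgroup.eq_of_le_of_card_ge le_sup_left (by rw [hP']; exact hle)).trans
      (Subgroup.eq_of_le_of_card_ge le_sup_right (by rw [hP]; exact hle)).symm)
  have hle : P' ⊔ P ≤ MulAction.stabilizer G z := sup_le hfix' hfix
  exact C.p_sq_not_dvd ((pow_dvd_pow C.p hk2).trans
    (hk ▸ (card_dvd_of_le hle).trans (dvd_of_eq (C.card_stab z))))

/-- The stabiliser of a pair has a normal subgroup of order `p`, inverted by all swappers. -/
theorem exists_pair {x y : C.X} (h : x ≠ y) :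
    ∃ P : Subgroup G, Nat.card P = C.p ∧ (∀ j ∈ P, j • x = x ∧ j • y = y) ∧
      (∀ d : G, d • x = x → d • y = y → ∀ j ∈ P, d * j * d⁻¹ ∈ P) ∧
      (∀ i : G, orderOf i = 2 → i • x = y → ∀ j ∈ P, i * j * i⁻¹ = j⁻¹) ∧
      ∀ i : G, orderOf i = 2 → i • x = y → ∀ d : G, d • x = x → d • y = y →
        ∃ j ∈ P, ∃ c : G, c • x = x ∧ c • y = y ∧ i * c = c * i ∧ d = c * j := by
  classical
  haveI := Fact.mk C.p_prime
  set D := MulAction.stabilizer G x ⊓ MulAction.stabilizer G y with hD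
  have key : ∀ i : G, orderOf i = 2 → i • x = y → ∃ P : Subgroup G, Nat.card P = C.p ∧
      (∀ j ∈ P, j • x = x ∧ j • y = y) ∧
      (∀ d : G, d • x = x → d • y = y → ∀ j ∈ P, d * j * d⁻¹ ∈ P) ∧
      (∀ j ∈ P, i * j * i⁻¹ = j⁻¹) ∧
      ∀ d : G, d • x = x → d • y = y →
        ∃ j ∈ P, ∃ c : G, c • x = x ∧ c • y = y ∧ i * c = c * i ∧ d = c * j := by
    intro i hi hix
    have hc := C.card_inverted h hi hix
    haveI := Finite.one_lt_card_iff_nontrivial.1 (hc.symm ▸ C.p_prime.one_lt :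
      1 < Nat.card {d : G // (d • x = x ∧ d • y = y) ∧ i * d * i⁻¹ = d⁻¹})
    obtain ⟨⟨j, ⟨hjx, hjy⟩, hj⟩, hj1⟩ := exists_ne
      (⟨1, ⟨one_smul G _, one_smul G _⟩, by simp⟩ :
        {d : G // (d • x = x ∧ d • y = y) ∧ i * d * i⁻¹ = d⁻¹})
    have hj1' : j ≠ 1 := fun e => hj1 (Subtype.ext e)
    have hjD : zpowers j ≤ D := zpowers_le.2 ⟨hjx, hjy⟩
    have hjpow : ∀ z ∈ zpowers j, i * z * i⁻¹ = z⁻¹ := fun z hz => by
      obtain ⟨k, rfl⟩ := mem_zpowers_iff.1 hz
      exact (Invol.conj_zpow_of_inverts hj k).trans (zpow_neg j k)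
    have hjo : orderOf j = C.p := by
      have hall : ∀ {l : ℕ}, l.Prime → l ∣ orderOf j → l = C.p := by
        intro l hl hld
        have ho : orderOf (j ^ (orderOf j / l)) = l := by
          rw [orderOf_pow_of_dvd (Nat.div_pos (Nat.le_of_dvd (orderOf_pos j) hld) hl.pos).ne'
            (Nat.div_dvd_of_dvd hld), Nat.div_div_self hld (orderOf_pos j).ne']
        have hm := npow_mem_zpowers j (orderOf j / l)
        exact (C.inverted_prime h (hjD hm).1 (hjD hm).2 hi hl ho (hjpow _ hm)).1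
      have hpp : orderOf j = C.p ^ (orderOf j).primeFactorsList.length :=
        Nat.eq_prime_pow_of_unique_prime_dvd (orderOf_pos j).ne' hall
      rcases Nat.lt_or_ge (orderOf j).primeFactorsList.length 2 with hlt | hge
      · rcases Nat.eq_zero_or_pos (orderOf j).primeFactorsList.length with h0 | hpos
        · rw [h0, pow_zero, orderOf_eq_one_iff] at hpp
          exact absurd hpp hj1'
        · rw [hpp, show (orderOf j).primeFactorsList.length = 1 by omega, pow_one]
      · exact absurd (((pow_dvd_pow C.p hge).trans (dvd_of_eq hpp.symm)).trans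
          (C.orderOf_dvd_N hjx)) C.p_sq_not_dvd
    have hPc : Nat.card (zpowers j) = C.p := by rw [Nat.card_zpowers, hjo]
    let f : zpowers j → {d : G // (d • x = x ∧ d • y = y) ∧ i * d * i⁻¹ = d⁻¹} :=
      fun z => ⟨z, ⟨(hjD z.2).1, (hjD z.2).2⟩, hjpow z z.2⟩
    have hfs : Function.Surjective f :=
      ((Nat.bijective_iff_injective_and_card f).2
        ⟨fun a b e => Subtype.ext (show (f a).1 = (f b).1 by rw [e]),
          by rw [hPc, hc]⟩).2
    have hall : ∀ d : G, d • x = x → d • y = y → i * d * i⁻¹ = d⁻¹ → d ∈ zpowers j := by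
      intro d hdx hdy hd
      obtain ⟨z, hz⟩ := hfs ⟨d, ⟨hdx, hdy⟩, hd⟩
      rw [← show (z : G) = d from congrArg Subtype.val hz]
      exact z.2
    have hnormD : ∀ d ∈ D, i * d * i⁻¹ ∈ D := fun d hd => by
      have hiy := C.smul_back hi hix
      rw [Invol.invol_inv hi]
      refine ⟨?_, ?_⟩
      · show (i * d * i) • x = x
        rw [mul_smul, mul_smul, hix, show d • y = y from hd.2, hiy]
      · show (i * d * i) • y = y
        rw [mul_smul, mul_smul, hiy, show d • x = x from hd.1, hix]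
    have hdec : ∀ d : G, d • x = x → d • y = y →
        ∃ z ∈ zpowers j, ∃ c : G, c • x = x ∧ c • y = y ∧ i * c = c * i ∧ d = c * z := by
      intro d hdx hdy
      obtain ⟨⟨c, z⟩, ⟨hcm, hzm, he⟩, -⟩ :=
        (Cfsg.Agent.S1124.result i hi D (C.pair_odd h) hnormD).1 d ⟨hdx, hdy⟩
      exact ⟨z, hall z hzm.1.1 hzm.1.2 hzm.2, c, hcm.1.1, hcm.1.2,
        (mem_centralizer_singleton_iff.1 hcm.2).symm, he⟩
    refine ⟨zpowers j, hPc, fun z hz => ⟨(hjD hz).1, (hjD hz).2⟩, ?_, hjpow, hdec⟩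
    intro d hdx hdy z hz
    obtain ⟨z', hz', c, hcx, hcy, hci, rfl⟩ := hdec d hdx hdy
    have hcz : c * z * c⁻¹ ∈ zpowers j := by
      have hc1 : c⁻¹ • x = x := by rw [inv_smul_eq_iff, hcx]
      have hc2 : c⁻¹ • y = y := by rw [inv_smul_eq_iff, hcy]
      refine hall _ ?_ ?_ ?_
      · rw [mul_smul, mul_smul, hc1, (hjD hz).1, hcx]
      · rw [mul_smul, mul_smul, hc2, (hjD hz).2, hcy]
      · calc i * (c * z * c⁻¹) * i⁻¹ = (i * c) * z * (i * c)⁻¹ := by group
          _ = (c * i) * z * (c * i)⁻¹ := by rw [hci]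
          _ = c * (i * z * i⁻¹) * c⁻¹ := by group
          _ = (c * z * c⁻¹)⁻¹ := by rw [hjpow z hz]; group
    have hcomm : z' * z * z'⁻¹ = z := by
      obtain ⟨a, rfl⟩ := mem_zpowers_iff.1 hz'
      obtain ⟨b, rfl⟩ := mem_zpowers_iff.1 hz
      rw [← zpow_add, ← zpow_sub]
      congr 1
      ring
    rw [show c * z' * z * (c * z')⁻¹ = c * (z' * z * z'⁻¹) * c⁻¹ by group, hcomm]
    exact hcz
  obtain ⟨i, hi, hix, -⟩ := C.exists_swapper h
  obtain ⟨P, hP, hPfix, hPn, hPi, hdec⟩ := key i hi hix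
  refine ⟨P, hP, hPfix, hPn, fun i' hi' hix' => ?_, fun i' hi' hix' => ?_⟩
  all_goals
    obtain ⟨P', hP', hPfix', -, hPi', hdec'⟩ := key i' hi' hix'
    have e : P' = P := C.eq_of_card_p hP hP' (fun j hj => (hPfix j hj).1)
      (fun j hj => (hPfix' j hj).1) fun d hd => mem_normalizer_iff.2 fun z => by
        obtain ⟨hdx, hdy⟩ := hPfix' d hd
        refine ⟨fun hz => hPn d hdx hdy z hz, fun hz => ?_⟩
        have hd1 : d⁻¹ • x = x := by rw [inv_smul_eq_iff, hdx]
        have hd2 : d⁻¹ • y = y := by rw [inv_smul_eq_iff, hdy]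
        have := hPn d⁻¹ hd1 hd2 _ hz
        rwa [show d⁻¹ * (d * z * d⁻¹) * d⁻¹⁻¹ = z by group] at this
  · exact fun j hj => hPi' j (e ▸ hj)
  · intro d hdx hdy
    obtain ⟨j, hj, hrest⟩ := hdec' d hdx hdy
    exact ⟨j, e ▸ hj, hrest⟩

/-- Subgroups of order `p` of a point stabiliser are conjugate in it. -/
theorem exists_stab_conj {z : C.X} {P P' : Subgroup G} (hP : Nat.card P = C.p)
    (hP' : Nat.card P' = C.p) (hfix : ∀ j ∈ P, j • z = z) (hfix' : ∀ j ∈ P', j • z = z) :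
    ∃ h : G, h • z = z ∧ P' = P.map (MulAut.conj h).toMonoidHom := by
  haveI := Fact.mk C.p_prime
  set M := MulAction.stabilizer G z
  have hPM : P ≤ M := hfix
  have hP'M : P' ≤ M := hfix'
  have hfac : (Nat.card M).factorization C.p = 1 := by
    rw [C.card_stab z]
    have h1 : 1 ≤ (Nat.card C.N).factorization C.p :=
      (Nat.Prime.dvd_iff_one_le_factorization C.p_prime (Nat.card_pos).ne').1
        (by rw [C.Ncard]; exact dvd_mul_of_dvd_right (dvd_mul_of_dvd_right (dvd_mul_right _ _) _) _)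
    have h2 : ¬ 2 ≤ (Nat.card C.N).factorization C.p := fun h => C.p_sq_not_dvd
      ((Nat.Prime.pow_dvd_iff_le_factorization C.p_prime (Nat.card_pos).ne').2 h)
    omega
  let T : Sylow C.p M := Sylow.ofCard (P.subgroupOf M)
    (by rw [Nat.card_congr (subgroupOfEquivOfLe hPM).toEquiv, hP, hfac, pow_one])
  let T' : Sylow C.p M := Sylow.ofCard (P'.subgroupOf M)
    (by rw [Nat.card_congr (subgroupOfEquivOfLe hP'M).toEquiv, hP', hfac, pow_one])
  obtain ⟨h, hh⟩ := MulAction.exists_smul_eq M T T'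
  refine ⟨h, h.2, ?_⟩
  have e : (P'.subgroupOf M) = (P.subgroupOf M).map (MulAut.conj h).toMonoidHom := by
    have := congrArg (fun s : Sylow C.p M => (s : Subgroup M)) hh.symm
    simp only [Sylow.coe_subgroup_smul] at this
    exact this
  have := congrArg (Subgroup.map M.subtype) e
  rw [subgroupOf_map_subtype, inf_of_le_left hP'M, map_map] at this
  rw [this]
  conv_rhs => rw [← inf_of_le_left hPM, ← subgroupOf_map_subtype, map_map]
  congr 1

/-- A subgroup of order `p` of a pair stabiliser fixes no third point. -/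
theorem fix_eq {x y : C.X} (hxy : x ≠ y) {P : Subgroup G} (hP : Nat.card P = C.p)
    (hfix : ∀ j ∈ P, j • x = x ∧ j • y = y) {z : C.X} (hz : ∀ j ∈ P, j • z = z) :
    z = x ∨ z = y := by
  classical
  haveI := Fact.mk C.p_prime
  set F := {w : C.X // ∀ j ∈ P, j • w = w} with hF
  suffices hf : Nat.card F = 2 by
    have hx : ∀ j ∈ P, j • x = x := fun j hj => (hfix j hj).1
    have hy : ∀ j ∈ P, j • y = y := fun j hj => (hfix j hj).2
    obtain ⟨a, b, hab, huniv⟩ := Nat.card_eq_two_iff.1 hf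
    have hmem : ∀ w : F, w = a ∨ w = b := fun w => by
      have := Set.mem_univ w
      rw [← huniv] at this
      simpa using this
    have hne : (⟨x, hx⟩ : F) ≠ ⟨y, hy⟩ := fun e => hxy (congrArg Subtype.val e)
    rcases hmem ⟨x, hx⟩ with h1 | h1 <;> rcases hmem ⟨y, hy⟩ with h2 | h2 <;>
      rcases hmem ⟨z, hz⟩ with h3 | h3 <;>
      first
        | exact absurd (h1.trans h2.symm) hne
        | exact Or.inl (congrArg Subtype.val (h3.trans h1.symm))
        | exact Or.inr (congrArg Subtype.val (h3.trans h2.symm))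
  -- involutions inverting `P` are exactly the swappers of pairs of fixed points
  have hswap : ∀ a b : F, a ≠ b → ∀ i : G, orderOf i = 2 → i • (a : C.X) = b →
      ∀ j ∈ P, i * j * i⁻¹ = j⁻¹ := by
    intro a b hab i hi hia j hj
    obtain ⟨P₀, hP₀, hfix₀, hn₀, hinv₀, -⟩ := C.exists_pair (fun e => hab (Subtype.ext e))
    have e : P = P₀ := C.eq_of_card_p hP₀ hP (fun j hj => (hfix₀ j hj).1) (fun j hj => a.2 j hj)
      fun d hd => mem_normalizer_iff.2 fun w => by
        refine ⟨fun hw => hn₀ d (a.2 d hd) (b.2 d hd) w hw, fun hw => ?_⟩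
        have := hn₀ d⁻¹ (a.2 _ (inv_mem hd)) (b.2 _ (inv_mem hd)) _ hw
        rwa [show d⁻¹ * (d * w * d⁻¹) * d⁻¹⁻¹ = w by group] at this
    exact hinv₀ i hi hia j (e ▸ hj)
  have hP1 : ∃ j ∈ P, j ≠ 1 := by
    by_contra h
    push Not at h
    have h1 : Nat.card P = 1 := Subgroup.card_eq_one.2 (P.eq_bot_iff_forall.2 h)
    rw [hP] at h1
    exact C.p_prime.ne_one h1
  set I := {i : G // orderOf i = 2 ∧ ∀ j ∈ P, i * j * i⁻¹ = j⁻¹} with hI
  have hIF : ∀ (i : I) (a : F), ∀ j ∈ P, j • (i : G) • (a : C.X) = (i : G) • (a : C.X) := by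
    intro i a j hj
    have e : (i : G) * j⁻¹ * (i : G)⁻¹ = j := by rw [i.2.2 _ (inv_mem hj), inv_inv]
    nth_rewrite 1 [← e]
    rw [mul_smul, mul_smul, inv_smul_smul, a.2 _ (inv_mem hj)]
  have hnofix : ∀ (i : I) (a : F), (i : G) • (a : C.X) ≠ a := by
    intro i a hia
    obtain ⟨g, hg⟩ := C.exists_to_x₀ (a : C.X)
    obtain ⟨j, hj, hj1⟩ := hP1
    have hs := C.invol_mem_S (C.conj_mem_N hg hia) (Invol.invol_conj i.2.1 g)
    have hjN := C.conj_mem_N hg (a.2 j hj)
    have h1 : g * j * g⁻¹ * (g * i * g⁻¹) * (g * j * g⁻¹)⁻¹ * (g * i * g⁻¹)⁻¹ ∈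
        (C.S : Subgroup G) := mul_mem ((mem_normalizer_iff.1 hjN _).1 hs) (inv_mem hs)
    have h2 : g * j * g⁻¹ * (g * i * g⁻¹) * (g * j * g⁻¹)⁻¹ * (g * i * g⁻¹)⁻¹ =
        g * (j * j) * g⁻¹ := by
      calc _ = g * (j * ((i : G) * j⁻¹ * (i : G)⁻¹)) * g⁻¹ := by group
        _ = _ := by rw [i.2.2 _ (inv_mem hj), inv_inv]
    rw [h2] at h1
    have hodd : Odd (orderOf j) := C.p_odd.of_dvd_nat (hP ▸ Subgroup.orderOf_dvd_natCard P hj)
    have hsq := C.sq_one h1
    rw [show g * (j * j) * g⁻¹ * (g * (j * j) * g⁻¹) = g * (j * j * (j * j)) * g⁻¹ by group,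
      mul_inv_eq_one, mul_eq_left] at hsq
    exact hj1 (Invol.eq_one_of_odd_of_pow_two (k := 2) hodd (by
      rw [show (2 : ℕ) ^ 2 = 4 by norm_num, show j ^ 4 = j * j * (j * j) by
        rw [← sq, ← sq, ← pow_mul]]; exact hsq))
  -- double counting
  have e : I × F ≃ Σ q : {q : F × F // q.1 ≠ q.2},
      {i : G // orderOf i = 2 ∧ i • (q.1.1 : C.X) = q.1.2} :=
    { toFun := fun w => ⟨⟨(w.2, ⟨(w.1 : G) • (w.2 : C.X), hIF w.1 w.2⟩),
        fun e => hnofix w.1 w.2 (congrArg Subtype.val e).symm⟩, ⟨w.1, w.1.2.1, rfl⟩⟩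
      invFun := fun s => (⟨s.2.1, s.2.2.1, hswap s.1.1.1 s.1.1.2 s.1.2 s.2.1 s.2.2.1 s.2.2.2⟩,
        s.1.1.1)
      left_inv := fun w => rfl
      right_inv := by
        rintro ⟨⟨⟨a, b⟩, hab⟩, ⟨i, hi, hia⟩⟩
        simp only at hia
        obtain ⟨b, hb⟩ := b
        simp only at hia
        subst hia
        rfl }
  haveI := Fintype.ofFinite F
  have hpairs : Nat.card {q : F × F // q.1 ≠ q.2} = Nat.card F * Nat.card F - Nat.card F := by
    rw [Nat.card_eq_fintype_card, Fintype.card_subtype_compl, Fintype.card_prod,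
      Nat.card_eq_fintype_card]
    congr 1
    exact Fintype.card_congr ⟨fun q => q.1.1, fun a => ⟨(a, a), rfl⟩,
      fun q => Subtype.ext (Prod.ext rfl q.2), fun a => rfl⟩
  have hcount := Nat.card_congr e
  rw [Nat.card_prod, Nat.card_sigma] at hcount
  rw [Finset.sum_congr rfl (fun q _ => C.card_swappers (fun e => q.2 (Subtype.ext e))),
    Finset.sum_const, smul_eq_mul, Finset.card_univ, ← Nat.card_eq_fintype_card, hpairs] at hcount
  set f := Nat.card F with hfdef
  have hf2 : 2 ≤ f := by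
    have : Nontrivial F := ⟨⟨x, fun j hj => (hfix j hj).1⟩, ⟨y, fun j hj => (hfix j hj).2⟩,
      fun e => hxy (congrArg Subtype.val e)⟩
    exact Finite.one_lt_card
  have hIcard : Nat.card I = (f - 1) * C.p := by
    refine Nat.eq_of_mul_eq_mul_right (show 0 < f by omega) ?_
    rw [hcount, Nat.sub_mul, Nat.sub_mul, one_mul, Nat.sub_mul]
    congr 1 <;> ring
  -- the centraliser of `P`
  obtain ⟨i₀, hi₀, hi₀x, -⟩ := C.exists_swapper hxy
  have hi₀inv := hswap ⟨x, fun j hj => (hfix j hj).1⟩ ⟨y, fun j hj => (hfix j hj).2⟩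
    (fun e => hxy (congrArg Subtype.val e)) i₀ hi₀ hi₀x
  have hi₀i := Invol.invol_inv hi₀
  have hi₀sq := Invol.invol_mul_self hi₀
  set CP := centralizer (P : Set G) with hCP
  have hCPodd : Odd (Nat.card CP) := by
    rw [← Nat.not_even_iff_odd]
    intro hev
    obtain ⟨t, ht, ht2⟩ := Invol.exists_invol_mem hev
    obtain ⟨w, hw⟩ := C.exists_fixed ht2
    obtain ⟨g, hg⟩ := C.exists_to_x₀ w
    obtain ⟨j, hj, hj1⟩ := hP1
    have hs := C.invol_mem_S (C.conj_mem_N hg hw) (Invol.invol_conj ht2 g)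
    have hjo : orderOf (g * j * g⁻¹) = C.p := by
      rw [← MulAut.conj_apply, MulEquiv.orderOf_eq]
      rcases (Nat.dvd_prime C.p_prime).1 (hP ▸ Subgroup.orderOf_dvd_natCard P hj) with h | h
      · exact absurd (orderOf_eq_one_iff.1 h) hj1
      · exact h
    have hjc : g * j * g⁻¹ ∈ centralizer ({g * t * g⁻¹} : Set G) :=
      mem_centralizer_singleton_iff.2 (by
        rw [← MulAut.conj_apply, ← MulAut.conj_apply, ← map_mul, ← map_mul,
          mem_centralizer_iff.1 ht j hj])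
    have hdvd := Subgroup.orderOf_dvd_natCard _ hjc
    rw [hjo, C.card_cent hs (Invol.invol_conj ht2 g),
      show Nat.card (oddPart C.S) * (2 ^ C.r * C.eps) =
        Nat.card (oddPart C.S) * C.eps * 2 ^ C.r by ring] at hdvd
    rcases (Nat.Prime.dvd_mul C.p_prime).1 hdvd with h | h
    · exact C.p_not_dvd h
    · have := (Nat.prime_dvd_prime_iff_eq C.p_prime Nat.prime_two).1 (C.p_prime.dvd_of_dvd_pow h)
      rcases C.p_val with h3 | h3 <;> omega
  have hCPn : ∀ c ∈ CP, i₀ * c * i₀⁻¹ ∈ CP := by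
    intro c hc
    refine mem_centralizer_iff.2 fun j hj => ?_
    have e : i₀ * j⁻¹ * i₀⁻¹ = j := by rw [hi₀inv _ (inv_mem hj), inv_inv]
    nth_rewrite 1 [← e]
    nth_rewrite 2 [← e]
    rw [show i₀ * j⁻¹ * i₀⁻¹ * (i₀ * c * i₀⁻¹) = i₀ * (j⁻¹ * c) * i₀⁻¹ by group,
      mem_centralizer_iff.1 hc _ (inv_mem hj)]
    group
  obtain ⟨-, hCPcard, -⟩ := Cfsg.Agent.S1124.result i₀ hi₀ CP hCPodd hCPn
  have eI : Nat.card (Cfsg.invertedBy CP i₀) = Nat.card I := by
    refine Nat.card_congr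
      { toFun := fun c => ⟨i₀ * c.1, Invol.invol_iff.2 ⟨?_, ?_⟩, fun j hj => ?_⟩
        invFun := fun i => ⟨i₀ * i.1, mem_centralizer_iff.2 fun j hj => ?_, ?_⟩
        left_inv := fun c => Subtype.ext
          (show i₀ * (i₀ * c.1) = c.1 by rw [← mul_assoc, hi₀sq, one_mul])
        right_inv := fun i => Subtype.ext
          (show i₀ * (i₀ * i.1) = i.1 by rw [← mul_assoc, hi₀sq, one_mul]) }
    · rw [show i₀ * c.1 * (i₀ * c.1) = (i₀ * c.1 * i₀⁻¹) * (i₀ * i₀) * c.1 by group, hi₀sq,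
        c.2.2]
      simp
    · intro e
      have h1 := eq_inv_of_mul_eq_one_right e
      rw [hi₀i] at h1
      obtain ⟨j, hj, hj1⟩ := hP1
      have h2 := hi₀inv j hj
      have h3 := mem_centralizer_iff.1 c.2.1 j hj
      rw [h1] at h3
      rw [← h3, mul_inv_cancel_right] at h2
      exact hj1 (Invol.eq_one_of_odd_of_mul_self
        (C.p_odd.of_dvd_nat (hP ▸ Subgroup.orderOf_dvd_natCard P hj))
        (by nth_rewrite 1 [h2]; exact inv_mul_cancel j))
    · calc i₀ * c.1 * j * (i₀ * c.1)⁻¹ = i₀ * (c.1 * j * c.1⁻¹) * i₀⁻¹ := by group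
        _ = j⁻¹ := by rw [← mem_centralizer_iff.1 c.2.1 j hj, mul_inv_cancel_right, hi₀inv j hj]
    · have e1 : i₀ * (i.1 * j * i.1⁻¹) * i₀⁻¹ = j := by
        rw [i.2.2 j hj, hi₀inv _ (inv_mem hj), inv_inv]
      calc j * (i₀ * i.1) = i₀ * (i.1 * j * i.1⁻¹) * i₀⁻¹ * (i₀ * i.1) := by rw [e1]
        _ = i₀ * i.1 * j := by group
    · rw [show i₀ * (i₀ * i.1) * i₀⁻¹ = (i₀ * i₀) * i.1 * i₀⁻¹ by group, hi₀sq, one_mul,
        mul_inv_rev, Invol.invol_inv i.2.1]
  rw [eI, hIcard] at hCPcard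
  -- the orbit of `x` under the centraliser inside the normaliser
  set NP := normalizer (P : Set G) with hNP
  have horb : MulAction.orbit NP x = {w : C.X | ∀ j ∈ P, j • w = w} := by
    ext w
    constructor
    · rintro ⟨⟨g, hg⟩, rfl⟩ j hj
      have hmem : g⁻¹ * j * g ∈ P := by
        have := (mem_normalizer_iff.1 (inv_mem hg) j).1 hj
        rwa [inv_inv] at this
      show j • g • x = g • x
      rw [smul_smul, show j * g = g * (g⁻¹ * j * g) by group, mul_smul, (hfix _ hmem).1]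
    · intro hw
      obtain ⟨g, hg⟩ := MulAction.exists_smul_eq G x w
      obtain ⟨h, hhw, hh⟩ := C.exists_stab_conj (z := w) (P := P.map (MulAut.conj g).toMonoidHom)
        (P' := P) (by rw [card_map_of_injective (MulAut.conj g).injective, hP]) hP (by
          rintro _ ⟨j, hj, rfl⟩
          show (g * j * g⁻¹) • w = w
          rw [← hg, mul_smul, inv_smul_smul, mul_smul, (hfix j hj).1]) hw
      refine ⟨⟨h * g, Invol.mem_normalizer_of_conj_map_eq ?_⟩, ?_⟩
      · conv_rhs => rw [hh, map_map]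
        congr 1
        ext v
        simp [mul_assoc]
      · show (h * g) • x = w
        rw [mul_smul, hg, hhw]
  set H := MulAction.stabilizer NP x with hH
  have hHidx : H.index = f := by
    rw [MulAction.index_stabilizer, horb, ← Nat.card_coe_set_eq]
    rfl
  set C' := CP.subgroupOf NP with hC'
  haveI : C'.Normal := by
    refine ⟨fun c hc g => ?_⟩
    show (g : G) * c * (g : G)⁻¹ ∈ CP
    refine mem_centralizer_iff.2 fun j hj => ?_
    have hmem : (g : G)⁻¹ * j * g ∈ P := by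
      have := (mem_normalizer_iff.1 (inv_mem g.2) j).1 hj
      rwa [inv_inv] at this
    calc j * ((g : G) * c * (g : G)⁻¹) = (g : G) * ((g : G)⁻¹ * j * g * c) * (g : G)⁻¹ := by group
      _ = (g : G) * (c * ((g : G)⁻¹ * j * g)) * (g : G)⁻¹ := by
          rw [show (g : G)⁻¹ * j * g * c = c * ((g : G)⁻¹ * j * g) from
            mem_centralizer_iff.1 (show (c : G) ∈ CP from hc) _ hmem]
      _ = (g : G) * c * (g : G)⁻¹ * j := by group
  have hCPle : CP ≤ NP := fun c hc => mem_normalizer_iff.2 fun j => by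
    constructor
    · intro hj
      rwa [← mem_centralizer_iff.1 hc j hj, mul_inv_cancel_right]
    · intro hj
      have h := mem_centralizer_iff.1 hc _ hj
      rw [inv_mul_cancel_right] at h
      rw [(mul_left_cancel h).symm] at hj
      exact hj
  set o := (H ⊓ C').relIndex C' with ho
  have hof : o ∣ f := by
    have e1 := relIndex_mul_relIndex ⊥ (H ⊓ C') C' bot_le inf_le_right
    have e2 := relIndex_mul_relIndex ⊥ (H ⊓ C') H bot_le inf_le_left
    have e3 := relIndex_mul_relIndex ⊥ C' (H ⊔ C') bot_le le_sup_right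
    rw [relIndex_bot_left, relIndex_bot_left] at e1 e2 e3
    rw [inf_relIndex_left] at e2
    rw [relIndex_sup_right] at e3
    have e4 := card_dvd_of_le (le_top : H ⊔ C' ≤ ⊤)
    rw [card_top, ← H.card_mul_index, hHidx, ← e3, ← e1, ← e2] at e4
    refine Nat.dvd_of_mul_dvd_mul_left
      (show 0 < Nat.card ↥(H ⊓ C') * C'.relIndex H by rw [e2]; exact Nat.card_pos) ?_
    rw [← ho] at e4
    calc Nat.card ↥(H ⊓ C') * C'.relIndex H * o = Nat.card ↥(H ⊓ C') * o * C'.relIndex H := by ring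
      _ ∣ _ := e4
  have hsplit : Nat.card CP = Nat.card ↥(H ⊓ C') * o := by
    have e1 := relIndex_mul_relIndex ⊥ (H ⊓ C') C' bot_le inf_le_right
    rw [relIndex_bot_left, relIndex_bot_left, ← ho,
      Nat.card_congr (subgroupOfEquivOfLe hCPle).toEquiv] at e1
    exact e1.symm
  have hHN : Nat.card ↥(H ⊓ C') ∣ Nat.card C.N := by
    rw [← C.card_stab x, ← card_map_of_injective NP.subtype_injective]
    refine card_dvd_of_le ?_
    rintro _ ⟨g, ⟨hg, -⟩, rfl⟩
    exact hg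
  -- conclude
  by_contra hne
  obtain ⟨l, hl, hld⟩ := Nat.exists_prime_and_dvd (show f - 1 ≠ 1 by omega)
  have hlCP : l ∣ Nat.card CP := hCPcard ▸ Dvd.dvd.mul_left (dvd_mul_of_dvd_left hld _) _
  have hl2 : l ≠ 2 := by
    rintro rfl
    exact Nat.not_even_iff_odd.2 hCPodd (even_iff_two_dvd.2 hlCP)
  have hlo : ¬ l ∣ o := fun h => by
    have h1 := Nat.dvd_sub (h.trans hof) hld
    rw [show f - (f - 1) = 1 by omega] at h1
    exact hl.not_dvd_one h1
  by_cases hlp : l = C.p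
  · subst hlp
    have h2 : C.p ^ 2 ∣ Nat.card ↥(H ⊓ C') * o := by
      rw [← hsplit, hCPcard, sq]
      exact Dvd.dvd.mul_left (mul_dvd_mul_right hld _) _
    exact C.p_sq_not_dvd ((((C.p_prime.coprime_iff_not_dvd).2 hlo).pow_left 2).dvd_of_dvd_mul_right
      h2 |>.trans hHN)
  · have hlN : l ∣ Nat.card C.N :=
      (((Nat.Prime.dvd_mul hl).1 (hsplit ▸ hlCP)).resolve_right hlo).trans hHN
    rw [C.Ncard, show Nat.card (oddPart C.S) * (2 ^ C.r * (C.p * C.eps)) =
      Nat.card (oddPart C.S) * C.eps * (2 ^ C.r * C.p) by ring] at hlN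
    have hlW : l ∣ Nat.card (oddPart C.S) * C.eps := by
      rcases (Nat.Prime.dvd_mul hl).1 hlN with h | h
      · exact h
      rcases (Nat.Prime.dvd_mul hl).1 h with h | h
      · exact absurd ((Nat.prime_dvd_prime_iff_eq hl Nat.prime_two).1 (hl.dvd_of_dvd_pow h)) hl2
      · exact absurd ((Nat.prime_dvd_prime_iff_eq hl C.p_prime).1 h) hlp
    obtain ⟨c, -, hco, hci⟩ := exists_inverted_of_dvd hi₀ hCPodd hCPn hl (by
      have e1 := relIndex_mul_relIndex ⊥ (CP ⊓ centralizer ({i₀} : Set G)) CP bot_le inf_le_left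
      rw [relIndex_bot_left, relIndex_bot_left, hCPcard] at e1
      rw [Nat.eq_of_mul_eq_mul_left Nat.card_pos e1]
      exact dvd_mul_of_dvd_left hld _)
    exact C.no_inverted hl hl2 hlW hco hi₀ hci

end Ctx

end CfsgLib.EqConj
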